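import Mathlib
import Cfsg.Agent.Lib.Block.DihComb

/-! Integer vectors attached to tame defect groups. -/

set_option autoImplicit false
set_option linter.unusedSectionVars false

namespace H33.Tame

open Finset

variable {ι κ : Type*} [DecidableEq ι]

/-- `w` has the entries `±1` at four points and vanishes elsewhere. -/
structure Four (s : Finset ι) (w : ι → ℤ) (a b e f : ι) : Prop where
  ma : a ∈ s
  mb : b ∈ s
  me : e ∈ s
  mf : f ∈ s
  ab : a ≠ b
  ae : a ≠ e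
  af : a ≠ f
  be : b ≠ e
  bf : b ≠ f
  ef : e ≠ f
  wa : w a = 1 ∨ w a = -1
  wb : w b = 1 ∨ w b = -1
  we : w e = 1 ∨ w e = -1
  wf : w f = 1 ∨ w f = -1
  zero : ∀ i ∈ s, i ≠ a → i ≠ b → i ≠ e → i ≠ f → w i = 0

variable {s : Finset ι} {w v v' d : ι → ℤ} {a b e f c c' : ι}

theorem Four.swap₁ (h : Four s w a b e f) : Four s w b a e f :=
  ⟨h.mb, h.ma, h.me, h.mf, h.ab.symm, h.be, h.bf, h.ae, h.af, h.ef, h.wb, h.wa, h.we, h.wf,
    fun i hi h1 h2 h3 h4 => h.zero i hi h2 h1 h3 h4⟩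

theorem Four.swap₂ (h : Four s w a b e f) : Four s w a e b f :=
  ⟨h.ma, h.me, h.mb, h.mf, h.ae, h.ab, h.af, h.be.symm, h.ef, h.bf, h.wa, h.we, h.wb, h.wf,
    fun i hi h1 h2 h3 h4 => h.zero i hi h1 h3 h2 h4⟩

theorem Four.swap₃ (h : Four s w a b e f) : Four s w a b f e :=
  ⟨h.ma, h.mb, h.mf, h.me, h.ab, h.af, h.ae, h.bf, h.be, h.ef.symm, h.wa, h.wb, h.wf, h.we,
    fun i hi h1 h2 h3 h4 => h.zero i hi h1 h2 h4 h3⟩

theorem Four.ne_zero_iff (h : Four s w a b e f) {i : ι} (hi : i ∈ s) :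
    w i ≠ 0 ↔ i = a ∨ i = b ∨ i = e ∨ i = f := by
  constructor
  · intro h0
    by_contra hc
    push Not at hc
    exact h0 (h.zero i hi hc.1 hc.2.1 hc.2.2.1 hc.2.2.2)
  · have := h.wa; have := h.wb; have := h.we; have := h.wf
    rintro (rfl | rfl | rfl | rfl) <;> omega

theorem Four.sum_split {A : Type*} [AddCommMonoid A] (h : Four s w a b e f) (g : ι → A) :
    ∑ i ∈ s, g i = g a + g b + g e + g f + ∑ i ∈ s \ {a, b, e, f}, g i := by
  have hs : ({a, b, e, f} : Finset ι) ⊆ s := by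
    intro i hi
    simp only [mem_insert, mem_singleton] at hi
    rcases hi with rfl | rfl | rfl | rfl
    exacts [h.ma, h.mb, h.me, h.mf]
  rw [← sum_sdiff hs, sum_insert (by simp [h.ab, h.ae, h.af]), sum_insert (by simp [h.be, h.bf]),
    sum_pair h.ef]
  abel

theorem Four.sum_mul {A : Type*} [CommRing A] (h : Four s w a b e f) (g : ι → A) :
    ∑ i ∈ s, (w i : A) * g i = w a * g a + w b * g b + w e * g e + w f * g f :=
  sum_eq_four h.ma h.mb h.me h.mf h.ab h.ae h.af h.be h.bf h.ef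
    fun i hi h1 h2 h3 h4 => by rw [h.zero i hi h1 h2 h3 h4]; simp

theorem exists_four (h4 : ∑ i ∈ s, w i * w i = 4) {o : ι} (ho : o ∈ s) (hodd : Odd (w o)) :
    ∃ a b e f, Four s w a b e f := by
  have h3 : w o * w o ≤ 4 := h4 ▸ single_le_sum (f := fun i => w i * w i)
    (fun j _ => mul_self_nonneg _) ho
  have h5 : w o ≤ 2 := by nlinarith
  have h6 : -2 ≤ w o := by nlinarith
  have h1 : w o = 1 ∨ w o = -1 := by obtain ⟨t, ht⟩ := hodd; omega
  have h7 : ∑ i ∈ s.erase o, w i * w i = (3 : ℕ) := by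
    rw [← add_sum_erase s _ ho] at h4
    rcases h1 with h1 | h1 <;> rw [h1] at h4 <;> push_cast <;> omega
  obtain ⟨hc, hv⟩ := supp_of_norm_le_three le_rfl h7
  obtain ⟨x, y, z, hxy, hxz, hyz, he⟩ := card_eq_three.mp hc
  have hm : ∀ i, (i ∈ s.erase o ∧ w i ≠ 0) ↔ (i = x ∨ i = y ∨ i = z) := fun i => by
    rw [← mem_filter (p := fun i => w i ≠ 0), he]; simp
  have hx := (hm x).mpr (Or.inl rfl)
  have hy := (hm y).mpr (Or.inr (Or.inl rfl))
  have hz := (hm z).mpr (Or.inr (Or.inr rfl))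
  refine ⟨o, x, y, z, ho, mem_of_mem_erase hx.1, mem_of_mem_erase hy.1, mem_of_mem_erase hz.1,
    (ne_of_mem_erase hx.1).symm, (ne_of_mem_erase hy.1).symm, (ne_of_mem_erase hz.1).symm,
    hxy, hxz, hyz, h1, hv x hx.1 hx.2, hv y hy.1 hy.2, hv z hz.1 hz.2, fun i hi h1 h2 h3 h4 => ?_⟩
  by_contra h0
  rcases (hm i).mp ⟨mem_erase.mpr ⟨h1, hi⟩, h0⟩ with h | h | h <;> contradiction

/-- A vector of norm four that is odd on the support of `w`. -/
theorem Four.of_odd (h : Four s w a b e f) (h4 : ∑ i ∈ s, d i * d i = 4)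
    (ho : ∀ i ∈ s, w i ≠ 0 → Odd (d i)) : Four s d a b e f := by
  have oa := ho a h.ma ((h.ne_zero_iff h.ma).mpr (by simp))
  have ob := ho b h.mb ((h.ne_zero_iff h.mb).mpr (by simp))
  have oe := ho e h.me ((h.ne_zero_iff h.me).mpr (by simp))
  have of := ho f h.mf ((h.ne_zero_iff h.mf).mpr (by simp))
  have key : ∀ x : ℤ, Odd x → 1 ≤ x * x := fun x ⟨t, ht⟩ => by
    have : x ≠ 0 := by omega
    have := mul_self_pos.mpr this
    omega
  have key2 : ∀ x : ℤ, x * x = 1 → x = 1 ∨ x = -1 := fun x hx => Int.eq_one_or_neg_one_of_mul_eq_one hx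
  rw [h.sum_split] at h4
  have h0 : 0 ≤ ∑ i ∈ s \ {a, b, e, f}, d i * d i := sum_nonneg fun i _ => mul_self_nonneg _
  have := key _ oa; have := key _ ob; have := key _ oe; have := key _ of
  have h1 : ∑ i ∈ s \ {a, b, e, f}, d i * d i = 0 := by omega
  rw [sum_eq_zero_iff_of_nonneg fun i _ => mul_self_nonneg _] at h1
  refine ⟨h.ma, h.mb, h.me, h.mf, h.ab, h.ae, h.af, h.be, h.bf, h.ef, key2 _ (by omega),
    key2 _ (by omega), key2 _ (by omega), key2 _ (by omega), fun i hi h2 h3 h4 h5 => ?_⟩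
  exact mul_self_eq_zero.mp (h1 i (by simp [hi, h2, h3, h4, h5]))

/-- A vector of norm three and inner product two with `w`. -/
structure Row (s : Finset ι) (w v : ι → ℤ) (a b e f c : ι) : Prop where
  mc : c ∈ s
  ca : c ≠ a
  cb : c ≠ b
  ce : c ≠ e
  cf : c ≠ f
  vc : v c = 1 ∨ v c = -1
  va : v a = w a ∨ v a = 0
  vb : v b = w b ∨ v b = 0
  ve : v e = w e ∨ v e = 0
  vf : v f = w f ∨ v f = 0
  two : w a * v a + w b * v b + w e * v e + w f * v f = 2
  zero : ∀ i ∈ s, i ≠ a → i ≠ b → i ≠ e → i ≠ f → i ≠ c → v i = 0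

theorem row_aux {wa wb we wf va vb ve vf T : ℤ} (ha : wa = 1 ∨ wa = -1) (hb : wb = 1 ∨ wb = -1)
    (he : we = 1 ∨ we = -1) (hf : wf = 1 ∨ wf = -1) (ka : va = 0 ∨ va = 1 ∨ va = -1)
    (kb : vb = 0 ∨ vb = 1 ∨ vb = -1) (ke : ve = 0 ∨ ve = 1 ∨ ve = -1)
    (kf : vf = 0 ∨ vf = 1 ∨ vf = -1) (h2 : wa * va + wb * vb + we * ve + wf * vf = 2)
    (h3 : va * va + vb * vb + ve * ve + vf * vf + T = 3) (h0 : 0 ≤ T) :
    (va = wa ∨ va = 0) ∧ (vb = wb ∨ vb = 0) ∧ (ve = we ∨ ve = 0) ∧ (vf = wf ∨ vf = 0) ∧ T = 1 := by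
  rcases ha with rfl | rfl <;> rcases hb with rfl | rfl <;> rcases he with rfl | rfl <;>
    rcases hf with rfl | rfl <;> rcases ka with rfl | rfl | rfl <;>
    rcases kb with rfl | rfl | rfl <;> rcases ke with rfl | rfl | rfl <;>
    rcases kf with rfl | rfl | rfl <;> omega

theorem cases_aux {wa wb we wf va vb ve vf : ℤ} (ha : wa = 1 ∨ wa = -1) (hb : wb = 1 ∨ wb = -1)
    (he : we = 1 ∨ we = -1) (hf : wf = 1 ∨ wf = -1) (ka : va = wa ∨ va = 0)
    (kb : vb = wb ∨ vb = 0) (ke : ve = we ∨ ve = 0) (kf : vf = wf ∨ vf = 0)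
    (h2 : wa * va + wb * vb + we * ve + wf * vf = 2) :
    (va = wa ∧ vb = wb ∧ ve = 0 ∧ vf = 0) ∨ (va = wa ∧ ve = we ∧ vb = 0 ∧ vf = 0) ∨
    (va = wa ∧ vf = wf ∧ vb = 0 ∧ ve = 0) ∨ (vb = wb ∧ ve = we ∧ va = 0 ∧ vf = 0) ∨
    (vb = wb ∧ vf = wf ∧ va = 0 ∧ ve = 0) ∨ (ve = we ∧ vf = wf ∧ va = 0 ∧ vb = 0) := by
  rcases ha with rfl | rfl <;> rcases hb with rfl | rfl <;> rcases he with rfl | rfl <;>
    rcases hf with rfl | rfl <;> rcases ka with rfl | rfl <;>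
    rcases kb with rfl | rfl <;> rcases ke with rfl | rfl <;>
    rcases kf with rfl | rfl <;> omega

theorem Four.exists_row (h : Four s w a b e f) (h3 : ∑ i ∈ s, v i * v i = 3)
    (h2 : ∑ i ∈ s, w i * v i = 2) : ∃ c, Row s w v a b e f c := by
  have hv := (supp_of_norm_le_three (n := 3) le_rfl h3).2
  have h2' := h.sum_mul (A := ℤ) v
  simp only [Int.cast_id] at h2'
  rw [h2'] at h2
  rw [h.sum_split] at h3
  have h0 : 0 ≤ ∑ i ∈ s \ {a, b, e, f}, v i * v i := sum_nonneg fun i _ => mul_self_nonneg _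
  have va : v a = 0 ∨ v a = 1 ∨ v a = -1 := by have := hv a h.ma; omega
  have vb : v b = 0 ∨ v b = 1 ∨ v b = -1 := by have := hv b h.mb; omega
  have ve : v e = 0 ∨ v e = 1 ∨ v e = -1 := by have := hv e h.me; omega
  have vf : v f = 0 ∨ v f = 1 ∨ v f = -1 := by have := hv f h.mf; omega
  have key : (v a = w a ∨ v a = 0) ∧ (v b = w b ∨ v b = 0) ∧ (v e = w e ∨ v e = 0) ∧
      (v f = w f ∨ v f = 0) ∧ ∑ i ∈ s \ {a, b, e, f}, v i * v i = (1 : ℕ) :=
    row_aux h.wa h.wb h.we h.wf va vb ve vf h2 h3 h0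
  obtain ⟨k1, k2, k3, k4, k5⟩ := key
  obtain ⟨hc, hv'⟩ := supp_of_norm_le_three (by norm_num) k5
  obtain ⟨c, hc⟩ := card_eq_one.mp hc
  have hm : ∀ i, (i ∈ s \ {a, b, e, f} ∧ v i ≠ 0) ↔ i = c := fun i => by
    rw [← mem_filter (p := fun i => v i ≠ 0), hc]; simp
  have hc' := (hm c).mpr rfl
  have hc2 := hc'.1
  simp only [mem_sdiff, mem_insert, mem_singleton, not_or] at hc2
  refine ⟨c, hc2.1, hc2.2.1, hc2.2.2.1, hc2.2.2.2.1, hc2.2.2.2.2, hv' c hc'.1 hc'.2, k1, k2, k3,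
    k4, h2, fun i hi h1 h2 h3 h4 h5 => ?_⟩
  by_contra h0
  exact h5 ((hm i).mp ⟨by simp [hi, h1, h2, h3, h4], h0⟩)

theorem Row.sum_mul {A : Type*} [CommRing A] (h : Four s w a b e f) (r : Row s w v a b e f c)
    (g : ι → A) : ∑ i ∈ s, (v i : A) * g i =
      v a * g a + v b * g b + v e * g e + v f * g f + v c * g c := by
  rw [h.sum_split, sum_eq_single_of_mem c (by simp [r.mc, r.ca, r.cb, r.ce, r.cf])]
  intro i hi hic
  simp only [mem_sdiff, mem_insert, mem_singleton, not_or] at hi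
  rw [r.zero i hi.1 hi.2.1 hi.2.2.1 hi.2.2.2.1 hi.2.2.2.2 hic]
  simp

theorem Row.ip (h : Four s w a b e f) (r : Row s w v a b e f c) (r' : Row s w v' a b e f c') :
    ∑ i ∈ s, v i * v' i = v a * v' a + v b * v' b + v e * v' e + v f * v' f +
      if c = c' then v c * v' c else 0 := by
  have := r.sum_mul (A := ℤ) h v'
  simp only [Int.cast_id] at this
  rw [this]
  split_ifs with hc
  · rfl
  · rw [r'.zero c r.mc r.ca r.cb r.ce r.cf hc, mul_zero]

theorem Row.swap₁ (r : Row s w v a b e f c) : Row s w v b a e f c :=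
  ⟨r.mc, r.cb, r.ca, r.ce, r.cf, r.vc, r.vb, r.va, r.ve, r.vf, by have := r.two; omega,
    fun i hi h1 h2 h3 h4 => r.zero i hi h2 h1 h3 h4⟩

theorem Row.swap₂ (r : Row s w v a b e f c) : Row s w v a e b f c :=
  ⟨r.mc, r.ca, r.ce, r.cb, r.cf, r.vc, r.va, r.ve, r.vb, r.vf, by have := r.two; omega,
    fun i hi h1 h2 h3 h4 => r.zero i hi h1 h3 h2 h4⟩

theorem Row.swap₃ (r : Row s w v a b e f c) : Row s w v a b f e c :=
  ⟨r.mc, r.ca, r.cb, r.cf, r.ce, r.vc, r.va, r.vb, r.vf, r.ve, by have := r.two; omega,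
    fun i hi h1 h2 h3 h4 => r.zero i hi h1 h2 h4 h3⟩

/-- The six patterns of a row. -/
theorem Row.cases (h : Four s w a b e f) (r : Row s w v a b e f c) :
    (v a = w a ∧ v b = w b ∧ v e = 0 ∧ v f = 0) ∨ (v a = w a ∧ v e = w e ∧ v b = 0 ∧ v f = 0) ∨
    (v a = w a ∧ v f = w f ∧ v b = 0 ∧ v e = 0) ∨ (v b = w b ∧ v e = w e ∧ v a = 0 ∧ v f = 0) ∨
    (v b = w b ∧ v f = w f ∧ v a = 0 ∧ v e = 0) ∨ (v e = w e ∧ v f = w f ∧ v a = 0 ∧ v b = 0) :=
  cases_aux h.wa h.wb h.we h.wf r.va r.vb r.ve r.vf r.two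

theorem Row.relabel (h : Four s w a b e f) (r : Row s w v a b e f c) : ∃ a b e f,
    Four s w a b e f ∧ v a = w a ∧ v b = w b ∧ v e = 0 ∧ v f = 0 := by
  rcases r.cases h with k | k | k | k | k | k
  · exact ⟨a, b, e, f, h, k⟩
  · exact ⟨a, e, b, f, h.swap₂, k⟩
  · exact ⟨a, f, b, e, h.swap₃.swap₂, k⟩
  · exact ⟨b, e, a, f, h.swap₁.swap₂, k⟩
  · exact ⟨b, f, a, e, h.swap₁.swap₃.swap₂, k⟩
  · exact ⟨e, f, a, b, h.swap₂.swap₁.swap₃.swap₂, k⟩

/-- The standard configuration. -/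
structure Std (s : Finset ι) (R : Finset κ) (v : κ → ι → ℤ) (w : ι → ℤ) (a b e f : ι)
    (c : κ → ι) : Prop where
  four : Four s w a b e f
  row : ∀ r ∈ R, Row s w (v r) a b e f (c r)
  va : ∀ r ∈ R, v r a = w a
  vb : ∀ r ∈ R, v r b = w b
  ve : ∀ r ∈ R, v r e = 0
  vf : ∀ r ∈ R, v r f = 0
  inj : ∀ r ∈ R, ∀ r' ∈ R, c r = c r' → r = r'

/-- The exotic configuration. -/
structure Exo (s : Finset ι) (R : Finset κ) (v : κ → ι → ℤ) (w π : ι → ℤ) (o : ι) : Prop where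
  card : R.card = 3
  mo : o ∈ s
  wo : w o ≠ 0
  supp : (s.filter (π · ≠ 0)).card = 5
  zero : ∀ i ∈ s, π i = 0 ↔ w i = 0 ∧ ∀ r ∈ R, v r i = 0
  norm : ∑ i ∈ s, π i * π i = 16
  rel : ∀ W : ι → ℂ, ∑ i ∈ s, (w i : ℂ) * W i = 0 → (∀ r ∈ R, ∑ i ∈ s, (v r i : ℂ) * W i = 0) →
    ∀ i ∈ s, π i ≠ 0 → W i = π i * W o

theorem Exo.le_norm {R : Finset κ} {v : κ → ι → ℤ} {π : ι → ℤ} {o : ι} (h : Exo s R v w π o)
    (hw : ∑ i ∈ s, w i * d i = 0) (hv : ∀ r ∈ R, ∑ i ∈ s, v r i * d i = 0)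
    (ho : d o ≠ 0) : 16 ≤ ∑ i ∈ s, d i * d i := by
  have h1 := h.rel (fun i => d i) (by exact_mod_cast hw) (fun r hr => by exact_mod_cast hv r hr)
  have h2 : 1 ≤ d o * d o := by have := mul_self_pos.mpr ho; omega
  rw [← h.norm]
  refine sum_le_sum fun i hi => ?_
  by_cases h0 : π i = 0
  · rw [h0, mul_zero]; exact mul_self_nonneg _
  · have h3 : d i = π i * d o := by exact_mod_cast h1 i hi h0
    rw [h3]
    nlinarith [mul_self_nonneg (π i)]

theorem exo_of [DecidableEq κ] {R : Finset κ} {v : κ → ι → ℤ} {r₁ r₂ r₃ : κ}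
    (h : Four s w a b e f) (hR : R = {r₁, r₂, r₃}) (h12 : r₁ ≠ r₂) (h13 : r₁ ≠ r₃)
    (h23 : r₂ ≠ r₃) (q₁ : Row s w (v r₁) a b e f c) (q₂ : Row s w (v r₂) a b e f c)
    (q₃ : Row s w (v r₃) a b e f c) (c₂ : v r₂ c = v r₁ c) (c₃ : v r₃ c = v r₁ c)
    (k₁ : v r₁ a = w a ∧ v r₁ b = w b ∧ v r₁ e = 0 ∧ v r₁ f = 0)
    (k₂ : v r₂ a = w a ∧ v r₂ e = w e ∧ v r₂ b = 0 ∧ v r₂ f = 0)
    (k₃ : (v r₃ a = w a ∧ v r₃ f = w f ∧ v r₃ b = 0 ∧ v r₃ e = 0) ∨
      (v r₃ b = w b ∧ v r₃ e = w e ∧ v r₃ a = 0 ∧ v r₃ f = 0)) : ∃ π, Exo s R v w π b := by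
  have sq : ∀ x : ℤ, x = 1 ∨ x = -1 → (x : ℂ) * x = 1 := by rintro x (rfl | rfl) <;> simp
  have hab := h.ab; have hae := h.ae; have haf := h.af; have hbe := h.be; have hbf := h.bf
  have hef := h.ef; have hca := q₁.ca; have hcb := q₁.cb; have hce := q₁.ce; have hcf := q₁.cf
  have main : ∀ x y z t : ℤ, x ≠ 0 → y ≠ 0 → z ≠ 0 → t ≠ 0 →
      x * x + 1 + y * y + z * z + t * t = 16 →
      (∀ W : ι → ℂ, ∑ i ∈ s, (w i : ℂ) * W i = 0 →
        (∀ r ∈ R, ∑ i ∈ s, (v r i : ℂ) * W i = 0) →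
        W a = x * W b ∧ W e = y * W b ∧ W f = z * W b ∧ W c = t * W b) →
      ∃ π, Exo s R v w π b := by
    intro x y z t hx hy hz ht hn hW
    let π : ι → ℤ := fun i => if i = a then x else if i = b then 1 else if i = e then y else
      if i = f then z else if i = c then t else 0
    have pa : π a = x := by simp [π]
    have pb : π b = 1 := by simp [π, hab.symm]
    have pe : π e = y := by simp [π, hae.symm, hbe.symm]
    have pf : π f = z := by simp [π, haf.symm, hbf.symm, hef.symm]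
    have pc : π c = t := by simp [π, hca, hcb, hce, hcf]
    have p0 : ∀ i, i ≠ a → i ≠ b → i ≠ e → i ≠ f → i ≠ c → π i = 0 := by
      intro i h1 h2 h3 h4 h5; simp [π, h1, h2, h3, h4, h5]
    have pn : ∀ i, π i ≠ 0 ↔ i = a ∨ i = b ∨ i = e ∨ i = f ∨ i = c := by
      intro i
      constructor
      · intro h0
        by_contra hc
        push Not at hc
        exact h0 (p0 i hc.1 hc.2.1 hc.2.2.1 hc.2.2.2.1 hc.2.2.2.2)
      · rintro (rfl | rfl | rfl | rfl | rfl)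
        · rwa [pa]
        · rw [pb]; exact one_ne_zero
        · rwa [pe]
        · rwa [pf]
        · rwa [pc]
    refine ⟨π, by rw [hR, card_eq_three]; exact ⟨_, _, _, h12, h13, h23, rfl⟩, h.mb,
      (h.ne_zero_iff h.mb).mpr (by simp), ?_, fun i hi => ?_, ?_, fun W h1 h2 i _ h0 => ?_⟩
    · have : s.filter (π · ≠ 0) = {a, b, e, f, c} := by
        ext i
        simp only [mem_filter, pn, mem_insert, mem_singleton]
        refine ⟨fun h => h.2, fun h0 => ⟨?_, h0⟩⟩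
        rcases h0 with rfl | rfl | rfl | rfl | rfl
        exacts [h.ma, h.mb, h.me, h.mf, q₁.mc]
      rw [this, card_insert_of_notMem (by simp [hab, hae, haf, hca.symm]),
        card_insert_of_notMem (by simp [hbe, hbf, hcb.symm]),
        card_insert_of_notMem (by simp [hef, hce.symm]), card_pair hcf.symm]
    · constructor
      · intro h0
        have h1 := mt (pn i).mpr (not_not.mpr h0)
        push Not at h1
        obtain ⟨h1, h2, h3, h4, h5⟩ := h1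
        refine ⟨h.zero i hi h1 h2 h3 h4, fun r hr => ?_⟩
        rw [hR] at hr
        simp only [mem_insert, mem_singleton] at hr
        rcases hr with rfl | rfl | rfl
        exacts [q₁.zero i hi h1 h2 h3 h4 h5, q₂.zero i hi h1 h2 h3 h4 h5,
          q₃.zero i hi h1 h2 h3 h4 h5]
      · rintro ⟨h1, h2⟩
        by_contra h0
        have h3 := mt (h.ne_zero_iff hi).mpr (not_not.mpr h1)
        push Not at h3
        rcases (pn i).mp h0 with h4 | h4 | h4 | h4 | h4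
        · exact h3.1 h4
        · exact h3.2.1 h4
        · exact h3.2.2.1 h4
        · exact h3.2.2.2 h4
        · have := h2 r₁ (by simp [hR])
          have := q₁.vc
          subst h4
          omega
    · rw [h.sum_split, sum_eq_single_of_mem c (by simp [q₁.mc, hca, hcb, hce, hcf]), pa, pb, pe,
        pf, pc]
      · omega
      · intro i hi hic
        simp only [mem_sdiff, mem_insert, mem_singleton, not_or] at hi
        rw [p0 i hi.2.1 hi.2.2.1 hi.2.2.2.1 hi.2.2.2.2 hic, mul_zero]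
    · obtain ⟨k1, k2, k3, k4⟩ := hW W h1 h2
      rcases (pn i).mp h0 with rfl | rfl | rfl | rfl | rfl
      · rw [pa, k1]
      · rw [pb]; simp
      · rw [pe, k2]
      · rw [pf, k3]
      · rw [pc, k4]
  have sa := sq _ h.wa; have sb := sq _ h.wb; have se := sq _ h.we; have sf := sq _ h.wf
  have sc := sq _ q₁.vc
  have wa := h.wa; have wb := h.wb; have we := h.we; have wf := h.wf; have vc := q₁.vc
  rcases k₃ with k₃ | k₃
  · refine main (-3 * w a * w b) (w e * w b) (w f * w b) (2 * v r₁ c * w b) ?_ ?_ ?_ ?_ ?_ ?_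
    · rcases wa with k | k <;> rcases wb with k' | k' <;> simp [k, k']
    · rcases we with k | k <;> rcases wb with k' | k' <;> simp [k, k']
    · rcases wf with k | k <;> rcases wb with k' | k' <;> simp [k, k']
    · rcases vc with k | k <;> rcases wb with k' | k' <;> simp [k, k']
    · rcases wa with k1 | k1 <;> rcases wb with k2 | k2 <;> rcases we with k3 | k3 <;>
        rcases wf with k4 | k4 <;> rcases vc with k5 | k5 <;> simp [k1, k2, k3, k4, k5]
    · intro W h0 hv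
      have e1 := hv r₁ (by simp [hR])
      have e2 := hv r₂ (by simp [hR])
      have e3 := hv r₃ (by simp [hR])
      rw [h.sum_mul] at h0
      rw [q₁.sum_mul h, k₁.1, k₁.2.1, k₁.2.2.1, k₁.2.2.2] at e1
      rw [q₂.sum_mul h, k₂.1, k₂.2.1, k₂.2.2.1, k₂.2.2.2, c₂] at e2
      rw [q₃.sum_mul h, k₃.1, k₃.2.1, k₃.2.2.1, k₃.2.2.2, c₃] at e3
      push_cast at e1 e2 e3 ⊢
      refine ⟨?_, ?_, ?_, ?_⟩
      · linear_combination (w a : ℂ) * (h0 + 2 * e1 - e2 - e3) - W a * sa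
      · linear_combination (w e : ℂ) * (e2 - e1) - W e * se
      · linear_combination (w f : ℂ) * (e3 - e1) - W f * sf
      · linear_combination (v r₁ c : ℂ) * (e2 + e3 - e1 - h0) - W c * sc
  · refine main (w a * w b) (w e * w b) (-3 * w f * w b) (-2 * v r₁ c * w b) ?_ ?_ ?_ ?_ ?_ ?_
    · rcases wa with k | k <;> rcases wb with k' | k' <;> simp [k, k']
    · rcases we with k | k <;> rcases wb with k' | k' <;> simp [k, k']
    · rcases wf with k | k <;> rcases wb with k' | k' <;> simp [k, k']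
    · rcases vc with k | k <;> rcases wb with k' | k' <;> simp [k, k']
    · rcases wa with k1 | k1 <;> rcases wb with k2 | k2 <;> rcases we with k3 | k3 <;>
        rcases wf with k4 | k4 <;> rcases vc with k5 | k5 <;> simp [k1, k2, k3, k4, k5]
    · intro W h0 hv
      have e1 := hv r₁ (by simp [hR])
      have e2 := hv r₂ (by simp [hR])
      have e3 := hv r₃ (by simp [hR])
      rw [h.sum_mul] at h0
      rw [q₁.sum_mul h, k₁.1, k₁.2.1, k₁.2.2.1, k₁.2.2.2] at e1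
      rw [q₂.sum_mul h, k₂.1, k₂.2.1, k₂.2.2.1, k₂.2.2.2, c₂] at e2
      rw [q₃.sum_mul h, k₃.1, k₃.2.1, k₃.2.2.1, k₃.2.2.2, c₃] at e3
      push_cast at e1 e2 e3 ⊢
      refine ⟨?_, ?_, ?_, ?_⟩
      · linear_combination (w a : ℂ) * (e2 - e3) - W a * sa
      · linear_combination (w e : ℂ) * (e2 - e1) - W e * se
      · linear_combination (w f : ℂ) * (h0 + e1 + e3 - 2 * e2) - W f * sf
      · linear_combination (v r₁ c : ℂ) * (e1 + e3 - e2) - W c * sc

theorem std_or_exo [DecidableEq κ] {R : Finset κ} {v : κ → ι → ℤ} (hR : R.card ≠ 2)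
    (h3 : ∀ r ∈ R, ∑ i ∈ s, v r i * v r i = 3)
    (h2 : ∀ r ∈ R, ∀ r' ∈ R, r ≠ r' → ∑ i ∈ s, v r i * v r' i = 2)
    (hw : ∀ r ∈ R, ∑ i ∈ s, w i * v r i = 2) (h : Four s w a b e f) {r₁ : κ} (h₁ : r₁ ∈ R)
    (k₁ : v r₁ a = w a ∧ v r₁ b = w b ∧ v r₁ e = 0 ∧ v r₁ f = 0) :
    (∃ c, Std s R v w a b e f c) ∨ ∃ π o, Exo s R v w π o := by
  have : Nonempty ι := ⟨a⟩
  have hrow : ∀ r ∈ R, ∃ c, Row s w (v r) a b e f c :=
    fun r hr => h.exists_row (h3 r hr) (hw r hr)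
  choose! c hc using hrow
  have ip : ∀ r ∈ R, ∀ r' ∈ R, r ≠ r' → v r a * v r' a + v r b * v r' b + v r e * v r' e +
      v r f * v r' f + (if c r = c r' then v r (c r) * v r' (c r) else 0) = 2 :=
    fun r hr r' hr' hne => by rw [← (hc r hr).ip h (hc r' hr'), h2 r hr r' hr' hne]
  have sa : w a * w a = 1 := by rcases h.wa with k | k <;> simp [k]
  have sb : w b * w b = 1 := by rcases h.wb with k | k <;> simp [k]
  have se : w e * w e = 1 := by rcases h.we with k | k <;> simp [k]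
  have sf : w f * w f = 1 := by rcases h.wf with k | k <;> simp [k]
  have sgn : ∀ r ∈ R, ∀ r' ∈ R, c r = c r' →
      (v r (c r) * v r' (c r) = 1 ∧ v r' (c r) = v r (c r)) ∨ v r (c r) * v r' (c r) = -1 := by
    intro r hr r' hr' he
    have k := (hc r hr).vc
    have k' := (hc r' hr').vc
    rw [← he] at k'
    rcases k with k | k <;> rcases k' with k' | k' <;> simp [k, k']
  -- the outcome of comparing two rows
  have cmp : ∀ r ∈ R, ∀ r' ∈ R, r ≠ r' →
      (v r a * v r' a + v r b * v r' b + v r e * v r' e + v r f * v r' f = 2 ∧ c r ≠ c r') ∨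
      (v r a * v r' a + v r b * v r' b + v r e * v r' e + v r f * v r' f = 1 ∧ c r = c r' ∧
        v r' (c r) = v r (c r)) ∨
      v r a * v r' a + v r b * v r' b + v r e * v r' e + v r f * v r' f = 3 := by
    intro r hr r' hr' hne
    have k := ip r hr r' hr' hne
    split_ifs at k with he
    · rcases sgn r hr r' hr' he with k' | k'
      · exact Or.inr (Or.inl ⟨by omega, he, k'.2⟩)
      · exact Or.inr (Or.inr (by omega))
    · exact Or.inl ⟨by omega, he⟩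
  by_cases hall : ∀ r ∈ R, v r a = w a ∧ v r b = w b ∧ v r e = 0 ∧ v r f = 0
  · refine Or.inl ⟨c, h, hc, fun r hr => (hall r hr).1, fun r hr => (hall r hr).2.1,
      fun r hr => (hall r hr).2.2.1, fun r hr => (hall r hr).2.2.2, fun r hr r' hr' he => ?_⟩
    by_contra hne
    have k := cmp r hr r' hr' hne
    obtain ⟨k1, k2, k3, k4⟩ := hall r hr
    obtain ⟨k5, k6, k7, k8⟩ := hall r' hr'
    rw [k1, k2, k3, k4, k5, k6, k7, k8, sa, sb] at k
    rcases k with k | k | k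
    · exact k.2 he
    · omega
    · omega
  right
  push Not at hall
  obtain ⟨r₂, h₂, hk₂⟩ := hall
  have h12 : r₁ ≠ r₂ := by rintro rfl; exact hk₂ k₁.1 k₁.2.1 k₁.2.2.1 k₁.2.2.2
  -- normalise the second row
  have main : ∀ a b e f, Four s w a b e f → (∀ r ∈ R, Row s w (v r) a b e f (c r)) →
      (v r₁ a = w a ∧ v r₁ b = w b ∧ v r₁ e = 0 ∧ v r₁ f = 0) →
      (v r₂ a = w a ∧ v r₂ e = w e ∧ v r₂ b = 0 ∧ v r₂ f = 0) →
      (∀ r ∈ R, ∀ r' ∈ R, r ≠ r' →
      (v r a * v r' a + v r b * v r' b + v r e * v r' e + v r f * v r' f = 2 ∧ c r ≠ c r') ∨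
      (v r a * v r' a + v r b * v r' b + v r e * v r' e + v r f * v r' f = 1 ∧ c r = c r' ∧
        v r' (c r) = v r (c r)) ∨
      v r a * v r' a + v r b * v r' b + v r e * v r' e + v r f * v r' f = 3) →
      ∃ π o, Exo s R v w π o := by
    intro a b e f h hc k₁ k₂ cmp
    have sa : w a * w a = 1 := by rcases h.wa with k | k <;> simp [k]
    have sb : w b * w b = 1 := by rcases h.wb with k | k <;> simp [k]
    have se : w e * w e = 1 := by rcases h.we with k | k <;> simp [k]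
    have sf : w f * w f = 1 := by rcases h.wf with k | k <;> simp [k]
    have c12 : c r₁ = c r₂ ∧ v r₂ (c r₁) = v r₁ (c r₁) := by
      have k := cmp r₁ h₁ r₂ h₂ h12
      rw [k₁.1, k₁.2.1, k₁.2.2.1, k₁.2.2.2, k₂.1, k₂.2.1, k₂.2.2.1, k₂.2.2.2, sa] at k
      rcases k with k | k | k
      · omega
      · exact k.2
      · omega
    have oth : ∀ r ∈ R, r ≠ r₁ → r ≠ r₂ → c r₁ = c r ∧ v r (c r₁) = v r₁ (c r₁) ∧
        ((v r a = w a ∧ v r f = w f ∧ v r b = 0 ∧ v r e = 0) ∨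
          (v r b = w b ∧ v r e = w e ∧ v r a = 0 ∧ v r f = 0)) := by
      intro r hr n1 n2
      have k := cmp r₁ h₁ r hr n1.symm
      have k' := cmp r₂ h₂ r hr n2.symm
      rw [k₁.1, k₁.2.1, k₁.2.2.1, k₁.2.2.2] at k
      rw [k₂.1, k₂.2.1, k₂.2.2.1, k₂.2.2.2, ← c12.1] at k'
      rcases (hc r hr).cases h with q | q | q | q | q | q <;>
        rw [q.1, q.2.1, q.2.2.1, q.2.2.2] at k k' <;>
        simp only [sa, sb, se, mul_zero, zero_mul, add_zero, zero_add] at k k'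
      · rcases k with k | k | k <;> rcases k' with k' | k' | k' <;>
          first | omega | exact absurd k'.2.1 k.2
      · rcases k with k | k | k <;> rcases k' with k' | k' | k' <;>
          first | omega | exact absurd k.2.1 k'.2
      · rcases k with k | k | k
        · omega
        · exact ⟨k.2.1, k.2.2, Or.inl q⟩
        · omega
      · rcases k with k | k | k
        · omega
        · exact ⟨k.2.1, k.2.2, Or.inr q⟩
        · omega
      · omega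
      · omega
    have hsub : ({r₁, r₂} : Finset κ) ⊆ R := by
      intro r hr
      simp only [mem_insert, mem_singleton] at hr
      rcases hr with rfl | rfl <;> assumption
    have hne : ({r₁, r₂} : Finset κ) ≠ R := fun he => hR (by rw [← he, card_pair h12])
    obtain ⟨r₃, h₃, n₃⟩ := exists_of_ssubset (hsub.ssubset_of_ne hne)
    simp only [mem_insert, mem_singleton, not_or] at n₃
    obtain ⟨c13, v13, k₃⟩ := oth r₃ h₃ n₃.1 n₃.2
    have hRe : R = {r₁, r₂, r₃} := by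
      ext r
      simp only [mem_insert, mem_singleton]
      refine ⟨fun hr => ?_, ?_⟩
      · by_contra hn
        push Not at hn
        obtain ⟨c1, -, q⟩ := oth r hr hn.1 hn.2.1
        have k := cmp r hr r₃ h₃ hn.2.2
        rw [← c1, ← c13] at k
        rcases q with q | q <;> rcases k₃ with k₃ | k₃ <;>
          rw [q.1, q.2.1, q.2.2.1, q.2.2.2, k₃.1, k₃.2.1, k₃.2.2.1, k₃.2.2.2] at k <;>
          simp only [sa, sb, se, sf, mul_zero, zero_mul, add_zero, zero_add] at k <;>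
          rcases k with k | k | k <;> first | omega | exact k.2 rfl
      · rintro (rfl | rfl | rfl) <;> assumption
    obtain ⟨π, hπ⟩ := exo_of h hRe h12 (Ne.symm n₃.1) (Ne.symm n₃.2) (hc r₁ h₁)
      (c12.1 ▸ hc r₂ h₂) (c13 ▸ hc r₃ h₃) c12.2 v13 k₁ k₂ k₃
    exact ⟨π, b, hπ⟩
  have k := cmp r₁ h₁ r₂ h₂ h12
  rw [k₁.1, k₁.2.1, k₁.2.2.1, k₁.2.2.2] at k
  rcases (hc r₂ h₂).cases h with q | q | q | q | q | q
  · exact absurd q.2.2.2 (hk₂ q.1 q.2.1 q.2.2.1)
  · exact main a b e f h hc k₁ q cmp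
  · refine main a b f e h.swap₃ (fun r hr => (hc r hr).swap₃)
      ⟨k₁.1, k₁.2.1, k₁.2.2.2, k₁.2.2.1⟩ q fun r hr r' hr' hne => ?_
    have := cmp r hr r' hr' hne
    rwa [add_right_comm] at this
  · refine main b a e f h.swap₁ (fun r hr => (hc r hr).swap₁)
      ⟨k₁.2.1, k₁.1, k₁.2.2.1, k₁.2.2.2⟩ q fun r hr r' hr' hne => ?_
    have := cmp r hr r' hr' hne
    rwa [add_comm (v r a * v r' a)] at this
  · refine main b a f e h.swap₁.swap₃ (fun r hr => (hc r hr).swap₁.swap₃)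
      ⟨k₁.2.1, k₁.1, k₁.2.2.2, k₁.2.2.1⟩ q fun r hr r' hr' hne => ?_
    have := cmp r hr r' hr' hne
    rwa [add_right_comm, add_comm (v r a * v r' a)] at this
  · rw [q.1, q.2.1, q.2.2.1, q.2.2.2] at k
    simp only [mul_zero, zero_mul, add_zero] at k
    omega

/-- The shape theorem. -/
theorem shape [DecidableEq κ] {R : Finset κ} {v : κ → ι → ℤ} (hR : R.card ≠ 2)
    (h3 : ∀ r ∈ R, ∑ i ∈ s, v r i * v r i = 3)
    (h2 : ∀ r ∈ R, ∀ r' ∈ R, r ≠ r' → ∑ i ∈ s, v r i * v r' i = 2)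
    (hw : ∀ r ∈ R, ∑ i ∈ s, w i * v r i = 2) (h4 : ∑ i ∈ s, w i * w i = 4)
    {o : ι} (ho : o ∈ s) (hodd : Odd (w o)) {d₁ d₂ : ι → ℤ} {n₁ n₂ : Prop}
    (hd₁ : n₁ → ∑ i ∈ s, d₁ i * d₁ i = 4 ∧ (∀ i ∈ s, w i ≠ 0 → Odd (d₁ i)) ∧
      ∑ i ∈ s, w i * d₁ i = 0 ∧ ∀ r ∈ R, ∑ i ∈ s, v r i * d₁ i = 0)
    (hd₂ : n₂ → ∑ i ∈ s, d₂ i * d₂ i = 4 ∧ (∀ i ∈ s, w i ≠ 0 → Odd (d₂ i)) ∧
      ∑ i ∈ s, w i * d₂ i = 0 ∧ ∀ r ∈ R, ∑ i ∈ s, v r i * d₂ i = 0) :
    (∃ a b e f c, Std s R v w a b e f c ∧ (n₁ → w a * d₁ a + w b * d₁ b = 0) ∧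
      (n₂ → w a * d₂ a + w b * d₂ b = 0)) ∨ (¬ n₁ ∧ ¬ n₂ ∧ ∃ π o, Exo s R v w π o) := by
  obtain ⟨a, b, e, f, h⟩ := exists_four h4 ho hodd
  rcases R.eq_empty_or_nonempty with rfl | ⟨r₁, h₁⟩
  · left
    have std : ∀ a b e f, Four s w a b e f → Std s (∅ : Finset κ) v w a b e f fun _ => a :=
      fun a b e f h => ⟨h, by simp, by simp, by simp, by simp, by simp, by simp⟩
    have key : ∀ (d : ι → ℤ) (n : Prop), (n → ∑ i ∈ s, d i * d i = 4 ∧
        (∀ i ∈ s, w i ≠ 0 → Odd (d i)) ∧ ∑ i ∈ s, w i * d i = 0 ∧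
        ∀ r ∈ (∅ : Finset κ), ∑ i ∈ s, v r i * d i = 0) →
        ((n → w a * d a + w b * d b = 0) ∧ (n → w a * d a + w e * d e = 0)) ∨
        ((n → w a * d a + w b * d b = 0) ∧ (n → w a * d a + w f * d f = 0)) ∨
        ((n → w a * d a + w e * d e = 0) ∧ (n → w a * d a + w f * d f = 0)) := by
      intro d n hd
      by_cases hn : n
      · obtain ⟨k1, k2, k3, -⟩ := hd hn
        have q := h.of_odd k1 k2
        have k4 := h.sum_mul (A := ℤ) d
        simp only [Int.cast_id] at k4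
        rw [k4] at k3
        simp only [hn, forall_const]
        rcases h.wa with ha | ha <;> rcases h.wb with hb | hb <;> rcases h.we with he | he <;>
          rcases h.wf with hf | hf <;> rcases q.wa with qa | qa <;> rcases q.wb with qb | qb <;>
          rcases q.we with qe | qe <;> rcases q.wf with qf | qf <;>
          rw [ha, hb, he, hf, qa, qb, qe, qf] at k3 ⊢ <;> omega
      · exact Or.inl ⟨fun k => absurd k hn, fun k => absurd k hn⟩
    rcases key d₁ n₁ hd₁ with k | k | k <;> rcases key d₂ n₂ hd₂ with k' | k' | k'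
    · exact ⟨a, b, e, f, _, std _ _ _ _ h, k.1, k'.1⟩
    · exact ⟨a, b, e, f, _, std _ _ _ _ h, k.1, k'.1⟩
    · exact ⟨a, e, b, f, _, std _ _ _ _ h.swap₂, k.2, k'.1⟩
    · exact ⟨a, b, e, f, _, std _ _ _ _ h, k.1, k'.1⟩
    · exact ⟨a, b, e, f, _, std _ _ _ _ h, k.1, k'.1⟩
    · exact ⟨a, f, b, e, _, std _ _ _ _ h.swap₃.swap₂, k.2, k'.2⟩
    · exact ⟨a, e, b, f, _, std _ _ _ _ h.swap₂, k.1, k'.2⟩
    · exact ⟨a, f, b, e, _, std _ _ _ _ h.swap₃.swap₂, k.2, k'.2⟩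
    · exact ⟨a, e, b, f, _, std _ _ _ _ h.swap₂, k.1, k'.1⟩
  · obtain ⟨c₁, q₁⟩ := h.exists_row (h3 r₁ h₁) (hw r₁ h₁)
    obtain ⟨a, b, e, f, h, k₁⟩ := q₁.relabel h
    rcases std_or_exo hR h3 h2 hw h h₁ k₁ with ⟨c, hc⟩ | ⟨π, o, hπ⟩
    · have key : ∀ d : ι → ℤ, (∑ i ∈ s, d i * d i = 4 ∧
          (∀ i ∈ s, w i ≠ 0 → Odd (d i)) ∧ ∑ i ∈ s, w i * d i = 0 ∧
          ∀ r ∈ R, ∑ i ∈ s, v r i * d i = 0) → w a * d a + w b * d b = 0 := by
        rintro d ⟨k1, k2, -, k4⟩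
        have q := h.of_odd k1 k2
        have r := hc.row r₁ h₁
        have k5 := r.sum_mul (A := ℤ) h d
        simp only [Int.cast_id] at k5
        rw [k4 r₁ h₁, k₁.1, k₁.2.1, k₁.2.2.1, k₁.2.2.2, q.zero _ r.mc r.ca r.cb r.ce r.cf] at k5
        omega
      exact Or.inl ⟨a, b, e, f, c, hc, fun hn => key _ (hd₁ hn), fun hn => key _ (hd₂ hn)⟩
    · have key : ∀ d : ι → ℤ, ¬ (∑ i ∈ s, d i * d i = 4 ∧
          (∀ i ∈ s, w i ≠ 0 → Odd (d i)) ∧ ∑ i ∈ s, w i * d i = 0 ∧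
          ∀ r ∈ R, ∑ i ∈ s, v r i * d i = 0) := by
        rintro d ⟨k1, k2, k3, k4⟩
        have := hπ.le_norm k3 k4 (by obtain ⟨t, ht⟩ := k2 o hπ.mo hπ.wo; omega)
        omega
      exact Or.inr ⟨fun hn => key _ (hd₁ hn), fun hn => key _ (hd₂ hn), π, o, hπ⟩

end H33.Tame
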