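import Mathlib
import Cfsg.Agent.Lib.H85.StarP
import Cfsg.Agent.Lib.Char.More

/-! Fourier analysis on the cyclic maximal subgroup of a tame defect group. -/

set_option autoImplicit false
set_option linter.unusedSectionVars false
set_option linter.style.haveILetI false

namespace H33.Tame

open Cfsg Finset
open Subgroup (zpowers)
open scoped ComplexConjugate

/-- The admissible exponents. -/
def Al (k : ℕ) (a : ℤ) : Prop := a = -1 ∨ (1 ≤ k ∧ a = 2 ^ (k + 1) - 1)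

section pow

variable {X : Type*} [Group X] {k : ℕ} {a : ℤ} {u : X}

theorem Al.odd (h : Al k a) : Odd a := by
  rcases h with rfl | ⟨-, rfl⟩
  · decide
  · exact ⟨2 ^ k - 1, by ring⟩

theorem Al.zpow_zpow (h : Al k a) (hu : u ^ 2 ^ (k + 2) = 1) : (u ^ a) ^ a = u := by
  rcases h with rfl | ⟨-, rfl⟩
  · simp
  · have h1 : u ^ ((2 : ℤ) ^ (k + 2)) = 1 := by exact_mod_cast hu
    rw [← zpow_mul, show ((2 : ℤ) ^ (k + 1) - 1) * (2 ^ (k + 1) - 1) =
      2 ^ (k + 2) * (2 ^ k - 1) + 1 by ring, zpow_add, zpow_mul, h1, one_zpow, one_mul, zpow_one]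

theorem Al.zpow_of_sq (h : Al k a) (hu : u ^ 2 = 1) : u ^ a = u := by
  obtain ⟨t, rfl⟩ := h.odd
  have h1 : u ^ (2 : ℤ) = 1 := by exact_mod_cast hu
  rw [zpow_add, zpow_mul, h1, one_zpow, one_mul, zpow_one]

theorem Al.sq_of_zpow (h : Al k a) (hu : u ^ 2 ^ (k + 2) = 1) (h1 : u ^ a = u) : u ^ 2 = 1 := by
  rcases h with rfl | ⟨hk, rfl⟩
  · rw [zpow_neg_one, inv_eq_iff_mul_eq_one] at h1
    rwa [sq]
  · obtain ⟨j, rfl⟩ : ∃ j, k = j + 1 := ⟨k - 1, by omega⟩
    have h2 : (u ^ 2) ^ (2 ^ (j + 1) - 1) = 1 := by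
      have h3 : u ^ ((2 : ℤ) ^ (j + 1 + 1) - 1 - 1) = 1 := by
        rw [zpow_sub, h1, zpow_one, mul_inv_cancel]
      rw [← pow_mul, ← zpow_natCast, ← h3]
      congr 1
      rw [Nat.cast_mul, Nat.cast_sub Nat.one_le_two_pow]
      push_cast
      ring
    have h4 : (u ^ 2) ^ 2 ^ (j + 1 + 2) = 1 := by rw [← pow_mul, mul_comm, pow_mul, hu, one_pow]
    have h5 : (2 ^ (j + 1) - 1).Coprime (2 ^ (j + 1 + 2)) := by
      refine Nat.Coprime.pow_right _ ((Nat.coprime_two_right).mpr ?_)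
      have : 1 ≤ 2 ^ j := Nat.one_le_two_pow
      exact ⟨2 ^ j - 1, by rw [pow_succ]; omega⟩
    rw [← orderOf_dvd_iff_pow_eq_one] at h2 h4
    exact orderOf_eq_one_iff.mp (Nat.eq_one_of_dvd_coprimes h5 h2 h4)

theorem Al.zpow_eq_iff (h : Al k a) (hu : u ^ 2 ^ (k + 2) = 1) : u ^ a = u ↔ u ^ 2 = 1 :=
  ⟨h.sq_of_zpow hu, h.zpow_of_sq⟩

end pow

theorem exists_transversal {A : Type*} [DecidableEq A] (τ : A → A) (s : Finset A)
    (h1 : ∀ x ∈ s, τ x ∈ s) (h2 : ∀ x ∈ s, τ (τ x) = x) (h3 : ∀ x ∈ s, τ x ≠ x) :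
    ∃ R ⊆ s, (∀ x ∈ R, τ x ∉ R) ∧ s = R ∪ R.image τ := by
  induction s using Finset.strongInduction with
  | H s ih =>
  rcases s.eq_empty_or_nonempty with rfl | ⟨x, hx⟩
  · exact ⟨∅, by simp, by simp, by simp⟩
  have hsub : (s.erase x).erase (τ x) ⊆ s := (erase_subset _ _).trans (erase_subset _ _)
  have hm : ∀ y, y ∈ (s.erase x).erase (τ x) ↔ y ≠ τ x ∧ y ≠ x ∧ y ∈ s := by simp
  obtain ⟨R, hR, k1, k2⟩ := ih ((s.erase x).erase (τ x))
    (hsub.ssubset_of_ne fun he => by simpa using (hm x).mp (he.symm ▸ hx))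
    (fun y hy => by
      obtain ⟨a1, a2, a3⟩ := (hm y).mp hy
      refine (hm _).mpr ⟨fun he => a2 ?_, fun he => a1 ?_, h1 y a3⟩
      · rw [← h2 y a3, he, h2 x hx]
      · rw [← h2 y a3, he])
    (fun y hy => h2 y (hsub hy)) (fun y hy => h3 y (hsub hy))
  refine ⟨insert x R, insert_subset hx (hR.trans hsub), fun y hy hy' => ?_, ?_⟩
  · rcases mem_insert.mp hy with rfl | hy
    · rcases mem_insert.mp hy' with h | h
      · exact h3 y hx h
      · exact ((hm _).mp (hR h)).1 rfl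
    · rcases mem_insert.mp hy' with h | h
      · have := (hm _).mp (hR hy)
        exact this.1 (by rw [← h, h2 y this.2.2])
      · exact k1 y hy h
  · ext y
    have := hm y
    rw [k2] at this
    simp only [mem_union, mem_insert, image_insert] at this ⊢
    constructor
    · intro hy
      by_cases a1 : y = τ x
      · exact Or.inr (Or.inl a1)
      by_cases a2 : y = x
      · exact Or.inl (Or.inl a2)
      rcases this.mpr ⟨a1, a2, hy⟩ with h | h
      · exact Or.inl (Or.inr h)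
      · exact Or.inr (Or.inr h)
    · rintro ((rfl | h) | rfl | h)
      · exact hx
      · exact (this.mp (Or.inl h)).2.2
      · exact h1 x hx
      · exact (this.mp (Or.inr h)).2.2

theorem exists_transversal_sum {A : Type*} [DecidableEq A] (τ : A → A) (s : Finset A)
    (h1 : ∀ x ∈ s, τ x ∈ s) (h2 : ∀ x ∈ s, τ (τ x) = x) (h3 : ∀ x ∈ s, τ x ≠ x) :
    ∃ R ⊆ s, (∀ x ∈ R, τ x ∉ R) ∧ (∀ x ∈ s, x ∈ R ∨ τ x ∈ R) ∧ 2 * R.card = s.card ∧
      ∀ f : A → ℂ, ∑ x ∈ s, f x = ∑ x ∈ R, (f x + f (τ x)) := by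
  obtain ⟨R, hR, k1, k2⟩ := exists_transversal τ s h1 h2 h3
  have hd : Disjoint R (R.image τ) := by
    rw [disjoint_right]
    intro y hy
    obtain ⟨x, hx, rfl⟩ := mem_image.mp hy
    exact k1 x hx
  have hi : Set.InjOn τ R := fun x hx y hy h => by rw [← h2 x (hR hx), h, h2 y (hR hy)]
  refine ⟨R, hR, k1, fun x hx => ?_, ?_, fun f => ?_⟩
  · have hx' := hx
    rw [k2, mem_union, mem_image] at hx'
    rcases hx' with h | ⟨y, hy, rfl⟩
    · exact Or.inl h
    · exact Or.inr (by rwa [h2 y (hR hy)])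
  · conv_rhs => rw [k2]
    rw [card_union_of_disjoint hd, card_image_of_injOn hi, two_mul]
  · conv_lhs => rw [k2]
    rw [sum_union hd, sum_image hi, sum_add_distrib]

variable {D : Type*} [CommGroup D] [Fintype D] {k : ℕ} {x u : D} {a : ℤ}

/-- A generator of a cyclic group of order `2 ^ (k + 2)` with an admissible exponent. -/
structure CycT (k : ℕ) (x : D) (a : ℤ) : Prop where
  gen : ∀ u, u ∈ zpowers x
  ord : orderOf x = 2 ^ (k + 2)
  al : Al k a

/-- The involution. -/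
def zz (k : ℕ) {D : Type*} [Monoid D] (x : D) : D := x ^ 2 ^ (k + 1)

/-- An element of order four. -/
def ww (k : ℕ) {D : Type*} [Monoid D] (x : D) : D := x ^ 2 ^ k

theorem ww_sq (k : ℕ) {D : Type*} [Monoid D] (x : D) : ww k x ^ 2 = zz k x := by
  rw [ww, zz, ← pow_mul, pow_succ]

namespace CycT

theorem card (h : CycT k x a) : Nat.card D = 2 ^ (k + 2) := by
  rw [← h.ord, orderOf_eq_card_of_forall_mem_zpowers h.gen]

theorem pow_eq_one (h : CycT k x a) (u : D) : u ^ 2 ^ (k + 2) = 1 := by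
  rw [← h.card]; exact pow_card_eq_one'

theorem zpow_zpow (h : CycT k x a) (u : D) : (u ^ a) ^ a = u := h.al.zpow_zpow (h.pow_eq_one u)

theorem zz_sq (h : CycT k x a) : zz k x ^ 2 = 1 := by
  rw [zz, ← pow_mul, ← pow_succ, h.pow_eq_one]

theorem zz_mul_zz (h : CycT k x a) : zz k x * zz k x = 1 := by rw [← sq, h.zz_sq]

theorem zz_ne_one (h : CycT k x a) : zz k x ≠ 1 := by
  intro h1
  have := Nat.le_of_dvd (by positivity) (orderOf_dvd_of_pow_eq_one h1)
  rw [h.ord] at this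
  have h2 : 2 ^ (k + 1) < 2 ^ (k + 2) := Nat.pow_lt_pow_right (by norm_num) (by omega)
  omega

theorem sq_eq_one_iff (h : CycT k x a) : u ^ 2 = 1 ↔ u = 1 ∨ u = zz k x := by
  constructor
  · intro h1
    obtain ⟨n, rfl⟩ := (mem_powers_iff_mem_zpowers.mpr (h.gen u))
    simp only at h1 ⊢
    rw [← pow_mul, ← orderOf_dvd_iff_pow_eq_one, h.ord, pow_succ] at h1
    obtain ⟨t, rfl⟩ := Nat.dvd_of_mul_dvd_mul_right two_pos h1
    rw [pow_mul]
    change zz k x ^ t = 1 ∨ zz k x ^ t = zz k x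
    rcases Nat.even_or_odd' t with ⟨j, rfl | rfl⟩
    · left; rw [pow_mul, h.zz_sq, one_pow]
    · right; rw [pow_succ, pow_mul, h.zz_sq, one_pow, one_mul]
  · rintro (rfl | rfl)
    · exact one_pow _
    · exact h.zz_sq

theorem mem_zpowers_zz (h : CycT k x a) : u ∈ zpowers (zz k x) ↔ u = 1 ∨ u = zz k x := by
  rw [← h.sq_eq_one_iff]
  constructor
  · rintro ⟨n, rfl⟩
    simp only
    rw [← zpow_natCast, ← zpow_mul, mul_comm, zpow_mul, zpow_natCast, h.zz_sq, one_zpow]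
  · intro h1
    rcases h.sq_eq_one_iff.mp h1 with rfl | rfl
    · exact one_mem _
    · exact Subgroup.mem_zpowers _

theorem zpow_eq_iff (h : CycT k x a) : u ^ a = u ↔ u = 1 ∨ u = zz k x := by
  rw [h.al.zpow_eq_iff (h.pow_eq_one u), h.sq_eq_one_iff]

theorem zz_zpow (h : CycT k x a) : zz k x ^ a = zz k x := h.zpow_eq_iff.mpr (Or.inr rfl)

theorem orderOf_zz (h : CycT k x a) : orderOf (zz k x) = 2 :=
  orderOf_eq_prime h.zz_sq h.zz_ne_one

theorem index_zz (h : CycT k x a) : (zpowers (zz k x)).index = 2 ^ (k + 1) := by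
  have := (zpowers (zz k x)).card_mul_index
  rw [Nat.card_zpowers, h.orderOf_zz, h.card, pow_succ] at this
  omega

theorem ww_not_mem (h : CycT k x a) : ww k x ∉ zpowers (zz k x) := by
  rw [h.mem_zpowers_zz, ← h.sq_eq_one_iff, ww_sq]
  exact h.zz_ne_one

theorem not_mem (h : CycT k x a) : x ∉ zpowers (zz k x) := by
  intro h1
  exact h.ww_not_mem (Subgroup.pow_mem _ h1 _)

theorem zpow_mem_iff (h : CycT k x a) (Z : Subgroup D) : u ^ a ∈ Z ↔ u ∈ Z :=
  ⟨fun h1 => by rw [← h.zpow_zpow u]; exact Z.zpow_mem h1 _, fun h1 => Z.zpow_mem h1 _⟩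

theorem dual_pow (h : CycT k x a) (l : D →* ℂˣ) : l ^ 2 ^ (k + 2) = 1 := by
  ext u
  rw [MonoidHom.pow_apply, ← map_pow, h.pow_eq_one, map_one, MonoidHom.one_apply]

theorem dual_ext (h : CycT k x a) {l l' : D →* ℂˣ} (h1 : l x = l' x) : l = l' := by
  refine MonoidHom.ext fun u => ?_
  obtain ⟨n, rfl⟩ := h.gen u
  simp only [map_zpow, h1]

theorem exists_star (h : CycT k x a) : ∃ l : D →* ℂˣ, l ≠ 1 ∧ l (zz k x) = 1 ∧
    ∀ l' : D →* ℂˣ, l' ^ a = l' ↔ l' = 1 ∨ l' = l := by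
  have h2 : orderOf (-1 : ℂˣ) ∣ orderOf x := by
    rw [h.ord]
    exact (orderOf_dvd_of_pow_eq_one (n := 2) (by simp)).trans (dvd_pow_self 2 (by omega))
  let l := monoidHomOfForallMemZpowers h.gen h2
  have hl : l x = -1 := monoidHomOfForallMemZpowers_apply_gen h.gen h2
  refine ⟨l, fun h1 => ?_, ?_, fun l' => ?_⟩
  · rw [h1, MonoidHom.one_apply] at hl
    have := congrArg Units.val hl
    norm_num at this
  · rw [zz, map_pow, hl, pow_succ', pow_mul]; simp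
  · rw [h.al.zpow_eq_iff (h.dual_pow l')]
    constructor
    · intro h1
      have h3 : l' x ^ 2 = 1 := by rw [← MonoidHom.pow_apply, h1, MonoidHom.one_apply]
      have h4 : (l' x : ℂ) ^ 2 = 1 := by
        rw [← Units.val_pow_eq_pow_val, h3, Units.val_one]
      rcases _root_.sq_eq_one_iff.mp h4 with h5 | h5
      · exact Or.inl (h.dual_ext (Units.ext h5))
      · exact Or.inr (h.dual_ext (by rw [hl]; exact Units.ext h5))
    · rintro (rfl | rfl)
      · exact h.dual_ext (by rw [MonoidHom.pow_apply]; simp)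
      · exact h.dual_ext (by rw [MonoidHom.pow_apply, hl]; simp)

end CycT

theorem gram (h : CycT k x a) (Z : Subgroup D) [DecidableEq D] {I : Type*} (s : Finset I)
    (E : I → D → ℂ)
    (hG : ∀ u u', u ∉ Z → u' ∉ Z → ∑ i ∈ s, E i u * conj (E i u') =
      (Nat.card D : ℂ) * ((if u = u' then 1 else 0) + if u = u' ^ a then 1 else 0))
    {g g' : D → ℂ} (hg : ∀ u ∈ Z, g u = 0) (hg' : ∀ u ∈ Z, g' u = 0) :
    ∑ i ∈ s, classInner (E i) g * conj (classInner (E i) g') =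
      classInner (fun u => g' u + g' (u ^ a)) g := by
  have hN : (Nat.card D : ℂ) ≠ 0 := Nat.cast_ne_zero.mpr Nat.card_pos.ne'
  have h1 : ∀ i, classInner (E i) g * conj (classInner (E i) g') = (Nat.card D : ℂ)⁻¹ *
      ((Nat.card D : ℂ)⁻¹ * ∑ u, ∑ u', conj (g u) * g' u' * (E i u * conj (E i u'))) := by
    intro i
    simp only [classInner, map_mul, map_inv₀, map_natCast, map_sum, Complex.conj_conj]
    rw [mul_mul_mul_comm, sum_mul_sum, mul_assoc]
    congr 2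
    exact sum_congr rfl fun u _ => sum_congr rfl fun u' _ => by ring
  simp only [h1]
  rw [← mul_sum, ← mul_sum, sum_comm, classInner]
  congr 1
  rw [mul_sum]
  refine sum_congr rfl fun u _ => ?_
  rw [sum_comm]
  have h2 : ∀ u', ∑ i ∈ s, conj (g u) * g' u' * (E i u * conj (E i u')) = (Nat.card D : ℂ) *
      (conj (g u) * ((if u = u' then g' u' else 0) + if u ^ a = u' then g' u' else 0)) := by
    intro u'
    rw [← mul_sum]
    by_cases hu : u ∈ Z
    · simp [hg u hu]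
    by_cases hu' : u' ∈ Z
    · simp [hg' u' hu']
    rw [hG u u' hu hu']
    have h3 : u = u' ^ a ↔ u ^ a = u' :=
      ⟨fun h3 => by rw [h3, h.zpow_zpow], fun h3 => by rw [← h3, h.zpow_zpow]⟩
    simp only [h3]
    split_ifs <;> ring
  simp only [h2]
  rw [← mul_sum, ← mul_assoc, inv_mul_cancel₀ hN, one_mul, ← mul_sum, sum_add_distrib,
    sum_ite_eq, sum_ite_eq]
  simp only [mem_univ, if_true]
  ring

theorem fourier (f : D → ℂ) (u : D) :
    f u = ∑ l : D →* ℂˣ, classInner f (fun v => (l v : ℂ)) * l u := by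
  rw [← H85.fourier_inv f u]
  simp only [classInner, Nat.card_eq_fintype_card]

theorem inner_shift (f : D → ℂ) (l : D →* ℂˣ) (t : D) :
    classInner (fun u => f (u * t)) (fun v => (l v : ℂ)) =
      l t * classInner f (fun v => (l v : ℂ)) := by
  simp only [classInner]
  rw [mul_left_comm]
  congr 1
  rw [← Equiv.sum_comp (Equiv.mulRight t) (fun v => f v * conj (l v : ℂ)), mul_sum]
  refine sum_congr rfl fun u _ => ?_
  simp only [Equiv.coe_mulRight, map_mul, Units.val_mul]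
  have : (l t : ℂ) * conj (l t : ℂ) = 1 := by
    rw [H85.conj_dual, ← Units.val_mul, ← map_mul, mul_inv_cancel, map_one, Units.val_one]
  linear_combination (-(f (u * t) * conj (l u : ℂ))) * this

theorem sum_annih (Z : Subgroup D) [DecidablePred (· ∈ Z)]
    [DecidablePred (· ∈ H85.annih Z)] (u : D) :
    ∑ l ∈ univ.filter (· ∈ H85.annih Z), ((l u : ℂˣ) : ℂ) = if u ∈ Z then (Z.index : ℂ) else 0 := by
  classical
  have := H85.sum_class_dual Z 1 u
  simp only [MonoidHom.one_apply, Units.val_one, mul_one] at this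
  rw [← this]
  refine sum_congr ?_ fun _ _ => rfl
  ext l
  simp only [mem_filter, mem_univ, true_and, H85.mem_annih]
  refine ⟨fun h => MonoidHom.ext fun t => (h t t.2).symm, fun h t ht => ?_⟩
  exact (DFunLike.congr_fun h ⟨t, ht⟩).symm

/-- The integer vectors of a system of generalized characters. -/
structure Vec (k : ℕ) (x : D) (a : ℤ) (Z : Subgroup D) {I : Type*} (s : Finset I) (E : I → D → ℂ)
    (R : Finset (D →* ℂˣ)) (l : D →* ℂˣ) (v : (D →* ℂˣ) → I → ℤ) (n : I → ℤ) : Prop where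
  card : 2 * R.card + 2 = Z.index
  three : ∀ r ∈ R, ∑ i ∈ s, v r i * v r i = 3
  two : ∀ r ∈ R, ∀ r' ∈ R, r ≠ r' → ∑ i ∈ s, v r i * v r' i = 2
  two' : ∀ r ∈ R, ∑ i ∈ s, v l i * v r i = 2
  four : ∑ i ∈ s, v l i * v l i = 4
  par : ∀ i, ∃ t : ℤ, E i 1 = v l i + 2 * t
  orth : ∀ W : I → ℂ, (∀ u ∉ Z, ∑ i ∈ s, W i * conj (E i u) = 0) →
    ∑ i ∈ s, v l i * W i = 0 ∧ ∀ r ∈ R, ∑ i ∈ s, v r i * W i = 0
  exp : ∀ i, (∀ u, ∀ t ∈ Z, E i (u * t) = E i u) → ∀ u ∉ Z,
    E i u = v l i * l u + ∑ r ∈ R, v r i * ((r u : ℂ) + r (u ^ a))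
  exp_one : ∀ i, (∀ u, ∀ t ∈ Z, E i (u * t) = E i u) →
    E i 1 = Z.index * n i + v l i + 2 * ∑ r ∈ R, (v r i : ℂ)
  anti : ∀ i, (∃ t ∈ Z, ∀ u, E i (u * t) = - E i u) → v l i = 0 ∧ ∀ r ∈ R, v r i = 0
  lz : l (zz k x) = 1
  sum : ∀ u ∉ Z, 1 + (l u : ℂ) + ∑ r ∈ R, ((r u : ℂ) + r (u ^ a)) = 0

theorem exists_vec (h : CycT k x a) (Z : Subgroup D) (hZ : Z ≤ zpowers (zz k x)) [DecidableEq D]
    {I : Type*} (s : Finset I) (E : I → D → ℂ) (hE : ∀ i, IsGeneralizedCharacter D (E i))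
    (hα : ∀ i u, E i (u ^ a) = E i u)
    (hG : ∀ u u', u ∉ Z → u' ∉ Z → ∑ i ∈ s, E i u * conj (E i u') =
      (Nat.card D : ℂ) * ((if u = u' then 1 else 0) + if u = u' ^ a then 1 else 0)) :
    ∃ R l v n, Vec k x a Z s E R l v n := by
  classical
  obtain ⟨l, hl1, hlz, hfix⟩ := h.exists_star
  choose n hn using fun i (μ : D →* ℂˣ) =>
    H6.gen_inner_int (hE i) (H6.irr_isGen (H6.isIrrCharacter_hom μ))
  have hpow : ∀ (μ : D →* ℂˣ) u, (μ ^ a) u = μ (u ^ a) := fun μ u => by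
    rw [MonoidHom.zpow_apply, map_zpow]
  have hτ : ∀ μ : D →* ℂˣ, (μ ^ a) ^ a = μ := fun μ => h.al.zpow_zpow (h.dual_pow μ)
  have hna : ∀ i μ, n i (μ ^ a) = n i μ := by
    intro i μ
    have : (n i (μ ^ a) : ℂ) = n i μ := by
      rw [← hn, ← hn]
      simp only [classInner]
      congr 1
      let σ : D ≃ D := ⟨fun u => u ^ a, fun u => u ^ a, h.zpow_zpow, h.zpow_zpow⟩
      rw [← Equiv.sum_comp σ (fun u => E i u * conj (μ u : ℂ))]
      exact sum_congr rfl fun u _ => by rw [hpow, ← hα i u]; rfl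
    exact_mod_cast this
  let Λ : Finset (D →* ℂˣ) := univ.filter (· ∈ H85.annih Z)
  have hΛ : ∀ μ, μ ∈ Λ ↔ ∀ t ∈ Z, μ t = 1 := fun μ => by simp [Λ, H85.mem_annih]
  have h1Λ : (1 : D →* ℂˣ) ∈ Λ := (hΛ _).mpr fun _ _ => rfl
  have hlΛ : l ∈ Λ := (hΛ _).mpr fun t ht => by
    rcases h.mem_zpowers_zz.mp (hZ ht) with rfl | rfl
    · exact map_one l
    · exact hlz
  have haΛ : ∀ μ ∈ Λ, μ ^ a ∈ Λ := fun μ hμ => (hΛ _).mpr fun t ht => by
    rw [hpow]; exact (hΛ μ).mp hμ _ (Z.zpow_mem ht _)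
  have hne : ∀ μ : D →* ℂˣ, μ ≠ l → μ ≠ 1 → μ ^ a ≠ l ∧ μ ^ a ≠ 1 ∧ μ ^ a ≠ μ := by
    intro μ h1 h2
    refine ⟨fun h3 => h1 ?_, fun h3 => h2 ?_, fun h3 => ?_⟩
    · rw [← hτ μ, h3, (hfix l).mpr (Or.inr rfl)]
    · rw [← hτ μ, h3, (hfix 1).mpr (Or.inl rfl)]
    · rcases (hfix μ).mp h3 with h4 | h4 <;> contradiction
  obtain ⟨R, hR, k1, -, k3, k4⟩ := exists_transversal_sum (fun μ => μ ^ a) ((Λ.erase 1).erase l)
    (fun μ hμ => by
      simp only [mem_erase] at hμ ⊢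
      exact ⟨(hne μ hμ.1 hμ.2.1).1, (hne μ hμ.1 hμ.2.1).2.1, haΛ μ hμ.2.2⟩)
    (fun μ _ => hτ μ) (fun μ hμ => by
      simp only [mem_erase] at hμ
      exact (hne μ hμ.1 hμ.2.1).2.2)
  have hRm : ∀ r ∈ R, r ≠ l ∧ r ≠ 1 ∧ r ∈ Λ := fun r hr => by simpa only [mem_erase] using hR hr
  have hsum : ∀ f : (D →* ℂˣ) → ℂ, ∑ μ ∈ Λ, f μ = f 1 + f l + ∑ r ∈ R, (f r + f (r ^ a)) := by
    intro f
    rw [← add_sum_erase _ _ h1Λ, ← add_sum_erase _ _ (mem_erase.mpr ⟨hl1, hlΛ⟩), k4, add_assoc]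
  let v : (D →* ℂˣ) → I → ℤ := fun μ i => n i μ - n i 1
  have hv : ∀ μ i, (v μ i : ℂ) = classInner (E i) fun u => (μ u : ℂ) - 1 := by
    intro μ i
    have := H6.classInner_sub_right (E i) (fun u => (μ u : ℂ)) (fun u => ((1 : D →* ℂˣ) u : ℂ))
    rw [hn, hn] at this
    simp only [v]
    push_cast
    rw [← this]
    rfl
  have hz : ∀ μ ∈ Λ, ∀ u ∈ Z, (μ u : ℂ) - 1 = 0 := fun μ hμ u hu => by
    rw [(hΛ μ).mp hμ u hu]; simp
  have hgram : ∀ μ ∈ Λ, ∀ ν ∈ Λ, μ ≠ 1 → ν ≠ 1 → ∑ i ∈ s, v μ i * v ν i =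
      (if ν = μ then 1 else 0) + (if ν ^ a = μ then 1 else 0) + 2 := by
    intro μ hμ ν hν h1 h2
    have h3 := gram h Z s E hG (hz μ hμ) (hz ν hν)
    simp only [← hv, map_intCast] at h3
    have h4 : (fun u => (ν u : ℂ) - 1 + ((ν (u ^ a) : ℂ) - 1)) = (fun u => (ν u : ℂ)) +
        (fun u => ((ν ^ a) u : ℂ)) - (fun u => ((1 : D →* ℂˣ) u : ℂ)) -
        (fun u => ((1 : D →* ℂˣ) u : ℂ)) := by
      funext u
      simp only [Pi.add_apply, Pi.sub_apply, hpow, MonoidHom.one_apply, Units.val_one]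
      ring
    have h5 : (fun u => (μ u : ℂ) - 1) = (fun u => (μ u : ℂ)) -
        (fun u => ((1 : D →* ℂˣ) u : ℂ)) := rfl
    have h6 : ν ^ a ≠ 1 := fun h6 => h2 (by rw [← hτ ν, h6, (hfix 1).mpr (Or.inl rfl)])
    rw [h4, h5] at h3
    simp only [H6.classInner_sub_left, H6.classInner_sub_right, H6.classInner_add_left,
      H6.hom_inner, if_neg h2, if_neg h6, if_neg h1.symm, if_true] at h3
    have h7 : ((∑ i ∈ s, v μ i * v ν i : ℤ) : ℂ) =
        ((if ν = μ then 1 else 0) + (if ν ^ a = μ then 1 else 0) + 2 : ℤ) := by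
      push_cast
      rw [h3]
      ring
    exact_mod_cast h7
  have hexp : ∀ i, (∀ u, ∀ t ∈ Z, E i (u * t) = E i u) → ∀ u,
      E i u = (if u ∈ Z then (Z.index : ℂ) else 0) * n i 1 + v l i * l u +
        ∑ r ∈ R, v r i * ((r u : ℂ) + r (u ^ a)) := by
    intro i hi u
    have h0 : ∀ μ, μ ∉ Λ → n i μ = 0 := by
      intro μ hμ
      rw [hΛ] at hμ
      push Not at hμ
      obtain ⟨t, ht, h1⟩ := hμ
      have h2 := inner_shift (E i) μ t
      simp only [hi _ t ht, hn] at h2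
      have h3 : (μ t : ℂ) - 1 ≠ 0 := sub_ne_zero.mpr fun h3 => h1 (Units.ext h3)
      have h4 : ((μ t : ℂ) - 1) * n i μ = 0 := by linear_combination -h2
      exact_mod_cast (mul_eq_zero.mp h4).resolve_left h3
    rw [fourier (E i) u, ← sum_subset (subset_univ Λ) fun μ _ hμ => by rw [hn, h0 μ hμ]; simp,
      ← sum_annih Z u, hsum, hsum]
    simp only [hn, hna]
    simp only [hpow, v]
    push_cast
    rw [add_mul, sum_mul, sum_congr rfl fun r _ => show (n i r : ℂ) * r u + n i r * r (u ^ a) =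
        ((r u : ℂ) + r (u ^ a)) * n i 1 + (n i r - n i 1) * ((r u : ℂ) + r (u ^ a)) by ring,
      sum_add_distrib]
    ring
  refine ⟨R, l, v, fun i => n i 1, ?_, fun r hr => ?_, fun r hr r' hr' hrr => ?_, fun r hr => ?_,
    ?_, fun i => ?_, fun W hW => ?_, fun i hi u hu => ?_, fun i hi => ?_, fun i hi => ?_, hlz,
    fun u hu => ?_⟩
  · have h1 := sum_annih Z 1
    simp only [map_one, Units.val_one, sum_const, nsmul_eq_mul, mul_one, one_mem, if_true,
      Nat.cast_inj] at h1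
    rw [k3, card_erase_of_mem (mem_erase.mpr ⟨hl1, hlΛ⟩), card_erase_of_mem h1Λ, ← h1]
    have : 2 ≤ Λ.card := by
      rw [← card_pair hl1]
      exact card_le_card (insert_subset hlΛ (singleton_subset_iff.mpr h1Λ))
    change _ = Λ.card
    omega
  · obtain ⟨a1, a2, a3⟩ := hRm r hr
    rw [hgram r a3 r a3 a2 a2, if_pos rfl, if_neg (hne r a1 a2).2.2]
    rfl
  · obtain ⟨-, a2, a3⟩ := hRm r hr
    obtain ⟨-, b2, b3⟩ := hRm r' hr'
    rw [hgram r a3 r' b3 a2 b2, if_neg hrr.symm, if_neg fun h1 : r' ^ a = r => k1 r' hr' (h1.symm ▸ hr)]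
    rfl
  · obtain ⟨a1, a2, a3⟩ := hRm r hr
    rw [hgram l hlΛ r a3 hl1 a2, if_neg a1, if_neg (hne r a1 a2).1]
    rfl
  · rw [hgram l hlΛ l hlΛ hl1 hl1, if_pos rfl, if_pos ((hfix l).mpr (Or.inr rfl))]
    rfl
  · obtain ⟨R', -, -, -, -, k⟩ := exists_transversal_sum (fun μ => μ ^ a)
      (((univ : Finset (D →* ℂˣ)).erase 1).erase l)
      (fun μ hμ => by
        simp only [mem_erase] at hμ ⊢
        exact ⟨(hne μ hμ.1 hμ.2.1).1, (hne μ hμ.1 hμ.2.1).2.1, mem_univ _⟩)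
      (fun μ _ => hτ μ) (fun μ hμ => by
        simp only [mem_erase] at hμ
        exact (hne μ hμ.1 hμ.2.1).2.2)
    refine ⟨n i 1 + ∑ r ∈ R', n i r, ?_⟩
    rw [fourier (E i) 1, ← add_sum_erase _ _ (mem_univ 1),
      ← add_sum_erase _ _ (mem_erase.mpr ⟨hl1, mem_univ _⟩), k]
    simp only [hn, hna, v, map_one, Units.val_one, mul_one, ← two_mul, ← mul_sum]
    push_cast
    ring
  · have key : ∀ μ ∈ Λ, ∑ i ∈ s, v μ i * W i = 0 := by
      intro μ hμ
      have h1 : ∀ i, (v μ i : ℂ) * W i = (Nat.card D : ℂ)⁻¹ *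
          ∑ u, ((μ u : ℂ) - 1) * (W i * conj (E i u)) := by
        intro i
        rw [← map_intCast (starRingEnd ℂ), hv]
        simp only [classInner, map_mul, map_inv₀, map_natCast, map_sum, Complex.conj_conj]
        rw [mul_assoc, sum_mul]
        congr 1
        exact sum_congr rfl fun u _ => by ring
      simp only [h1]
      rw [← mul_sum, sum_comm, sum_eq_zero, mul_zero]
      intro u _
      rw [← mul_sum]
      by_cases hu : u ∈ Z
      · rw [hz μ hμ u hu, zero_mul]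
      · rw [hW u hu, mul_zero]
    exact ⟨key l hlΛ, fun r hr => key r (hRm r hr).2.2⟩
  · rw [hexp i hi u, if_neg hu, zero_mul, zero_add]
  · rw [hexp i hi 1, if_pos (one_mem Z)]
    simp only [one_zpow, map_one, Units.val_one, mul_one, ← sum_mul]
    ring
  · obtain ⟨t, ht, hi⟩ := hi
    have key : ∀ μ ∈ Λ, n i μ = 0 := by
      intro μ hμ
      have h2 := inner_shift (E i) μ t
      have h3 : (fun u => E i (u * t)) = (-1 : ℂ) • E i := funext fun u => by simp [hi]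
      rw [h3, H6.classInner_smul_left, hn, (hΛ μ).mp hμ t ht, Units.val_one] at h2
      have h4 : (n i μ : ℂ) = 0 := by linear_combination (-1 / 2 : ℂ) * h2
      exact_mod_cast h4
    exact ⟨by simp only [v, key l hlΛ, key 1 h1Λ, sub_zero],
      fun r hr => by simp only [v, key r (hRm r hr).2.2, key 1 h1Λ, sub_zero]⟩
  · have h1 := sum_annih Z u
    rw [if_neg hu] at h1
    rw [← h1, hsum]
    simp only [hpow, MonoidHom.one_apply, Units.val_one]

end H33.Tame
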