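import Mathlib
import Cfsg.Agent.Lib.Tame.Four
import Cfsg.Prelude.Def_CaseTheorems

/-! Dihedral, semidihedral and quaternion `2`-groups in a uniform presentation. -/

set_option autoImplicit false
set_option linter.unusedSectionVars false
set_option linter.style.haveILetI false

namespace H33.Tame

open Cfsg Finset
open Subgroup (zpowers)
open H86 (Cen Nor cs)

variable {D : Type*} [CommGroup D] [Fintype D] {k : ℕ} {x u u' : D} {a : ℤ}

namespace CycT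

theorem exists_orderOf (h : CycT k x a) (u : D) : ∃ j, orderOf u = 2 ^ j :=
  ((Nat.dvd_prime_pow Nat.prime_two).mp (orderOf_dvd_of_pow_eq_one (h.pow_eq_one u))).imp
    fun _ h => h.2

theorem zz_mem (h : CycT k x a) (hu : u ≠ 1) : zz k x ∈ zpowers u := by
  obtain ⟨j, hj⟩ := h.exists_orderOf u
  rcases j with _ | j
  · exact absurd (orderOf_eq_one_iff.mp hj) hu
  have h1 : (u ^ 2 ^ j) ^ 2 = 1 := by rw [← pow_mul, ← pow_succ, ← hj, pow_orderOf_eq_one]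
  rcases h.sq_eq_one_iff.mp h1 with h2 | h2
  · have := Nat.le_of_dvd (by positivity) (orderOf_dvd_of_pow_eq_one h2)
    rw [hj, pow_succ] at this
    have : 0 < 2 ^ j := by positivity
    omega
  · rw [← h2]; exact Subgroup.pow_mem _ (Subgroup.mem_zpowers u) _

theorem eq_ww (h : CycT k x a) (h1 : u ^ 2 = zz k x) : u = ww k x ∨ u = (ww k x)⁻¹ := by
  have h2 : (u * (ww k x)⁻¹) ^ 2 = 1 := by rw [mul_pow, inv_pow, ww_sq, h1, mul_inv_cancel]
  rcases h.sq_eq_one_iff.mp h2 with h3 | h3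
  · exact Or.inl (mul_inv_eq_one.mp h3)
  · right
    rw [mul_inv_eq_iff_eq_mul] at h3
    rw [h3, eq_inv_iff_mul_eq_one, mul_assoc, ← sq, ww_sq, h.zz_mul_zz]

theorem ww_mem (h : CycT k x a) (hu : u ∉ zpowers (zz k x)) : ww k x ∈ zpowers u := by
  rw [h.mem_zpowers_zz, ← h.sq_eq_one_iff] at hu
  obtain ⟨n, hn⟩ := h.zz_mem hu
  simp only at hn
  have h1 : (u ^ n) ^ 2 = zz k x := by
    rw [← hn, ← zpow_natCast, ← zpow_natCast, ← zpow_mul, ← zpow_mul, mul_comm]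
  rcases h.eq_ww h1 with h2 | h2
  · rw [← h2]; exact Subgroup.zpow_mem_zpowers u n
  · rw [← inv_mem_iff, ← h2]; exact Subgroup.zpow_mem_zpowers u n

theorem mul_zz_not_mem (hu : u ∉ zpowers (zz k x)) : u * zz k x ∉ zpowers (zz k x) :=
  fun h1 => hu ((Subgroup.mul_mem_cancel_right _ (Subgroup.mem_zpowers _)).mp h1)

theorem zpowers_mul_zz (h : CycT k x a) (hu : u ∉ zpowers (zz k x)) :
    zpowers (u * zz k x) = zpowers u := by
  have h1 : u ≠ 1 := fun h1 => hu (h1 ▸ one_mem _)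
  have h2 : u * zz k x ≠ 1 := fun h2 => mul_zz_not_mem hu (h2 ▸ one_mem _)
  refine le_antisymm (Subgroup.zpowers_le.mpr (mul_mem (Subgroup.mem_zpowers u) (h.zz_mem h1)))
    (Subgroup.zpowers_le.mpr ?_)
  exact (Subgroup.mul_mem_cancel_right _ (h.zz_mem h2)).mp (Subgroup.mem_zpowers _)

theorem exists_sq (h : CycT k x a) (s : D) : ∃ t : D, t ^ (1 - a) = s ^ 2 := by
  rcases h.al with rfl | ⟨hk, rfl⟩
  · exact ⟨s, by rw [← zpow_natCast]; rfl⟩
  · obtain ⟨j, rfl⟩ : ∃ j, k = j + 1 := ⟨k - 1, by omega⟩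
    refine ⟨s ^ (1 + 2 ^ (j + 1) : ℤ), ?_⟩
    have h1 : s ^ ((2 : ℤ) ^ (j + 1 + 2)) = 1 := by exact_mod_cast h.pow_eq_one s
    rw [← zpow_mul, show ((1 : ℤ) + 2 ^ (j + 1)) * (1 - (2 ^ (j + 1 + 1) - 1)) =
      2 ^ (j + 1 + 2) * (-2 ^ j) + 2 by ring, zpow_add, zpow_mul, h1, one_zpow, one_mul]
    exact zpow_natCast s 2

theorem sq_or (h : CycT k x a) (u : D) : ∃ s : D, u = s ^ 2 ∨ u = x * s ^ 2 := by
  obtain ⟨n, rfl⟩ := (mem_powers_iff_mem_zpowers.mpr (h.gen u))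
  rcases Nat.even_or_odd' n with ⟨j, rfl | rfl⟩
  · exact ⟨x ^ j, Or.inl (by simp only; rw [← pow_mul, mul_comm])⟩
  · exact ⟨x ^ j, Or.inr (by simp only; rw [← pow_mul, mul_comm j, pow_succ'])⟩

theorem ne_sq (h : CycT k x a) (s : D) : x ≠ s ^ 2 := by
  intro h1
  apply h.zz_ne_one
  rw [zz, h1, ← pow_mul, ← pow_succ', h.pow_eq_one]

theorem pow_one_add (h : CycT k x a) (u : D) : u * u ^ a = 1 ∨ u * u ^ a = zz k x := by
  rw [← h.zpow_eq_iff, mul_zpow, h.zpow_zpow, mul_comm]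

end CycT

variable {G : Type*} [Group G]

/-- `P` is generated by the cyclic group `ι D` of index two and `y`. -/
structure Tm (k : ℕ) (P : Subgroup G) (ι : D →* G) (x : D) (a : ℤ) (y : G) : Prop
    extends CycT k x a where
  inj : Function.Injective ι
  mem : ∀ g, g ∈ P ↔ (∃ u, g = ι u) ∨ ∃ u, g = ι u * y
  ny : ∀ u, y ≠ ι u
  conj : ∀ u, y * ι u * y⁻¹ = ι (u ^ a)
  sq : y ^ 2 = 1 ∨ y ^ 2 = ι (zz k x)

variable {P : Subgroup G} {ι : D →* G} {y g : G}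

namespace Tm

theorem mem_ι (h : Tm k P ι x a y) (u : D) : ι u ∈ P := (h.mem _).mpr (Or.inl ⟨u, rfl⟩)

theorem mem_ιy (h : Tm k P ι x a y) (u : D) : ι u * y ∈ P := (h.mem _).mpr (Or.inr ⟨u, rfl⟩)

theorem mem_y (h : Tm k P ι x a y) : y ∈ P := by simpa using h.mem_ιy 1

theorem range_le (h : Tm k P ι x a y) : ι.range ≤ P := by
  rintro _ ⟨u, rfl⟩
  exact h.mem_ι u

theorem ιy_ne (h : Tm k P ι x a y) (u u' : D) : ι u * y ≠ ι u' := fun h1 =>
  h.ny (u⁻¹ * u') (by rw [map_mul, map_inv, ← h1, inv_mul_cancel_left])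

theorem y_mul (h : Tm k P ι x a y) (u : D) : y * ι u = ι (u ^ a) * y := by
  rw [← h.conj, inv_mul_cancel_right]

theorem comm (ι : D →* G) (u u' : D) : ι u * ι u' = ι u' * ι u := by
  rw [← map_mul, mul_comm, map_mul]

theorem z_ne_one (h : Tm k P ι x a y) : ι (zz k x) ≠ 1 := fun h1 =>
  h.zz_ne_one (h.inj (h1.trans (map_one ι).symm))

theorem z_mul_z (h : Tm k P ι x a y) : ι (zz k x) * ι (zz k x) = 1 := by
  rw [← map_mul, h.zz_mul_zz, map_one]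

theorem z_comm (h : Tm k P ι x a y) (hg : g ∈ P) : ι (zz k x) * g = g * ι (zz k x) := by
  rcases (h.mem g).mp hg with ⟨u, rfl⟩ | ⟨u, rfl⟩
  · exact comm ι _ _
  · rw [mul_assoc, h.y_mul, h.zz_zpow, ← mul_assoc, ← mul_assoc, comm ι]

theorem le_Cen_z (h : Tm k P ι x a y) : P ≤ Cen (zpowers (ι (zz k x))) :=
  fun _ hg => H86.mem_Cen_zpowers.mpr (h.z_comm hg)

theorem card_P (h : Tm k P ι x a y) : Nat.card P = 2 ^ (k + 3) := by
  let f : D ⊕ D → P := Sum.elim (fun u => ⟨ι u, h.mem_ι u⟩) fun u => ⟨ι u * y, h.mem_ιy u⟩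
  have hf : Function.Bijective f := by
    constructor
    · rintro (u | u) (u' | u') h1 <;> simp only [f, Sum.elim_inl, Sum.elim_inr, Subtype.mk.injEq] at h1
      · rw [h.inj h1]
      · exact absurd h1.symm (h.ιy_ne _ _)
      · exact absurd h1 (h.ιy_ne _ _)
      · rw [h.inj (mul_right_cancel h1)]
    · rintro ⟨g, hg⟩
      rcases (h.mem g).mp hg with ⟨u, rfl⟩ | ⟨u, rfl⟩
      · exact ⟨Sum.inl u, rfl⟩
      · exact ⟨Sum.inr u, rfl⟩
  rw [← Nat.card_eq_of_bijective f hf, Nat.card_sum, h.card]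
  ring

theorem card_range (h : Tm k P ι x a y) : Nat.card ι.range = 2 ^ (k + 2) := by
  rw [← h.card]
  exact (Nat.card_congr (MonoidHom.ofInjective h.inj).toEquiv).symm

theorem range_eq (h : Tm k P ι x a y) : ι.range = zpowers (ι x) := by
  rw [← MonoidHom.map_zpowers, (Subgroup.eq_top_iff' _).mpr h.gen, MonoidHom.range_eq_map]

theorem conj_ιy (h : Tm k P ι x a y) (t u : D) :
    (ι t * y) * ι u * (ι t * y)⁻¹ = ι (u ^ a) := by
  rw [mul_inv_rev, mul_assoc (ι t), mul_assoc (ι t), ← mul_assoc (y * ι u), h.conj, ← mul_assoc,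
    comm ι, mul_inv_cancel_right]

theorem conj_ι (h : Tm k P ι x a y) (hg : g ∈ P) (u : D) :
    g * ι u * g⁻¹ = ι u ∨ g * ι u * g⁻¹ = ι (u ^ a) := by
  rcases (h.mem g).mp hg with ⟨t, rfl⟩ | ⟨t, rfl⟩
  · left; rw [comm ι, mul_inv_cancel_right]
  · exact Or.inr (h.conj_ιy t u)

theorem inf_Cen (h : Tm k P ι x a y) (hu : u ∉ zpowers (zz k x)) :
    P ⊓ Cen (zpowers (ι u)) = ι.range := by
  ext g
  rw [Subgroup.mem_inf, H86.mem_Cen_zpowers]
  constructor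
  · rintro ⟨hg, hc⟩
    rcases (h.mem g).mp hg with ⟨t, rfl⟩ | ⟨t, rfl⟩
    · exact ⟨t, rfl⟩
    · have h1 := h.conj_ιy t u
      rw [← hc, mul_inv_cancel_right] at h1
      exact absurd (h.mem_zpowers_zz.mpr (h.zpow_eq_iff.mp (h.inj h1).symm)) hu
  · rintro ⟨t, rfl⟩
    exact ⟨h.mem_ι t, comm ι _ _⟩

theorem le_Nor (h : Tm k P ι x a y) [Finite G] (u : D) : P ≤ Nor (zpowers (ι u)) := by
  intro g hg
  refine H86.mem_Nor_of_cs_le ?_
  rw [H86.cs_zpowers, Subgroup.zpowers_le]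
  rcases h.conj_ι hg u with h1 | h1 <;> rw [h1]
  · exact Subgroup.mem_zpowers _
  · rw [map_zpow]; exact Subgroup.zpow_mem_zpowers _ _

theorem ιy_sq (h : Tm k P ι x a y) (u : D) : (ι u * y) ^ 2 = ι (u * u ^ a) * y ^ 2 := by
  rw [_root_.sq, _root_.sq, mul_assoc, ← mul_assoc y, h.y_mul, map_mul]
  simp only [mul_assoc]

theorem ιy_sq_cases (h : Tm k P ι x a y) (u : D) :
    (ι u * y) ^ 2 = 1 ∨ (ι u * y) ^ 2 = ι (zz k x) := by
  rw [h.ιy_sq]
  rcases h.pow_one_add u with h1 | h1 <;> rcases h.sq with h2 | h2 <;> rw [h1, h2]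
  · simp
  · simp
  · simp
  · exact Or.inl h.z_mul_z

/-- Any element outside the cyclic subgroup can play the role of `y`. -/
theorem shift (h : Tm k P ι x a y) (t : D) : Tm k P ι x a (ι t * y) where
  toCycT := h.toCycT
  inj := h.inj
  mem g := by
    rw [h.mem]
    refine or_congr Iff.rfl ⟨?_, ?_⟩
    · rintro ⟨u, rfl⟩
      exact ⟨u * t⁻¹, by rw [← mul_assoc, ← map_mul, inv_mul_cancel_right]⟩
    · rintro ⟨u, rfl⟩
      exact ⟨u * t, by rw [map_mul, mul_assoc]⟩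
  ny := h.ιy_ne t
  conj := h.conj_ιy t
  sq := h.ιy_sq_cases t

theorem comm_y_iff (h : Tm k P ι x a y) (hg : g ∈ P) : y * g = g * y ↔
    g = 1 ∨ g = ι (zz k x) ∨ g = y ∨ g = ι (zz k x) * y := by
  have key : ∀ u, y * ι u = ι u * y ↔ u = 1 ∨ u = zz k x := fun u => by
    rw [h.y_mul, mul_left_inj, h.inj.eq_iff, h.zpow_eq_iff]
  constructor
  · intro h1
    rcases (h.mem g).mp hg with ⟨t, rfl⟩ | ⟨t, rfl⟩
    · rcases (key t).mp h1 with rfl | rfl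
      · exact Or.inl (map_one ι)
      · exact Or.inr (Or.inl rfl)
    · rw [← mul_assoc, mul_left_inj] at h1
      rcases (key t).mp h1 with rfl | rfl
      · exact Or.inr (Or.inr (Or.inl (by simp)))
      · exact Or.inr (Or.inr (Or.inr rfl))
  · rintro (rfl | rfl | rfl | rfl)
    · simp
    · exact (h.z_comm h.mem_y).symm
    · rfl
    · rw [← mul_assoc, h.z_comm h.mem_y]

theorem mem_inf_Cen_y (h : Tm k P ι x a y) : g ∈ P ⊓ Cen (zpowers y) ↔
    g = 1 ∨ g = ι (zz k x) ∨ g = y ∨ g = ι (zz k x) * y := by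
  rw [Subgroup.mem_inf, H86.mem_Cen_zpowers]
  refine ⟨fun h1 => (h.comm_y_iff h1.1).mp h1.2, fun h1 => ?_⟩
  have hg : g ∈ P := by
    rcases h1 with rfl | rfl | rfl | rfl
    exacts [one_mem _, h.mem_ι _, h.mem_y, h.mem_ιy _]
  exact ⟨hg, (h.comm_y_iff hg).mpr h1⟩

theorem card_inf_Cen_y (h : Tm k P ι x a y) :
    Nat.card (P ⊓ Cen (zpowers y) : Subgroup G) = 4 := by
  classical
  have h1 : ((P ⊓ Cen (zpowers y) : Subgroup G) : Set G) =
      ({1, ι (zz k x), y, ι (zz k x) * y} : Finset G) := by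
    ext g
    rw [SetLike.mem_coe, h.mem_inf_Cen_y]
    simp
  have n1 := h.z_ne_one
  have n2 : y ≠ 1 := by simpa using h.ny 1
  have n3 := h.ny (zz k x)
  have n4 : ι (zz k x) * y ≠ 1 := by simpa using h.ιy_ne (zz k x) 1
  have n5 := h.ιy_ne (zz k x) (zz k x)
  have n6 : ι (zz k x) * y ≠ y := by simpa using n1
  rw [← SetLike.coe_sort_coe, h1, Finset.coe_sort_coe, Nat.card_eq_finsetCard,
    card_insert_of_notMem (by simp [n1.symm, n2.symm, n4.symm]),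
    card_insert_of_notMem (by simp [n3.symm, n5.symm]), card_pair n6.symm]

theorem inf_Cen_y_ab (h : Tm k P ι x a y) :
    P ⊓ Cen (zpowers y) ≤ Cen (P ⊓ Cen (zpowers y) : Subgroup G) := by
  intro g hg
  rw [H86.mem_Cen]
  intro q hq
  rcases h.mem_inf_Cen_y.mp hq with rfl | rfl | rfl | rfl
  · simp
  · exact h.z_comm hg.1
  · exact H86.mem_Cen_zpowers.mp hg.2
  · rw [mul_assoc, H86.mem_Cen_zpowers.mp hg.2, ← mul_assoc, h.z_comm hg.1, mul_assoc]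

theorem conj_y (h : Tm k P ι x a y) (t : D) : ι t * y * (ι t)⁻¹ = ι (t ^ (1 - a)) * y := by
  rw [mul_assoc, ← map_inv, h.y_mul, ← mul_assoc, ← map_mul, zpow_sub, zpow_one, inv_zpow]

theorem exists_conj_sq (h : Tm k P ι x a y) (s : D) :
    ∃ g ∈ P, g * y * g⁻¹ = ι (s ^ 2) * y := by
  obtain ⟨t, ht⟩ := h.exists_sq s
  exact ⟨ι t, h.mem_ι t, by rw [h.conj_y, ht]⟩

theorem exists_conj_z (h : Tm k P ι x a y) : ∃ g ∈ P, g * y * g⁻¹ = ι (zz k x) * y := by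
  rw [← ww_sq]; exact h.exists_conj_sq _

theorem exists_conj_inv (h : Tm k P ι x a y) : ∃ g ∈ P, g * y * g⁻¹ = y⁻¹ := by
  rcases h.sq with h1 | h1
  · exact ⟨1, one_mem _, by rw [eq_inv_iff_mul_eq_one, one_mul, inv_one, mul_one, ← _root_.sq, h1]⟩
  · obtain ⟨g, hg, h2⟩ := h.exists_conj_z
    exact ⟨g, hg, by rw [h2, eq_inv_iff_mul_eq_one, mul_assoc, ← _root_.sq, h1, h.z_mul_z]⟩

theorem exists_conj_rep (h : Tm k P ι x a y) (u : D) :
    (∃ g ∈ P, g * y * g⁻¹ = ι u * y) ∨ ∃ g ∈ P, g * (ι x * y) * g⁻¹ = ι u * y := by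
  obtain ⟨s, rfl | rfl⟩ := h.sq_or u
  · exact Or.inl (h.exists_conj_sq s)
  · obtain ⟨g, hg, h1⟩ := (h.shift x).exists_conj_sq s
    exact Or.inr ⟨g, hg, by rw [h1, ← mul_assoc, ← map_mul, mul_comm x]⟩

theorem conj_y_ne (h : Tm k P ι x a y) (hg : g ∈ P) : g * y * g⁻¹ ≠ ι x * y := by
  have key : ∀ t, ι t * y * (ι t)⁻¹ ≠ ι x * y := by
    intro t h1
    rw [h.conj_y, mul_left_inj] at h1
    obtain ⟨j, hj⟩ := h.al.odd
    refine h.ne_sq (t ^ (-j)) ?_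
    rw [← h.inj h1, ← zpow_natCast, ← zpow_mul, hj]
    congr 1
    push_cast
    ring
  rcases (h.mem g).mp hg with ⟨t, rfl⟩ | ⟨t, rfl⟩
  · exact key t
  · rw [mul_inv_rev, ← mul_assoc, mul_inv_cancel_right]
    exact key t

theorem conj_not_mem (h : Tm k P ι x a y) (hg : g ∈ P) (u : D) : g * y * g⁻¹ ≠ ι u := by
  intro h1
  have h3 : y = g⁻¹ * ι u * g⁻¹⁻¹ := by rw [← h1]; group
  rcases h.conj_ι (inv_mem hg) u with h2 | h2 <;> exact h.ny _ (h3.trans h2)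

theorem eq_z_of_central (h : Tm k P ι x a y) (hg : g ∈ P) (hc : ι x * g = g * ι x)
    (h2 : g ^ 2 = 1) (h1 : g ≠ 1) : g = ι (zz k x) := by
  have h3 : g ∈ P ⊓ Cen (zpowers (ι x)) := ⟨hg, H86.mem_Cen_zpowers.mpr hc⟩
  rw [h.inf_Cen h.not_mem] at h3
  obtain ⟨u, rfl⟩ := h3
  rw [← map_pow, ← map_one ι, h.inj.eq_iff, h.sq_eq_one_iff] at h2
  rcases h2 with rfl | rfl
  · exact absurd (map_one ι) h1
  · rfl

/-- Passage to a subgroup containing `P`. -/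
theorem subgroupOf (h : Tm k P ι x a y) {K : Subgroup G} (hK : P ≤ K) :
    Tm k (P.subgroupOf K) (ι.codRestrict K fun u => hK (h.mem_ι u)) x a ⟨y, hK h.mem_y⟩ where
  toCycT := h.toCycT
  inj _ _ h1 := h.inj (congrArg Subtype.val h1)
  mem g := by
    rw [Subgroup.mem_subgroupOf, h.mem]
    simp only [Subtype.ext_iff, MonoidHom.codRestrict_apply, Subgroup.coe_mul]
  ny u h1 := h.ny u (congrArg Subtype.val h1)
  conj u := Subtype.ext (h.conj u)
  sq := h.sq.imp Subtype.ext Subtype.ext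

end Tm

theorem exists_tm [Finite G] {x₀ : G} {g : D} (hg : H85.CycP 2 (k + 1) g) (ha : Al k a)
    (hx : x₀ ∈ P) (hy : y ∈ P) (ho : orderOf x₀ = 2 ^ (k + 2)) (hP : Nat.card P = 2 ^ (k + 3))
    (hn : y ∉ zpowers x₀) (hc : y * x₀ * y⁻¹ = x₀ ^ a) (h2 : y ^ 2 = 1 ∨ y ^ 2 = zz k x₀) :
    ∃ ι : D →* G, ι g = x₀ ∧ Tm k P ι g a y := by
  haveI : Fact (Nat.Prime 2) := ⟨Nat.prime_two⟩
  obtain ⟨ι, hι⟩ := hg.exists_hom (u := x₀) (by rw [← ho, pow_orderOf_eq_one])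
  have hr : ι.range = zpowers x₀ := by
    rw [← hι, ← MonoidHom.map_zpowers, (Subgroup.eq_top_iff' _).mpr hg.gen, MonoidHom.range_eq_map]
  have hinj : Function.Injective ι := by
    rw [injective_iff_map_eq_one]
    intro u hu
    obtain ⟨n, rfl⟩ := hg.gen u
    simp only [map_zpow, hι] at hu ⊢
    rwa [← orderOf_dvd_iff_zpow_eq_one, ho, ← hg.ord, orderOf_dvd_iff_zpow_eq_one] at hu
  have hle : zpowers x₀ ≤ P := Subgroup.zpowers_le.mpr hx
  have hi : ((zpowers x₀).subgroupOf P).index = 2 := by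
    have := ((zpowers x₀).subgroupOf P).card_mul_index
    rw [Nat.card_congr (Subgroup.subgroupOfEquivOfLe hle).toEquiv, Nat.card_zpowers, ho, hP,
      pow_succ 2 (k + 2)] at this
    exact Nat.eq_of_mul_eq_mul_left (by positivity) this
  refine ⟨ι, hι, ⟨hg.gen, hg.ord, ha⟩, hinj, fun t => ⟨fun ht => ?_, ?_⟩, fun u hu => hn ?_,
    fun u => ?_, by rwa [zz, map_pow, hι]⟩
  · by_cases h1 : t ∈ zpowers x₀
    · obtain ⟨u, hu⟩ := hr ▸ h1
      exact Or.inl ⟨u, hu.symm⟩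
    · have h3 := (Subgroup.mul_mem_iff_of_index_two hi (a := ⟨t, ht⟩) (b := ⟨y, hy⟩⁻¹)).mpr
        (by simp only [inv_mem_iff, Subgroup.mem_subgroupOf, h1, hn])
      rw [Subgroup.mem_subgroupOf, ← hr] at h3
      obtain ⟨u, hu⟩ := h3
      exact Or.inr ⟨u, by rw [hu]; simp⟩
  · rintro (⟨u, rfl⟩ | ⟨u, rfl⟩)
    · exact hle (hr ▸ ⟨u, rfl⟩)
    · exact mul_mem (hle (hr ▸ ⟨u, rfl⟩)) hy
  · rw [hu, ← hr]; exact ⟨u, rfl⟩
  · obtain ⟨n, rfl⟩ := hg.gen u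
    simp only [map_zpow, hι]
    rw [← conj_zpow, hc, ← zpow_mul, ← zpow_mul, mul_comm]

theorem exists_tm_of_map [Finite G] {T : Type*} [Group T] (φ : P ≃* T) {x₀ y₀ : T} {g : D}
    (hg : H85.CycP 2 (k + 1) g) (ha : Al k a) (ho : orderOf x₀ = 2 ^ (k + 2))
    (hP : Nat.card T = 2 ^ (k + 3)) (hn : y₀ ∉ zpowers x₀) (hc : y₀ * x₀ * y₀⁻¹ = x₀ ^ a)
    (h2 : y₀ ^ 2 = 1 ∨ y₀ ^ 2 = zz k x₀) :
    ∃ ι : D →* G, ι g = φ.symm x₀ ∧ Tm k P ι g a (φ.symm y₀) := by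
  let f : T →* G := P.subtype.comp φ.symm.toMonoidHom
  have hf : Function.Injective f := P.subtype_injective.comp φ.symm.injective
  refine exists_tm (x₀ := f x₀) (y := f y₀) hg ha (φ.symm x₀).2 (φ.symm y₀).2
    (by rw [orderOf_injective f hf, ho]) (by rw [Nat.card_congr φ.toEquiv, hP]) ?_
    (by rw [← map_inv, ← map_mul, ← map_mul, hc, map_zpow]) ?_
  · rintro ⟨n, h1⟩
    simp only [← map_zpow] at h1
    exact hn ⟨n, hf h1⟩
  · rw [← map_pow, zz, ← map_pow]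
    exact h2.imp (fun h => by rw [h, map_one]) fun h => by rw [h, zz]

theorem exists_tm_dihedral [Finite G] (φ : P ≃* DihedralGroup (2 ^ (k + 2))) {g : D}
    (hg : H85.CycP 2 (k + 1) g) :
    ∃ ι y, Tm k P ι g (-1) y ∧ y ^ 2 = 1 := by
  obtain ⟨ι, -, h⟩ := exists_tm_of_map φ (x₀ := DihedralGroup.r 1) (y₀ := DihedralGroup.sr 0) hg
    (Or.inl rfl) DihedralGroup.orderOf_r_one (by rw [DihedralGroup.nat_card]; ring)
    (by rintro ⟨n, h⟩; simp at h) (by simp) (Or.inl (by simp [sq]))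
  refine ⟨ι, _, h, ?_⟩
  rw [← Subgroup.coe_pow, ← map_pow, sq, DihedralGroup.sr_mul_self, map_one, Subgroup.coe_one]

theorem exists_tm_quaternion [Finite G] (φ : P ≃* QuaternionGroup (2 ^ (k + 1))) {g : D}
    (hg : H85.CycP 2 (k + 1) g) :
    ∃ ι y, Tm k P ι g (-1) y ∧ y ^ 2 = ι (zz k g) := by
  have hpow : ∀ n : ℕ, (QuaternionGroup.a 1 : QuaternionGroup (2 ^ (k + 1))) ^ n =
      QuaternionGroup.a n := QuaternionGroup.a_one_pow
  have h2 : (QuaternionGroup.xa 0 : QuaternionGroup (2 ^ (k + 1))) ^ 2 =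
      zz k (QuaternionGroup.a 1) := by rw [zz, hpow, QuaternionGroup.xa_sq]
  obtain ⟨ι, hι, h⟩ := exists_tm_of_map φ (x₀ := QuaternionGroup.a 1)
    (y₀ := QuaternionGroup.xa 0) hg
    (Or.inl rfl) (by rw [QuaternionGroup.orderOf_a_one]; ring)
    (by rw [Nat.card_eq_fintype_card, QuaternionGroup.card]; ring)
    (by
      intro h
      obtain ⟨n, h⟩ := mem_powers_iff_mem_zpowers.mpr h
      simp only [hpow] at h
      cases h)
    (by rw [mul_inv_eq_iff_eq_mul, zpow_neg_one, eq_inv_mul_iff_mul_eq]; simp) (Or.inr h2)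
  refine ⟨ι, _, h, ?_⟩
  rw [← Subgroup.coe_pow, ← map_pow, h2, zz, zz, map_pow, map_pow, hι, Subgroup.coe_pow]

theorem exists_tm_quasi [Finite G] (hP : IsQuasiDihedral P) : ∃ k, Nat.card P = 2 ^ (k + 3) ∧
    1 ≤ k ∧ ∀ {D : Type} [CommGroup D] [Fintype D] {g : D}, H85.CycP 2 (k + 1) g →
      ∃ ι y, Tm k P ι g (2 ^ (k + 1) - 1) y ∧ y ^ 2 = 1 := by
  obtain ⟨n, hn, hc, x₀, y₀, ho, ho', hxy⟩ := hP
  obtain ⟨k, rfl⟩ : ∃ k, n = k + 2 := ⟨n - 2, by omega⟩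
  refine ⟨k, hc, by omega, fun hg => ?_⟩
  have h2 : y₀ ^ 2 = 1 := by rw [← ho', pow_orderOf_eq_one]
  have ha : Al k (2 ^ (k + 1) - 1) := Or.inr ⟨by omega, rfl⟩
  have hxy' : y₀ * x₀ * y₀⁻¹ = x₀ ^ ((2 : ℤ) ^ (k + 1) - 1) := by
    rw [hxy, ← zpow_natCast, Nat.cast_sub Nat.one_le_two_pow]
    simp
  obtain ⟨ι, -, h⟩ := exists_tm_of_map (MulEquiv.refl P) hg ha ho hc (by
    rintro ⟨n, rfl⟩
    simp only [← zpow_neg, ← zpow_add_one, ← zpow_add] at hxy'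
    rw [show n + 1 + -n = 1 by ring, zpow_one] at hxy'
    have h3 := ha.sq_of_zpow (by rw [← ho, pow_orderOf_eq_one]) hxy'.symm
    have := Nat.le_of_dvd two_pos (orderOf_dvd_of_pow_eq_one h3)
    rw [ho, pow_succ, pow_succ] at this
    have : 0 < 2 ^ k := by positivity
    omega) hxy' (Or.inl h2)
  exact ⟨ι, _, h, by rw [← Subgroup.coe_pow]; exact congrArg Subtype.val h2⟩

end H33.Tame
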