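import Mathlib
import Cfsg.Agent.Lib.H85.AbDef

/-! Transport of subsections to subgroups, central subsections, rational subsections. -/

set_option autoImplicit false
set_option linter.unusedSectionVars false
set_option linter.style.haveILetI false
attribute [local irreducible] H33.instFieldF

namespace H33.Tame

open Cfsg H84 H35 H85 Finset
open H86 (Cen Nor emb cj cs trI eS IsMaxPair PairOf St)
open Subgroup (zpowers)
open scoped ComplexConjugate SubFin

variable {G : Type*} [Group G] [Fintype G] {p : ℕ} [hp : Fact p.Prime] {M : Ideal AlgInt}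
  [M.IsMaximal] {B : Set (IrrCharacter G)} {P Q K : Subgroup G} {e : MonoidAlgebra (F M) G}
  {θ η : G → ℂ}

/-- A maximal pair of `G` seen inside a subgroup `K`. -/
structure Down (p : ℕ) {G : Type*} [Group G] [Finite G] (M : Ideal AlgInt) [M.IsMaximal]
    (B : Set (IrrCharacter G)) (P : Subgroup G) (e : MonoidAlgebra (F M) G) (K : Subgroup G)
    (b : Set (IrrCharacter K)) (e' : MonoidAlgebra (F M) K) : Prop where
  up : MP p M B P e
  le : P ≤ K
  mp : MP p M b (P.subgroupOf K) e'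
  eq : emb K.subtype e' = e

variable {b : Set (IrrCharacter K)} {e' : MonoidAlgebra (F M) K} {u v : K}

theorem map_Cen_z (hc : Cen (zpowers (u : G)) ≤ K) :
    (Cen (zpowers u)).map K.subtype = Cen (zpowers (u : G)) := by
  rw [← top_inf_eq (Cen (zpowers u)), H86.map_inf_Cen K.subtype_injective, H86.top_map_subtype,
    MonoidHom.map_zpowers]
  exact inf_eq_right.mpr hc

namespace Down

theorem emb_loc (h : Down p M B P e K b e') (hu : (u : G) ∈ P) (hc : Cen (zpowers (u : G)) ≤ K) :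
    emb K.subtype (eS M _ (loc p M (P.subgroupOf K) e' (zpowers u))) =
      eS M _ (loc p M P e (zpowers (u : G))) := by
  haveI := H33.charP h.up.hM
  have h1 := (h.mp.sub (Q := zpowers u) (Subgroup.zpowers_le.mpr hu)).emb K.subtype_injective
  rw [H86.top_map_subtype, Subgroup.map_subgroupOf_eq_of_le h.le, h.eq,
    MonoidHom.map_zpowers] at h1
  exact h.up.eq_eS (h1.change le_top (by rw [top_inf_eq]; exact (inf_eq_right.mpr hc).symm))

theorem exists_equiv (h : Down p M B P e K b e') (hu : (u : G) ∈ P)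
    (hc : Cen (zpowers (u : G)) ≤ K) :
    ∃ ψ : Cen (zpowers u) ≃* Cen (zpowers (u : G)),
      loc p M P e (zpowers (u : G)) = trI ψ '' loc p M (P.subgroupOf K) e' (zpowers u) ∧
      ∀ θ : G → ℂ, sub p (u : G) _ (loc p M P e (zpowers (u : G))) θ =
        trF ψ (sub p u _ (loc p M (P.subgroupOf K) e' (zpowers u)) fun k : K => θ k) := by
  obtain ⟨ψ, h1, h2⟩ := exists_equiv_of_emb K.subtype_injective (map_Cen_z hc)
    (h.mp.blk (Subgroup.zpowers_le.mpr hu)) (h.up.blk (Subgroup.zpowers_le.mpr hu))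
    (h.emb_loc hu hc)
  refine ⟨ψ, h2, fun θ => ?_⟩
  rw [h2, H84.sub_def, H84.sub_def, trF_reg, ← blockPart_trF]
  congr 2
  funext c
  obtain ⟨c, rfl⟩ := ψ.surjective c
  rw [trF_apply_map, sec_apply, sec_apply, h1]
  rfl

theorem dv_eq (h : Down p M B P e K b e') (hu : (u : G) ∈ P) (hc : Cen (zpowers (u : G)) ≤ K)
    (θ : G → ℂ) : dv p M P e θ u = dv p M (P.subgroupOf K) e' (fun k : K => θ k) u := by
  obtain ⟨ψ, h1, h2⟩ := h.exists_equiv hu hc
  rw [dv, dv, h2, h1, brc_trI, qf_trF]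

theorem fus_iff (h : Down p M B P e K b e') (hu : (u : G) ∈ P) (hc : Cen (zpowers (u : G)) ≤ K)
    (hv : (v : G) ∈ P) (hc' : Cen (zpowers (v : G)) ≤ K) :
    Fus p (P.subgroupOf K) e' u v ↔ ∃ g ∈ K, (v : G) = g * u * g⁻¹ ∧
      cj g (eS M _ (loc p M P e (zpowers (u : G)))) = eS M _ (loc p M P e (zpowers (v : G))) := by
  rw [h.mp.fus_iff hu hv, ← h.emb_loc hu hc, ← h.emb_loc hv hc']
  constructor
  · rintro ⟨g, h1, h2⟩
    exact ⟨g, g.2, congrArg Subtype.val h1, by rw [← h2]; exact H86.cj_emb K.subtype g _⟩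
  · rintro ⟨g, hg, h1, h2⟩
    refine ⟨⟨g, hg⟩, Subtype.ext h1, H86.emb_injective K.subtype_injective ?_⟩
    rw [← h2]
    exact (H86.cj_emb K.subtype ⟨g, hg⟩ _).symm

theorem fus_up (h : Down p M B P e K b e') (hc : Cen (zpowers (u : G)) ≤ K)
    (hc' : Cen (zpowers (v : G)) ≤ K) (h1 : Fus p (P.subgroupOf K) e' u v) :
    Fus p P e (u : G) v := by
  have hu : (u : G) ∈ P := h1.left
  have hv : (v : G) ∈ P := h1.right
  obtain ⟨g, -, h2⟩ := (h.fus_iff hu hc hv hc').mp h1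
  exact (h.up.fus_iff hu hv).mpr ⟨g, h2⟩

theorem fus_down (h : Down p M B P e K b e') (hc : Cen (zpowers (u : G)) ≤ K)
    (hc' : Cen (zpowers (v : G)) ≤ K) (h1 : Fus p P e (u : G) v)
    (hK : ∀ g : G, (v : G) = g * u * g⁻¹ → g ∈ K) : Fus p (P.subgroupOf K) e' u v := by
  obtain ⟨g, h2⟩ := (h.up.fus_iff h1.left h1.right).mp h1
  exact (h.fus_iff h1.left hc h1.right hc').mpr ⟨g, hK g h2.1, h2⟩

end Down

/-- Translation of a function. -/
def sh {G : Type*} [Group G] (u : G) (θ : G → ℂ) : G → ℂ := fun g => θ (u * g)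

section central

variable {z w : G}

theorem eS_loc_cen (h : MP p M B P e) (hz : z ∈ P) (hc : Cen (zpowers z) = ⊤) :
    eS M _ (loc p M P e (zpowers z)) = eB M B := by
  haveI := H33.charP h.hM
  have h1 := h.pairOf (Subgroup.zpowers_le.mpr hz)
  refine (h1.eq_of_St_eq (H86.isBlk_eB h.hB) (le_trans ?_ h1.toPair.Cen_le_St)).symm
  rw [hc, top_inf_eq]

theorem exists_equiv_cen (h : MP p M B P e) (hz : z ∈ P) (hc : Cen (zpowers z) = ⊤) :
    ∃ ψ : Cen (zpowers z) ≃* G, B = trI ψ '' loc p M P e (zpowers z) ∧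
      ∀ θ : G → ℂ, trF ψ (sub p z _ (loc p M P e (zpowers z)) θ) =
        pRegularPart p (blockPart B (sh z θ)) := by
  have key : ∀ (C : Subgroup G) (b : Set (IrrCharacter C)), C = ⊤ → IsPBlock M b →
      eS M C b = eB M B → ∃ ψ : C ≃* G, (∀ a, ψ a = a) ∧ B = trI ψ '' b := by
    rintro _ b rfl hb h1
    exact ⟨Subgroup.topEquiv, fun _ => rfl, H86.eq_image_of_top h.hB hb h1.symm⟩
  obtain ⟨ψ, h1, h2⟩ := key _ _ hc (h.blk (Subgroup.zpowers_le.2 hz)) (eS_loc_cen h hz hc)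
  refine ⟨ψ, h2, fun θ => ?_⟩
  rw [H84.sub_def, trF_reg, ← blockPart_trF, ← h2]
  congr 2
  funext c
  obtain ⟨c, rfl⟩ := ψ.surjective c
  rw [trF_apply_map, sec_apply, sh, h1]

theorem inner_sub_cen (h : MP p M B P e) (hz : z ∈ P) (hc : Cen (zpowers z) = ⊤) (θ η : G → ℂ) :
    classInner (sub p z _ (loc p M P e (zpowers z)) θ) (sub p z _ (loc p M P e (zpowers z)) η) =
      classInner (pRegularPart p (blockPart B (sh z θ))) (pRegularPart p (blockPart B (sh z η))) := by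
  obtain ⟨ψ, -, h2⟩ := exists_equiv_cen h hz hc
  rw [← h2, ← h2, inner_trF]

theorem eq_of_fus_cen (hc : Cen (zpowers z) = ⊤) (h1 : Fus p P e z w) : w = z := by
  obtain ⟨g, -, rfl⟩ := h1
  have : g ∈ Cen (zpowers z) := hc ▸ Subgroup.mem_top g
  rw [← H86.mem_Cen_zpowers.mp this, mul_inv_cancel_right]

theorem wt_cen (h : MP p M B P e) (hz : z ∈ P) (hc : Cen (zpowers z) = ⊤) : wt p P e z = 1 := by
  rw [wt, Nat.card_eq_one_iff_exists]
  exact ⟨⟨⟨z, hz⟩, h.fus_refl hz⟩, fun v => Subtype.ext (Subtype.ext (eq_of_fus_cen hc v.2))⟩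

theorem Cen_one : Cen (zpowers (1 : G)) = ⊤ := by rw [Subgroup.zpowers_one_eq_bot, H86.Cen_bot]

theorem sh_one (θ : G → ℂ) : sh 1 θ = θ := funext fun g => by rw [sh, one_mul]

theorem isClassFunction_sh (hc : Cen (zpowers z) = ⊤) (hθ : IsClassFunction G θ) :
    IsClassFunction G (sh z θ) := fun g t => by
  have : t ∈ Cen (zpowers z) := hc ▸ Subgroup.mem_top t
  rw [sh, sh, ← hθ (z * g) t, ← mul_assoc, ← mul_assoc, H86.mem_Cen_zpowers.mp this,
    mul_assoc t z g]

/-- An irreducible character is an eigenfunction of a central involution. -/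
theorem sh_irr (hc : Cen (zpowers z) = ⊤) (h2 : z * z = 1) (χ : IrrCharacter G) :
    sh z χ = χ ∨ sh z χ = -χ := by
  have hcom : ∀ g : G, z * g = g * z := fun g =>
    H86.mem_Cen_zpowers.mp (hc ▸ Subgroup.mem_top g)
  letI : CommGroup (zpowers z) := IsCyclic.commGroup
  let ι : zpowers z →* G := (zpowers z).subtype
  have hι : CenHom ι ⊤ := ⟨fun _ => Subgroup.mem_top _, fun v c _ => by
    obtain ⟨n, hn⟩ := v.2
    change Commute (v : G) c
    rw [← hn]
    exact (show Commute z c from hcom c).zpow_left n⟩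
  obtain ⟨ω, hω⟩ := hι.exists_hom (trI Subgroup.topEquiv.symm χ)
  have h3 : ∀ g, (χ : G → ℂ) (z * g) = ω ⟨z, Subgroup.mem_zpowers z⟩ * (χ : G → ℂ) g :=
    fun g => hω ⟨z, Subgroup.mem_zpowers z⟩ ⟨g, Subgroup.mem_top g⟩
  have h4 : (ω ⟨z, Subgroup.mem_zpowers z⟩ : ℂ) ^ 2 = 1 := by
    rw [← Units.val_pow_eq_pow_val, ← map_pow, sq]
    rw [show (⟨z, Subgroup.mem_zpowers z⟩ * ⟨z, Subgroup.mem_zpowers z⟩ : zpowers z) = 1 from
      Subtype.ext h2, map_one, Units.val_one]
  rcases sq_eq_one_iff.mp h4 with h5 | h5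
  · exact Or.inl (funext fun g => by rw [sh, h3, h5, one_mul])
  · exact Or.inr (funext fun g => by rw [sh, h3, h5]; simp)

theorem sh_sum {I : Type*} (s : Finset I) (c : I → ℂ) (f : I → G → ℂ) :
    sh z (∑ i ∈ s, c i • f i) = ∑ i ∈ s, c i • sh z (f i) := by
  funext g
  simp [sh]

theorem blockPart_sh (hc : Cen (zpowers z) = ⊤) (h2 : z * z = 1) (hθ : IsClassFunction G θ) :
    blockPart B (sh z θ) = sh z (blockPart B θ) := by
  have key : ∀ χ : IrrCharacter G, blockPart B (sh z χ) = sh z (blockPart B χ) := by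
    intro χ
    by_cases hχ : χ ∈ B
    · rw [blockPart_irr_of_mem hχ]
      rcases sh_irr hc h2 χ with h | h <;> rw [h]
      · exact blockPart_irr_of_mem hχ
      · rw [← neg_one_smul ℂ, blockPart_smul, blockPart_irr_of_mem hχ]
    · rw [blockPart_irr_of_not_mem hχ]
      rcases sh_irr hc h2 χ with h | h <;> rw [h]
      · exact blockPart_irr_of_not_mem hχ
      · rw [← neg_one_smul ℂ, blockPart_smul, blockPart_irr_of_not_mem hχ, smul_zero]; rfl
  have h1 : θ = ∑ χ ∈ bset (Set.univ : Set (IrrCharacter G)), classInner θ χ • (χ : G → ℂ) := by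
    rw [← blockPart_eq, blockPart_eq_self hθ fun ψ h => absurd (Set.mem_univ ψ) h]
  rw [h1, sh_sum, blockPart_sum, blockPart_sum]
  simp only [blockPart_smul, key]
  rw [sh_sum]

end central

theorem dv_of_zpowers {u : G} (hQ : zpowers u = Q) (θ : G → ℂ) : dv p M P e θ u =
    qf p (loc p M P e Q) (sub p u (Cen Q) (loc p M P e Q) θ) (brc p (loc p M P e Q)) := by
  subst hQ
  rfl

theorem dv_mul {u z : G} (hQ : zpowers (u * z) = zpowers u) (hc : u * z = z * u) (θ : G → ℂ) :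
    dv p M P e θ (u * z) = dv p M P e (sh z θ) u := by
  rw [dv_of_zpowers hQ, dv, H84.sub_def, H84.sub_def]
  congr 4
  funext c
  rw [sec_apply, sec_apply, sh, hc, mul_assoc]

/-- Rationality of the generalized decomposition numbers at a real element of order dividing four. -/
theorem dv_int (h : MP p M B P e) {u : G} (h4 : u ^ 4 = 1) (hf : Fus p P e u u⁻¹)
    (hθ : IsGeneralizedCharacter G θ) : ∃ n : ℤ, dv p M P e θ u = n := by
  letI : CommGroup (zpowers u) := IsCyclic.commGroup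
  let ι : zpowers u →* G := (zpowers u).subtype
  have hι : CenHom ι (Cen (zpowers u)) := ⟨fun v => zpowers_le_Cen u v.2, fun v c hc =>
    H86.mem_Cen.mp hc v v.2⟩
  obtain ⟨f, hf1, hf2⟩ := hι.exists_decomp p (loc p M P e (zpowers u)) hθ
  choose n hn using fun l => qf_int (hf1 l) (brc_mem_lat (p := p) (loc p M P e (zpowers u)))
  let u₀ : zpowers u := ⟨u, Subgroup.mem_zpowers u⟩
  have h1 : ∀ v : zpowers u, qf p (loc p M P e (zpowers u))
      (sub p (v : G) _ (loc p M P e (zpowers u)) θ) (brc p (loc p M P e (zpowers u))) =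
      ∑ l : zpowers u →* ℂˣ, (l v : ℂ) * n l := by
    intro v
    rw [show (v : G) = ι v from rfl, hf2, map_sum, LinearMap.sum_apply]
    exact sum_congr rfl fun l _ => by rw [map_smul, LinearMap.smul_apply, hn, smul_eq_mul]
  have h2 : dv p M P e θ u = ∑ l : zpowers u →* ℂˣ, (l u₀ : ℂ) * n l := h1 u₀
  have h3 : dv p M P e θ u = ∑ l : zpowers u →* ℂˣ, (l u₀⁻¹ : ℂ) * n l := by
    rw [← h.dv_fus hf (H6.gen_isClassFunction hθ), dv_of_zpowers (Subgroup.zpowers_inv)]
    exact h1 u₀⁻¹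
  have h5 : ∀ l : zpowers u →* ℂˣ, ∃ t : ℤ, (l u₀ : ℂ) + l u₀⁻¹ = 2 * t := by
    intro l
    have h6 : (l u₀ : ℂ) ^ 4 = 1 := by
      rw [← Units.val_pow_eq_pow_val, ← map_pow, show u₀ ^ 4 = 1 from Subtype.ext h4, map_one,
        Units.val_one]
    have h7 : (l u₀ : ℂ) * l u₀⁻¹ = 1 := by
      rw [← Units.val_mul, ← map_mul, mul_inv_cancel, map_one, Units.val_one]
    have h8 : ((l u₀ : ℂ) - 1) * (((l u₀ : ℂ) + 1) * ((l u₀ : ℂ) ^ 2 + 1)) = 0 := by
      linear_combination h6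
    rcases mul_eq_zero.mp h8 with h9 | h9
    · exact ⟨1, by push_cast; linear_combination h7 + (1 - (l u₀⁻¹ : ℂ)) * h9⟩
    rcases mul_eq_zero.mp h9 with h9 | h9
    · exact ⟨-1, by push_cast; linear_combination -h7 + (1 + (l u₀⁻¹ : ℂ)) * h9⟩
    · exact ⟨0, by push_cast; linear_combination (l u₀⁻¹ : ℂ) * h9 - (l u₀ : ℂ) * h7⟩
  choose t ht using h5
  refine ⟨∑ l, t l * n l, ?_⟩
  have h6 : 2 * dv p M P e θ u = 2 * ((∑ l, t l * n l : ℤ) : ℂ) := by
    rw [two_mul]
    nth_rewrite 1 [h2]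
    rw [h3, ← sum_add_distrib]
    push_cast
    rw [mul_sum]
    exact sum_congr rfl fun l _ => by rw [← add_mul, ht, mul_assoc]
  exact mul_left_cancel₀ two_ne_zero h6

end H33.Tame
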