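import Mathlib
import Cfsg.Agent.Lib.Tame.Tr
import Cfsg.Agent.Lib.Tame.Grp

/-! Fusion and local blocks for tame defect groups. -/

set_option autoImplicit false
set_option linter.unusedSectionVars false
set_option linter.style.haveILetI false
attribute [local irreducible] H33.instFieldF

namespace H33.Tame

open Cfsg H84 H35 H85 Finset
open H86 (Cen Nor emb cj cs trI eS IsMaxPair PairOf St IsBlk IsDef IsNil PQuot Mor)
open Subgroup (zpowers)
open scoped ComplexConjugate SubFin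

theorem isNil_of_ab {F G : Type*} [Field F] [Group G] [Finite G] {p : ℕ} [Fact p.Prime] [CharP F p]
    [H86.Good p F G] {H A : Subgroup G} {b : MonoidAlgebra F G} (hb : IsBlk H b)
    (hA : IsDef p H b A) (hab : A ≤ Cen A)
    (h : ∀ t ∈ H, t ∈ Nor A → ¬ p ∣ orderOf t → t ∈ Cen A) : IsNil p H b := by
  obtain ⟨g, hm⟩ := hA.exists_isMaxPair hb
  rw [H86.isNil_iff_of_ab hm hb hab]
  have h1 : PQuot p (H ⊓ Cen A) (St H A g) := fun t ht ho =>
    ⟨H86.St_le _ _ _ ht, h t (H86.St_le _ _ _ ht) (H86.St_le_Nor _ _ _ ht) ho⟩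
  rw [← h1.eq_of_not_dvd (H86.St_le_Nor_inf_Cen _ _ _) le_sup_right
    (sup_le hm.toPair.le_St hm.toPair.Cen_le_St) (hm.not_dvd hb)]
  exact sup_le hab inf_le_right

theorem comm_of_sq {G : Type*} [Group G] [Finite G] {t r : G} (ht : ¬ 2 ∣ orderOf t)
    (h : t * (t * r * t⁻¹) * t⁻¹ = r) : t * r * t⁻¹ = r := by
  have h1 : t ^ 2 ^ 1 ∈ Cen (zpowers r) := by
    rw [H86.mem_Cen_zpowers, pow_one, sq]
    conv_lhs => rw [← h]
    group
  rw [← H86.mem_Cen_zpowers.mp (H86.mem_of_pow_mem ht h1), mul_inv_cancel_right]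

theorem conj_inv_mul_conj {G : Type*} [Group G] (s b c : G) :
    (s * b * s⁻¹)⁻¹ * (s * c * s⁻¹) = s * (b⁻¹ * c) * s⁻¹ := by group

variable {G : Type*} [Group G] [Fintype G] {M : Ideal AlgInt} [M.IsMaximal]
  {B : Set (IrrCharacter G)} {P : Subgroup G} {e : MonoidAlgebra (F M) G}
  {D : Type*} [CommGroup D] [Fintype D] {k : ℕ} {x u u' : D} {a : ℤ} {ι : D →* G} {y g v : G}

theorem fus_of_mor {p : ℕ} [Fact p.Prime] (h : MP p M B P e) {Q : Subgroup G}
    (hg : Mor p ⊤ P e Q g) (hv : v ∈ Q) : Fus p P e v (g * v * g⁻¹) := by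
  haveI := H33.charP h.hM
  exact ⟨g, hg.restrict h.max.toPair (Subgroup.zpowers_le.mpr hv), rfl⟩

namespace Tm

theorem conj_w (t : Tm k P ι x a y) (h1 : g * ι (ww k x) * g⁻¹ ∈ ι.range) :
    g * ι (ww k x) * g⁻¹ = ι (ww k x) ∨ g * ι (ww k x) * g⁻¹ = (ι (ww k x))⁻¹ := by
  obtain ⟨s, hs⟩ := h1
  have h2 : ι (s ^ 2) = g * ι (zz k x) * g⁻¹ := by rw [map_pow, hs, conj_pow, ← map_pow, ww_sq]
  have h3 : (s ^ 2) ^ 2 = 1 := t.inj (by
    rw [map_pow, h2, conj_pow, ← map_pow, t.zz_sq, map_one, mul_one, mul_inv_cancel])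
  rcases t.sq_eq_one_iff.mp h3 with h4 | h4
  · rw [h4, map_one, eq_comm, mul_inv_eq_one, mul_eq_left] at h2
    exact absurd h2 t.z_ne_one
  · rw [← hs, ← map_inv]
    exact (t.eq_ww h4).imp (congrArg ι) (congrArg ι)

theorem w_le (t : Tm k P ι x a y) (hu : u ∉ zpowers (zz k x)) :
    zpowers (ι (ww k x)) ≤ zpowers (ι u) := by
  rw [← MonoidHom.map_zpowers, ← MonoidHom.map_zpowers]
  exact Subgroup.map_mono (Subgroup.zpowers_le.mpr (t.ww_mem hu))

theorem z_le (t : Tm k P ι x a y) (hu : u ≠ 1) : zpowers (ι (zz k x)) ≤ zpowers (ι u) := by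
  rw [← MonoidHom.map_zpowers, ← MonoidHom.map_zpowers]
  exact Subgroup.map_mono (Subgroup.zpowers_le.mpr (t.zz_mem hu))

theorem zpowers_le_range (ι : D →* G) (u : D) : zpowers (ι u) ≤ ι.range :=
  Subgroup.zpowers_le.mpr ⟨u, rfl⟩

end Tm

/-- The stabilizer of the subsection of order four. -/
noncomputable abbrev LL (M : Ideal AlgInt) [M.IsMaximal] (P : Subgroup G)
    (e : MonoidAlgebra (F M) G) (w : G) : Subgroup G :=
  St ⊤ (zpowers w) (eS M _ (loc 2 M P e (zpowers w)))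

theorem LL_spec (h : MP 2 M B P e) (t : Tm k P ι x a y) :
    IsBlk (LL M P e (ι (ww k x))) (eS M _ (loc 2 M P e (zpowers (ι (ww k x))))) ∧
    IsMaxPair 2 (LL M P e (ι (ww k x))) (eS M _ (loc 2 M P e (zpowers (ι (ww k x))))) P e ∧
    IsNil 2 (LL M P e (ι (ww k x))) (eS M _ (loc 2 M P e (zpowers (ι (ww k x))))) := by
  haveI := H33.charP h.hM; haveI := H86.good h.hM G
  have hW : zpowers (ι (ww k x)) ≤ P := Subgroup.zpowers_le.mpr (t.mem_ι _)
  have hs := h.sub hW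
  have hp := (h.pairOf hW).toPair
  have hn := hs.nsub h.max.toPair (t.le_Nor _)
  have hPL : P ≤ LL M P e (ι (ww k x)) := hn.le_St
  have hb := hp.isBlk_St
  have hD : IsDef 2 (LL M P e (ι (ww k x))) (eS M _ (loc 2 M P e (zpowers (ι (ww k x))))) P := by
    have := (hs.isDef_iff_card h.max (H86.isBlk_eB h.hB) le_rfl hb).mpr fun g _ _ => by
      rw [inf_eq_left.mpr hPL]
      exact Subgroup.card_le_of_le inf_le_left
    rwa [inf_eq_left.mpr hPL] at this
  refine ⟨hb, (hn.pairOf hPL hp.Cen_le_St le_top).isMaxPair hD, ?_⟩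
  have hC := (hp.isDef_St hD).2
  rw [top_inf_eq, t.inf_Cen t.ww_not_mem] at hC
  have hbC : IsBlk (Cen (zpowers (ι (ww k x)))) _ := H86.isBlk_eS (h.blk hW)
  have hcyc : IsCyclic ι.range := by rw [t.range_eq]; infer_instance
  have hnil := isNil_of_ab hbC hC (H86.le_Cen_of_isCyclic hcyc) fun s hs hN ho => by
    obtain ⟨j, hj⟩ := H86.exists_pow_mem_Cen_of_isCyclic hcyc (h.pgrp.to_le t.range_le) hN
      (x := ι (ww k x)) ⟨_, rfl⟩ (fun h1 => t.ww_not_mem (by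
        rw [t.inj (h1.trans (map_one ι).symm)]; exact one_mem _))
      (by rw [← H86.mem_Cen_zpowers.mp hs, mul_inv_cancel_right])
    exact H86.mem_of_pow_mem ho hj
  refine (H86.isNil_iff_of_pQuot (fun s hs ho => ?_) (le_trans (by rw [top_inf_eq]) hp.Cen_le_St)
    (le_trans (H86.St_le_Nor_inf_Cen _ _ _) (by rw [top_inf_eq])) hbC hb).mp hnil
  have h1 := H86.conj_mem_of_Nor (H86.St_le_Nor _ _ _ hs) (Subgroup.mem_zpowers _)
  have h2 : s * ι (ww k x) * s⁻¹ = ι (ww k x) := by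
    rcases t.conj_w (Tm.zpowers_le_range ι _ h1) with h2 | h2
    · exact h2
    · exact comm_of_sq ho (by rw [h2, ← conj_inv, h2, inv_inv])
  rw [H86.mem_Cen_zpowers]
  exact (mul_inv_eq_iff_eq_mul.mp h2).symm

theorem Cen_le_LL (h : MP 2 M B P e) (t : Tm k P ι x a y) (hu : u ∉ zpowers (zz k x)) :
    Cen (zpowers (ι u)) ≤ LL M P e (ι (ww k x)) := by
  have hp := (h.pairOf (Subgroup.zpowers_le.mpr (t.mem_ι (ww k x)))).toPair
  exact (H86.Cen_anti (t.w_le hu)).trans (le_trans (by rw [top_inf_eq]) hp.Cen_le_St)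

theorem sub_LL (h : MP 2 M B P e) (t : Tm k P ι x a y) (hu : u ∉ zpowers (zz k x)) :
    H86.Sub 2 (LL M P e (ι (ww k x))) (zpowers (ι u)) (eS M _ (loc 2 M P e (zpowers (ι u)))) P e :=
  (h.sub (Subgroup.zpowers_le.mpr (t.mem_ι u))).change (LL_spec h t).2.1.le
    (by rw [top_inf_eq, inf_eq_right.mpr (Cen_le_LL h t hu)])

theorem defect_of_isDef {p : ℕ} [Fact p.Prime] (hM : IsPModular p M) {C A : Subgroup G}
    {b : Set (IrrCharacter C)} (hb : IsPBlock M b) (hA : A ≤ C)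
    (hD : haveI := H33.charP hM; IsDef p C (eS M C b) A) {n : ℕ} (hn : Nat.card A = p ^ n) :
    blockDefect p b = n := by
  haveI := H33.charP hM
  have h1 := H33.defect_card hM hb ((H86.isDefectGroup_subgroupOf_iff hb hA).mpr hD)
  rw [Nat.card_congr (Subgroup.subgroupOfEquivOfLe hA).toEquiv, hn] at h1
  exact (Nat.pow_right_injective (Fact.out : p.Prime).two_le h1).symm

theorem loc_ι (h : MP 2 M B P e) (t : Tm k P ι x a y) (hu : u ∉ zpowers (zz k x)) :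
    blockRank 2 (loc 2 M P e (zpowers (ι u))) = 1 ∧
      blockDefect 2 (loc 2 M P e (zpowers (ι u))) = k + 2 := by
  haveI := H33.charP h.hM; haveI := H86.good h.hM G
  obtain ⟨hb, hm, hn⟩ := LL_spec h t
  have hs := sub_LL h t hu
  have hC := inf_eq_right.mpr (Cen_le_LL h t hu)
  have hblk := h.blk (Subgroup.zpowers_le.mpr (t.mem_ι u))
  have h1 := hn.local hb (hs.pairOf_left hb hm.toPairOf)
  have h2 := hn.isDef_Cen hm hb hs
  rw [hC] at h1 h2
  refine ⟨MP.blockRank_of_nil h.hM ((H86.isNilpotentBlock_sub_iff hblk).mpr h1),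
    defect_of_isDef h.hM hblk inf_le_right h2 ?_⟩
  rw [t.inf_Cen hu, t.card_range]

/-- Fusion inside the cyclic subgroup. -/
theorem fus_ι (h : MP 2 M B P e) (t : Tm k P ι x a y) (hf : Fus 2 P e (ι u) (ι u')) :
    u' = u ∨ u' = u ^ a := by
  haveI := H33.charP h.hM; haveI := H86.good h.hM G
  obtain ⟨g, hg, h1⟩ := hf
  by_cases hu : u ∈ zpowers (zz k x)
  · left
    rcases t.mem_zpowers_zz.mp hu with rfl | rfl
    · exact t.inj (by simpa using h1)
    · have h2 : u' ^ 2 = 1 := t.inj (by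
        rw [map_pow, h1, conj_pow, ← map_pow, t.zz_sq, map_one, mul_one, mul_inv_cancel])
      rcases t.sq_eq_one_iff.mp h2 with rfl | h3
      · rw [map_one, eq_comm, mul_inv_eq_one, mul_eq_left] at h1
        exact absurd h1 t.z_ne_one
      · exact h3
  obtain ⟨hb, hm, hn⟩ := LL_spec h t
  have hcs : cs g (zpowers (ι u)) = zpowers (ι u') := by rw [H86.cs_zpowers, h1]
  have hW : zpowers (ι (ww k x)) ≤ P := Subgroup.zpowers_le.mpr (t.mem_ι _)
  have hgL : g ∈ LL M P e (ι (ww k x)) := by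
    refine (hg.restrict h.max.toPair (t.w_le hu)).mem_St h.max.toPair (h.sub hW) ?_
    have h2 : g * ι (ww k x) * g⁻¹ ∈ ι.range := Tm.zpowers_le_range ι u'
      (hcs ▸ H86.conj_mem_cs.mpr (t.w_le hu (Subgroup.mem_zpowers _)))
    rw [H86.cs_zpowers]
    rcases t.conj_w h2 with h3 | h3 <;> rw [h3]
    exact Subgroup.zpowers_inv
  have hs := sub_LL h t hu
  have hmor : Mor 2 (LL M P e (ι (ww k x))) P e (zpowers (ι u)) g := by
    refine ⟨hgL, _, hs, (hg.sub h.max.toPair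
      (h.sub (Subgroup.zpowers_le.mpr (t.mem_ι u)))).change hm.le ?_⟩
    rw [top_inf_eq, inf_eq_right, ← H86.cs_Cen, ← H86.cs_eq_of_mem hgL]
    exact H86.cs_mono g (Cen_le_LL h t hu)
  obtain ⟨c, hc, hact⟩ := hn.exists_act hm hb hmor
  rw [hact _ (Subgroup.mem_zpowers _)] at h1
  exact (t.conj_ι hc u).imp (fun h2 => t.inj (h1.trans h2)) fun h2 => t.inj (h1.trans h2)

theorem fus_zpow (h : MP 2 M B P e) (t : Tm k P ι x a y) (u : D) :
    Fus 2 P e (ι u) (ι (u ^ a)) := t.conj u ▸ h.fus_conj_mem (t.mem_ι u) t.mem_y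

theorem fus_ι_iff (h : MP 2 M B P e) (t : Tm k P ι x a y) :
    Fus 2 P e (ι u) (ι u') ↔ u' = u ∨ u' = u ^ a := by
  refine ⟨fus_ι h t, ?_⟩
  rintro (rfl | rfl)
  · exact h.fus_refl (t.mem_ι _)
  · exact fus_zpow h t u

/-- `v` is not fused into the cyclic subgroup. -/
def NF (P : Subgroup G) (e : MonoidAlgebra (F M) G) (ι : D →* G) (v : G) : Prop :=
  ∀ u, ¬ Fus 2 P e (ι u) v

theorem NF.of_fus (h : MP 2 M B P e) (hv : NF P e ι v) (hf : Fus 2 P e v g) : NF P e ι g :=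
  fun u h1 => hv u (h.fus_trans h1 hf.symm)

theorem NF.exists_eq (h : MP 2 M B P e) (t : Tm k P ι x a y) (hv : NF P e ι v) (hP : v ∈ P) :
    ∃ s, v = ι s * y := by
  rcases (t.mem v).mp hP with ⟨s, rfl⟩ | h1
  · exact absurd (h.fus_refl hP) (hv s)
  · exact h1

theorem loc_y (h : MP 2 M B P e) (t : Tm k P ι x a y) (hy : NF P e ι y) :
    blockRank 2 (loc 2 M P e (zpowers y)) = 1 ∧ blockDefect 2 (loc 2 M P e (zpowers y)) = 2 := by
  haveI := H33.charP h.hM; haveI := H86.good h.hM G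
  have hQ : zpowers y ≤ P := Subgroup.zpowers_le.mpr t.mem_y
  have hs := h.sub hQ
  have hblk := h.blk hQ
  have hb := H86.isBlk_eS hblk
  have hD : IsDef 2 (Cen (zpowers y)) (eS M _ (loc 2 M P e (zpowers y))) (P ⊓ Cen (zpowers y)) := by
    refine (hs.isDef_iff_card h.max (H86.isBlk_eB h.hB)
      (le_trans (by rw [top_inf_eq]) (h.pairOf hQ).toPair.Cen_le_St) hb).mpr fun g hg h1 => ?_
    have h2 : Fus 2 P e y (g * y * g⁻¹) := ⟨g, ⟨hg, _, hs, h1⟩, rfl⟩
    obtain ⟨s, h3⟩ := (hy.of_fus h h2).exists_eq h t h2.right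
    rw [H86.cs_Cen, H86.cs_zpowers, h3, (t.shift s).card_inf_Cen_y, t.card_inf_Cen_y]
  refine ⟨MP.blockRank_of_nil h.hM ((H86.isNilpotentBlock_sub_iff hblk).mpr
    (isNil_of_ab hb hD t.inf_Cen_y_ab fun s hs hN ho => ?_)),
    defect_of_isDef h.hM hblk inf_le_right hD t.card_inf_Cen_y⟩
  have hsy : s * y * s⁻¹ = y := by rw [← H86.mem_Cen_zpowers.mp hs, mul_inv_cancel_right]
  have hz : s * ι (zz k x) * s⁻¹ = ι (zz k x) := by
    have h1 := H86.conj_mem_of_Nor hN (t.mem_inf_Cen_y.mpr (Or.inr (Or.inl rfl)))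
    rcases t.mem_inf_Cen_y.mp h1 with h2 | h2 | h2 | h2
    · rw [mul_inv_eq_one, mul_eq_left] at h2
      exact absurd h2 t.z_ne_one
    · exact h2
    · rw [← hsy, mul_left_inj, mul_right_inj] at h2
      exact absurd h2.symm (t.ny _)
    · refine comm_of_sq ho ?_
      have h3 : s * (s * ι (zz k x) * s⁻¹) * s⁻¹ = ι (zz k x) * y ^ 2 := by
        rw [h2, ← conj_mul, h2, hsy, sq, mul_assoc]
      rcases t.sq with h4 | h4
      · rw [h3, h4, mul_one]
      · rw [h4, t.z_mul_z, mul_inv_eq_one, mul_eq_left, mul_inv_eq_one, mul_eq_left] at h3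
        exact absurd h3 t.z_ne_one
  rw [H86.mem_Cen_iff_conj]
  intro q hq
  rcases t.mem_inf_Cen_y.mp hq with rfl | rfl | rfl | rfl
  · simp
  · exact hz
  · exact hsy
  · rw [← conj_mul, hz, hsy]

/-- Fusion of elements that are not fused into the cyclic subgroup. -/
theorem NF.exists_conj (h : MP 2 M B P e) (t : Tm k P ι x a y) (hv : NF P e ι v)
    (hf : Fus 2 P e v g) : ∃ c ∈ P, g = c * v * c⁻¹ := by
  haveI := H33.charP h.hM; haveI := H86.good h.hM G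
  obtain ⟨s, hs, rfl⟩ := hf
  refine Mor.induction h.max (H86.isBlk_eB h.hB)
    (Pr := fun Q s => ∀ v ∈ Q, NF P e ι v → ∃ c ∈ P, s * v * s⁻¹ = c * v * c⁻¹)
    (fun Q R s hRQ _ h1 v hv => h1 v (hRQ hv)) ?_ ?_ ?_ hs v (Subgroup.mem_zpowers v) hv
  · intro Q s s' h1 _ h3 h4 v hv hn
    obtain ⟨c, hc, h5⟩ := h3 v hv hn
    obtain ⟨c', hc', h6⟩ := h4 _ (H86.conj_mem_cs.mpr hv) (hn.of_fus h (fus_of_mor h h1 hv))
    refine ⟨c' * c, mul_mem hc' hc, ?_⟩
    rw [mul_inv_rev, mul_inv_rev, show s' * s * v * (s⁻¹ * s'⁻¹) = s' * (s * v * s⁻¹) * s'⁻¹ by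
      group, h6, h5]
    group
  · intro Q s h1 h2 v hv hn
    have h3 := H86.mem_cs.mp hv
    have h4 := fus_of_mor h h1 h3
    rw [show s * (s⁻¹ * v * s) * s⁻¹ = v by group] at h4
    obtain ⟨c, hc, h5⟩ := h2 _ h3 (hn.of_fus h h4.symm)
    refine ⟨c⁻¹, inv_mem hc, ?_⟩
    rw [show s * (s⁻¹ * v * s) * s⁻¹ = v by group] at h5
    rw [inv_inv, inv_inv]
    conv_rhs => rw [h5]
    group
  intro Q f hs hD _
  have hp := hs.left h.max.toPair
  have hQ : ∀ s ∈ St ⊤ Q f, ∀ v ∈ Q, NF P e ι v → s * v * s⁻¹ ∈ Q ∧ NF P e ι (s * v * s⁻¹) :=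
    fun s h1 v hv hn => ⟨H86.conj_mem_of_Nor (H86.St_le_Nor _ _ _ h1) hv,
      hn.of_fus h (fus_of_mor h (hs.mor_of_mem_St h1) hv)⟩
  let K : Subgroup G :=
    { carrier := {s | s ∈ St ⊤ Q f ∧ ∀ v ∈ Q, NF P e ι v → ∃ c ∈ P, s * v * s⁻¹ = c * v * c⁻¹}
      one_mem' := ⟨one_mem _, fun v _ _ => ⟨1, one_mem _, rfl⟩⟩
      mul_mem' := by
        rintro s s' ⟨h1, h2⟩ ⟨h3, h4⟩
        refine ⟨mul_mem h1 h3, fun v hv hn => ?_⟩
        obtain ⟨c, hc, h5⟩ := h4 v hv hn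
        obtain ⟨c', hc', h6⟩ := h2 _ (hQ s' h3 v hv hn).1 (hQ s' h3 v hv hn).2
        refine ⟨c' * c, mul_mem hc' hc, ?_⟩
        rw [show s * s' * v * (s * s')⁻¹ = s * (s' * v * s'⁻¹) * s⁻¹ by group, h6, h5]
        group
      inv_mem' := by
        rintro s ⟨h1, h2⟩
        refine ⟨inv_mem h1, fun v hv hn => ?_⟩
        obtain ⟨c, hc, h5⟩ := h2 _ (hQ _ (inv_mem h1) v hv hn).1 (hQ _ (inv_mem h1) v hv hn).2
        refine ⟨c⁻¹, inv_mem hc, ?_⟩
        rw [show s * (s⁻¹ * v * s⁻¹⁻¹) * s⁻¹ = v by group] at h5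
        conv_rhs => rw [h5]
        group }
  let C : Subgroup G := St ⊤ Q f ⊓ Subgroup.centralizer {v | v ∈ Q ∧ NF P e ι v}
  have hC : ∀ s, s ∈ C ↔ s ∈ St ⊤ Q f ∧ ∀ v ∈ Q, NF P e ι v → s * v * s⁻¹ = v := fun s => by
    simp only [C, Subgroup.mem_inf, Subgroup.mem_centralizer_iff, Set.mem_ofPred_eq, and_imp,
      mul_inv_eq_iff_eq_mul]
    exact and_congr_right fun _ => forall₃_congr fun _ _ _ => eq_comm
  have h1 : PQuot 2 C (St ⊤ Q f) := by
    intro s hs' ho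
    refine (hC s).mpr ⟨hs', fun v hv hn => ?_⟩
    obtain ⟨q1, n1⟩ := hQ s hs' v hv hn
    obtain ⟨q2, n2⟩ := hQ s hs' _ q1 n1
    obtain ⟨q3, n3⟩ := hQ s hs' _ q2 n2
    have key : ∀ v v', v ∈ Q → NF P e ι v → v' ∈ Q → NF P e ι v' → ∃ r, v⁻¹ * v' = ι r := by
      intro v v' hv hn hv' hn'
      obtain ⟨s, rfl⟩ := hn.exists_eq h t (hs.le hv)
      obtain ⟨s', hs'⟩ := hn'.exists_eq h (t.shift s) (hs.le hv')
      refine ⟨s' ^ a, ?_⟩
      rw [hs', inv_mul_eq_iff_eq_mul, (t.shift s).y_mul, t.zpow_zpow]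
    obtain ⟨r, hr⟩ := key _ _ hv hn q1 n1
    obtain ⟨r₁, hr₁⟩ := key _ _ q1 n1 q2 n2
    obtain ⟨r₂, hr₂⟩ := key _ _ q2 n2 q3 n3
    have e₁ : s * ι r * s⁻¹ = ι r₁ := by rw [← hr, ← hr₁]; group
    have e₂ : s * ι r₁ * s⁻¹ = ι r₂ := by
      rw [← hr₁, ← hr₂]; exact (conj_inv_mul_conj _ _ _).symm
    have f₁ : Fus 2 P e (ι r) (ι r₁) :=
      e₁ ▸ fus_of_mor h (hs.mor_of_mem_St hs') (hr ▸ mul_mem (inv_mem hv) q1)
    have f₂ : Fus 2 P e (ι r₁) (ι r₂) :=
      e₂ ▸ fus_of_mor h (hs.mor_of_mem_St hs') (hr₁ ▸ mul_mem (inv_mem q1) q2)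
    have e₃ : s * ι r * s⁻¹ = ι r := by
      rcases fus_ι h t f₁ with rfl | k₁
      · exact e₁
      rcases fus_ι h t f₂ with k₂ | k₂
      · rw [k₂] at e₂
        have := e₁.trans e₂.symm
        rw [mul_left_inj, mul_right_inj] at this
        rw [e₁, this]
      · exact comm_of_sq ho (by rw [e₁, e₂, k₂, k₁, t.zpow_zpow])
    have e₄ : ∀ n : ℕ, s ^ n * v * (s ^ n)⁻¹ = v * ι r ^ n := by
      intro n
      induction n with
      | zero => simp
      | succ n ih =>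
        rw [pow_succ' s, show s * s ^ n * v * (s * s ^ n)⁻¹ = s * (s ^ n * v * (s ^ n)⁻¹) * s⁻¹ by
          group, ih, ← conj_mul, ← conj_pow, e₃, inv_mul_eq_iff_eq_mul.mp hr, pow_succ', mul_assoc]
    have e₅ := e₄ (orderOf s)
    rw [pow_orderOf_eq_one, one_mul, inv_one, mul_one, left_eq_mul, ← map_pow, ← map_one ι,
      t.inj.eq_iff, ← orderOf_dvd_iff_pow_eq_one] at e₅
    obtain ⟨j, hj⟩ := t.exists_orderOf r
    rcases j with _ | j
    · rw [orderOf_eq_one_iff.mp hj, map_one, inv_mul_eq_one] at hr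
      exact hr.symm
    · exact absurd ((Dvd.intro_left _ (pow_succ 2 j).symm).trans (hj ▸ e₅)) ho
  have h2 : St ⊤ Q f ≤ Nor C := by
    intro s hs'
    refine H86.mem_Nor_of_cs_le fun c hc => ?_
    obtain ⟨h3, h4⟩ := (hC _).mp (H86.mem_cs.mp hc)
    refine (hC c).mpr ⟨?_, fun v hv hn => ?_⟩
    · simpa [mul_assoc] using mul_mem (mul_mem hs' h3) (inv_mem hs')
    · have := h4 _ (hQ _ (inv_mem hs') v hv hn).1 (hQ _ (inv_mem hs') v hv hn).2
      rw [show s⁻¹ * c * s * (s⁻¹ * v * s⁻¹⁻¹) * (s⁻¹ * c * s)⁻¹ = s⁻¹ * (c * v * c⁻¹) * s⁻¹⁻¹ by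
        group, mul_left_inj, mul_right_inj] at this
      exact this
  have h3 : K = St ⊤ Q f := by
    refine h1.eq_of_not_dvd h2 (fun s hs => ⟨((hC s).mp hs).1, fun v hv hn =>
      ⟨1, one_mem _, by rw [((hC s).mp hs).2 v hv hn]; simp⟩⟩) (fun s hs => hs.1) fun h3 => ?_
    refine (hp.isDef_St hD).1 (h3.trans (Subgroup.relIndex_dvd_of_le_left _ (sup_le ?_ ?_)))
    · exact fun s hs => ⟨hs.2, fun v _ _ => ⟨s, hs.1, rfl⟩⟩
    · exact fun s hs => ⟨hp.Cen_le_St hs, fun v hv _ =>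
        ⟨1, one_mem _, by rw [H86.mem_Cen_iff_conj.mp hs.2 v hv]; simp⟩⟩
  intro s hs'
  rw [← h3] at hs'
  exact hs'.2

theorem exists_reps (h : MP 2 M B P e) (t : Tm k P ι x a y) [Decidable (NF P e ι y)]
    [Decidable (NF P e ι (ι x * y))] :
    ∃ T : Finset D, (∀ u ∈ T, u ∉ zpowers (zz k x)) ∧ T.card + 1 = 2 ^ (k + 1) ∧
      ∃ Y, Reps 2 P e Y ∧ ∀ {A : Type} [AddCommMonoid A] (f : G → A),
        ∑ g ∈ Y, f g = f 1 + f (ι (zz k x)) + ∑ u ∈ T, f (ι u) +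
          (if NF P e ι y then f y else 0) + if NF P e ι (ι x * y) then f (ι x * y) else 0 := by
  classical
  obtain ⟨T, hT, k1, k2, k3, -⟩ := exists_transversal_sum (fun u : D => u ^ a)
    (univ.filter (· ∉ zpowers (zz k x))) (fun u hu => by
      simp only [mem_filter, mem_univ, true_and] at hu ⊢
      rwa [t.zpow_mem_iff]) (fun u _ => t.zpow_zpow u) (fun u hu => by
      simp only [mem_filter, mem_univ, true_and] at hu
      rwa [Ne, t.zpow_eq_iff, ← t.mem_zpowers_zz])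
  have hT' : ∀ u ∈ T, u ∉ zpowers (zz k x) := fun u hu => (mem_filter.mp (hT hu)).2
  have h1T : (1 : D) ∉ T := fun h1 => hT' 1 h1 (one_mem _)
  have hzT : zz k x ∉ T := fun h1 => hT' _ h1 (Subgroup.mem_zpowers _)
  have hxy : y ≠ ι x * y := fun h1 => t.conj_y_ne (one_mem P) (by simpa using h1)
  let T₁ : Finset D := insert 1 (insert (zz k x) T)
  let N : Finset G := ({y, ι x * y} : Finset G).filter (NF P e ι)
  have hN : ∀ v ∈ N, (v = y ∨ v = ι x * y) ∧ NF P e ι v := fun v hv => by simpa [N] using hv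
  have hex : ∀ u, ∃ u' ∈ T₁, Fus 2 P e (ι u') (ι u) := by
    intro u
    by_cases hu : u ∈ zpowers (zz k x)
    · exact ⟨u, by rcases t.mem_zpowers_zz.mp hu with rfl | rfl <;> simp [T₁],
        h.fus_refl (t.mem_ι u)⟩
    · rcases k2 u (by simpa using hu) with h1 | h1
      · exact ⟨u, by simp [T₁, h1], h.fus_refl (t.mem_ι u)⟩
      · exact ⟨u ^ a, by simp [T₁, h1], (fus_zpow h t u).symm⟩
  refine ⟨T, hT', ?_, T₁.image ι ∪ N, ⟨fun g hg => ?_, fun g hg => ?_, fun g hg g' hg' hf => ?_⟩,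
    fun f => ?_⟩
  · have h1 := card_filter_add_card_filter_not (s := univ) (fun u : D => u ∈ zpowers (zz k x))
    have h2 : univ.filter (· ∈ zpowers (zz k x)) = {1, zz k x} := by
      ext u; simp [t.mem_zpowers_zz]
    rw [h2, card_pair t.zz_ne_one.symm, ← k3, card_univ, ← Nat.card_eq_fintype_card, t.card,
      pow_succ] at h1
    omega
  · rcases mem_union.mp hg with h1 | h1
    · obtain ⟨u, -, rfl⟩ := mem_image.mp h1
      exact t.mem_ι u
    · rcases (hN g h1).1 with rfl | rfl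
      exacts [t.mem_y, t.mem_ιy x]
  · have key : ∀ v, v = y ∨ v = ι x * y → Fus 2 P e v g → ∃ g' ∈ T₁.image ι ∪ N, Fus 2 P e g' g := by
      intro v hv hf
      by_cases hn : NF P e ι v
      · exact ⟨v, mem_union_right _ (by simpa [N] using ⟨hv, hn⟩), hf⟩
      · obtain ⟨u, hu⟩ := not_forall_not.mp hn
        obtain ⟨u', h1, h2⟩ := hex u
        exact ⟨ι u', mem_union_left _ (mem_image_of_mem _ h1), h.fus_trans h2 (h.fus_trans hu hf)⟩
    rcases (t.mem g).mp hg with ⟨u, rfl⟩ | ⟨u, rfl⟩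
    · obtain ⟨u', h1, h2⟩ := hex u
      exact ⟨ι u', mem_union_left _ (mem_image_of_mem _ h1), h2⟩
    · rcases t.exists_conj_rep u with ⟨c, hc, h1⟩ | ⟨c, hc, h1⟩
      · exact key y (Or.inl rfl) (h1 ▸ h.fus_conj_mem t.mem_y hc)
      · exact key _ (Or.inr rfl) (h1 ▸ h.fus_conj_mem (t.mem_ιy x) hc)
  · rcases mem_union.mp hg with h1 | h1 <;> rcases mem_union.mp hg' with h2 | h2
    · obtain ⟨u, hu, rfl⟩ := mem_image.mp h1
      obtain ⟨u', hu', rfl⟩ := mem_image.mp h2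
      rcases fus_ι h t hf with rfl | rfl
      · rfl
      by_cases h3 : u ∈ zpowers (zz k x)
      · rw [t.zpow_eq_iff.mpr (t.mem_zpowers_zz.mp h3)]
      have key : ∀ s ∈ T₁, s ∉ zpowers (zz k x) → s ∈ T := by
        intro s hs h4
        simp only [T₁, mem_insert] at hs
        rw [t.mem_zpowers_zz] at h4
        tauto
      exact absurd (key _ hu' (by rwa [t.zpow_mem_iff])) (k1 u (key u hu h3))
    · obtain ⟨u, -, rfl⟩ := mem_image.mp h1
      exact absurd hf ((hN _ h2).2 u)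
    · obtain ⟨u, -, rfl⟩ := mem_image.mp h2
      exact absurd hf.symm ((hN _ h1).2 u)
    · obtain ⟨c, hc, h3⟩ := (hN _ h1).2.exists_conj h t hf
      rcases (hN _ h1).1 with rfl | rfl <;> rcases (hN _ h2).1 with h4 | h4
      · exact h4.symm
      · exact absurd (h3.symm.trans h4) (t.conj_y_ne hc)
      · refine absurd ?_ (t.conj_y_ne (inv_mem hc))
        conv_lhs => rw [← h4, h3]
        group
      · exact h4.symm
  · rw [sum_union, sum_image fun _ _ _ _ h1 => t.inj h1,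
      sum_insert (by simp [h1T, t.zz_ne_one.symm]), sum_insert hzT, sum_filter, sum_pair hxy,
      map_one]
    · simp only [add_assoc]
      congr
    · rw [disjoint_left]
      intro g h1 h2
      obtain ⟨u, -, rfl⟩ := mem_image.mp h1
      exact (hN _ h2).2 u (h.fus_refl (t.mem_ι u))

end H33.Tame
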