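import Mathlib
import Cfsg.Agent.Lib.Tame.Fus
import Cfsg.Agent.Lib.Block.QuotRank

/-! The generalized characters of the cyclic subgroup attached to a tame block. -/

set_option autoImplicit false
set_option linter.unusedSectionVars false
set_option linter.style.haveILetI false
attribute [local irreducible] H33.instFieldF

namespace H33.Tame

open Cfsg H84 H35 H85 Finset
open H86 (Cen Nor emb cj cs trI eS IsMaxPair PairOf St IsBlk IsDef IsNil PQuot Mor quotSet)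
open Subgroup (zpowers)
open scoped ComplexConjugate SubFin

variable {G : Type*} [Group G] [Fintype G] {M : Ideal AlgInt} [M.IsMaximal]
  {B : Set (IrrCharacter G)} {P : Subgroup G} {e : MonoidAlgebra (F M) G}
  {D : Type*} [CommGroup D] [Fintype D] {k : ℕ} {x u u' : D} {a : ℤ} {ι : D →* G} {y g v z : G}

section quot

theorem comm_of_cen (hc : Cen (zpowers z) = ⊤) (g : G) : z * g = g * z :=
  H86.mem_Cen_zpowers.mp (hc ▸ Subgroup.mem_top g)

theorem normal_of_cen (hc : Cen (zpowers z) = ⊤) : (zpowers z).Normal := by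
  refine ⟨fun n hn g => ?_⟩
  rw [← H86.mem_Cen.mp (hc ▸ Subgroup.mem_top g) n hn, mul_inv_cancel_right]
  exact hn

theorem isPGroup_z (h2 : z * z = 1) : IsPGroup 2 (zpowers z) := by
  rintro ⟨_, n, rfl⟩
  refine ⟨1, Subtype.ext ?_⟩
  simp only [pow_one, SubgroupClass.coe_pow, OneMemClass.coe_one]
  rw [← zpow_natCast, ← zpow_mul, mul_comm, zpow_mul, zpow_natCast, sq, h2, one_zpow]

theorem pQuot_cen (hc : Cen (zpowers z) = ⊤) : PQuot 2 (Cen (zpowers z)) ⊤ :=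
  fun g _ _ => hc ▸ Subgroup.mem_top g

theorem sh_infl [(zpowers z).Normal] (ψ : IrrCharacter (G ⧸ zpowers z)) :
    sh z (infl _ ψ : G → ℂ) = infl _ ψ := by
  funext g
  rw [sh, infl_apply, infl_apply, QuotientGroup.mk_mul,
    (QuotientGroup.eq_one_iff z).mpr (Subgroup.mem_zpowers z), one_mul]

theorem sh_sh (h2 : z * z = 1) (θ : G → ℂ) : sh z (sh z θ) = θ := by
  funext g
  rw [sh, sh, ← mul_assoc, h2, one_mul]

theorem exists_infl_of_sh [(zpowers z).Normal] (h2 : z * z = 1) {χ : IrrCharacter G}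
    (h : sh z χ = χ) : ∃ ψ : IrrCharacter (G ⧸ zpowers z), infl _ ψ = χ := by
  refine exists_infl ?_
  intro n hn
  obtain ⟨j, rfl⟩ := mem_powers_iff_mem_zpowers.mpr hn
  simp only
  rcases Nat.even_or_odd' j with ⟨i, rfl | rfl⟩
  · rw [pow_mul, sq, h2, one_pow]
  · rw [pow_succ, pow_mul, sq, h2, one_pow, one_mul, ← congrFun h 1, sh, mul_one]

/-- The lattice is generated by the characters with `z` in their kernel. -/
theorem lat_ind (hM : IsPModular 2 M) (hB : IsPBlock M B) (hc : Cen (zpowers z) = ⊤)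
    (h2 : z * z = 1) {Q : (G → ℂ) → Prop} (h0 : Q 0) (hadd : ∀ f f', Q f → Q f' → Q (f + f'))
    (h1 : ∀ (n : ℤ), ∀ χ ∈ B, sh z χ = χ → Q ((n : ℂ) • pRegularPart 2 (χ : G → ℂ)))
    {f : G → ℂ} (hf : f ∈ lat 2 B) : Q f := by
  haveI := normal_of_cen hc
  obtain ⟨θ, h3, h4, rfl⟩ := exists_gen_of_lat hf
  obtain ⟨n, hn⟩ := exists_gen_rinf hM hB (isPGroup_z h2) (pQuot_cen hc) h3
  rw [h4] at hn
  rw [hn]
  exact sum_induction _ Q hadd h0 fun ψ hψ => h1 _ _ (H86.mem_quotSet.mp (mem_bset.mp hψ)) (sh_infl ψ)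

theorem exists_height_zero_sh (hM : IsPModular 2 M) (hB : IsPBlock M B) (hc : Cen (zpowers z) = ⊤)
    (h2 : z * z = 1) : ∃ χ ∈ B, blockHeight 2 B (χ : G → ℂ) = 0 ∧ sh z χ = χ := by
  by_contra hn
  push Not at hn
  obtain ⟨χ, hχ, h0⟩ := H33.exists_height_zero (p := 2) hB
  have := lat_ind hM hB hc h2 (Q := fun f => ndeg 2 B f ∈ O M ∧ red M (ndeg 2 B f) = 0)
    (by simp) (fun f f' h1 h2 => by
      rw [map_add, red_add h1.1 h2.1, h1.2, h2.2, add_zero]
      exact ⟨add_mem h1.1 h2.1, rfl⟩) (fun n ψ hψ h1 => by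
      have h3 := ndeg_mem_O (M := M) (reg_mem_lat (p := 2) hψ)
      have h4 := mt (red_ndeg_irr_ne_zero_iff hM hψ).mp fun h => hn ψ hψ h h1
      rw [map_smul, smul_eq_mul, red_mul (intCast_mem _ n) h3, ndeg_reg, not_not.mp h4, mul_zero]
      exact ⟨mul_mem (intCast_mem _ n) (ndeg_reg (p := 2) (b := B) _ ▸ h3), rfl⟩) (reg_mem_lat hχ)
  rw [ndeg_reg] at this
  exact (red_ndeg_irr_ne_zero_iff hM hχ).mpr h0 this.2

end quot

theorem wt_ι (h : MP 2 M B P e) (hc : Ctrl 2 P e) (t : Tm k P ι x a y)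
    (hu : u ∉ zpowers (zz k x)) : wt 2 P e (ι u) = 2 := by
  rw [wt, Nat.card_eq_two_iff]
  refine ⟨⟨⟨ι u, t.mem_ι u⟩, h.fus_refl (t.mem_ι u)⟩, ⟨⟨ι (u ^ a), t.mem_ι _⟩, fus_zpow h t u⟩,
    fun h1 => hu ?_, Set.eq_univ_of_forall ?_⟩
  · exact t.mem_zpowers_zz.mpr (t.zpow_eq_iff.mp
      (t.inj (congrArg (fun v => (v.1 : G)) h1)).symm)
  · rintro ⟨v, hv⟩
    obtain ⟨c, h1⟩ := isConj_iff.mp (hc ⟨ι u, t.mem_ι u⟩ v hv)
    have h2 : (c : G) * ι u * (c : G)⁻¹ = v := congrArg Subtype.val h1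
    rcases t.conj_ι c.2 u with h3 | h3
    · exact Or.inl (Subtype.ext (Subtype.ext (h2.symm.trans h3)))
    · exact Or.inr (Subtype.ext (Subtype.ext (h2.symm.trans h3)))

theorem inner_sub_rank_one {p : ℕ} [Fact p.Prime] (h : MP p M B P e) (hv : v ∈ P)
    (hl : blockRank p (loc p M P e (zpowers v)) = 1) (θ η : G → ℂ) :
    (p : ℂ) ^ blockDefect p (loc p M P e (zpowers v)) *
      classInner (sub p v _ (loc p M P e (zpowers v)) θ) (sub p v _ (loc p M P e (zpowers v)) η) =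
      dv p M P e θ v * conj (dv p M P e η v) := by
  have h1 := (h.isBr (Subgroup.zpowers_le.mpr hv) hl).qf_eq
  rw [qf_apply] at h1
  rw [h.sub_eq hv hl, h.sub_eq hv hl, H6.classInner_smul_left, H6.classInner_smul_right]
  linear_combination (dv p M P e θ v * conj (dv p M P e η v)) * h1

theorem ctr_ι (h : MP 2 M B P e) (hc : Ctrl 2 P e) (t : Tm k P ι x a y)
    (hu : u ∉ zpowers (zz k x)) (θ η : G → ℂ) :
    ctr 2 M P e θ η ⟨ι u, t.mem_ι u⟩ = dv 2 M P e θ (ι u) * conj (dv 2 M P e η (ι u)) := by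
  rw [← inner_sub_rank_one h (t.mem_ι u) (loc_ι h t hu).1, (loc_ι h t hu).2, ctr, t.card_P,
    wt_ι h hc t hu]
  push_cast
  ring

theorem ctr_cen {p : ℕ} [Fact p.Prime] (h : MP p M B P e) (hz : z ∈ P) (hc : Cen (zpowers z) = ⊤)
    (θ η : G → ℂ) : ctr p M P e θ η ⟨z, hz⟩ = Nat.card P *
      classInner (pRegularPart p (blockPart B (sh z θ))) (pRegularPart p (blockPart B (sh z η))) := by
  rw [ctr, wt_cen h hz hc, inner_sub_cen h hz hc]
  simp

/-- The properties of the generalized characters `η θ` of the cyclic subgroup. -/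
structure Eta (M : Ideal AlgInt) [M.IsMaximal] (P : Subgroup G) (e : MonoidAlgebra (F M) G)
    (k : ℕ) (ι : D →* G) (x : D) (a : ℤ) (η : (G → ℂ) →ₗ[ℂ] (D → ℂ)) (ε : D → ℂ) : Prop where
  gen : ∀ θ, IsGeneralizedCharacter G θ → IsGeneralizedCharacter D (η θ)
  stab : ∀ θ, IsClassFunction G θ → ∀ u, η θ (u ^ a) = η θ u
  val : ∀ θ, ∀ u ∉ zpowers (zz k x), η θ u = dv 2 M P e θ (ι u) * ε u
  unit : ∀ u ∉ zpowers (zz k x), ε u * conj (ε u) = 1 ∧ IsIntegral ℤ (ε u)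
  shift : ∀ θ u, η θ (u * zz k x) = η (sh (ι (zz k x)) θ) u
  reg : ∀ θ, η (pRegularPart 2 θ) 1 = η θ 1

theorem exists_eta (h : MP 2 M B P e) (t : Tm k P ι x a y)
    (hz : Cen (zpowers (ι (zz k x))) = ⊤) : ∃ η ε, Eta M P e k ι x a η ε := by
  haveI := H33.charP h.hM
  obtain ⟨hb, hm, hn⟩ := LL_spec h t
  set L := LL M P e (ι (ww k x)) with hL
  obtain ⟨b, hb', hbe⟩ := hb.exists_eS
  rw [hbe] at hm hn
  obtain ⟨e', he', h'⟩ := exists_mp_of_max h.hM hb' hm
  have hd : Down 2 M B P e L b e' := ⟨h, hm.le, h', he'⟩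
  have hc := h'.ctrl_of_nil ((H86.isNilpotentBlock_sub_iff hb').mpr hn)
  have t' := t.subgroupOf hm.le
  set ι' := ι.codRestrict L fun u => hm.le (t.mem_ι u) with hι'
  have hz' : Cen (zpowers (ι' (zz k x))) = ⊤ := by
    rw [eq_top_iff]
    intro g _
    rw [H86.mem_Cen_zpowers]
    exact Subtype.ext (comm_of_cen hz g)
  obtain ⟨ψ, hψ, h0, hψz⟩ := exists_height_zero_sh h.hM hb' hz' t'.z_mul_z
  let j : D →* P.subgroupOf L := ι'.codRestrict _ t'.mem_ι
  let η : (G → ℂ) →ₗ[ℂ] (D → ℂ) :=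
    { toFun := fun θ u => ctr 2 M (P.subgroupOf L) e' (fun l : L => θ l) ψ (j u)
      map_add' := fun θ θ' => funext fun u => by
        have : (fun l : L => (θ + θ') l) = (fun l : L => θ l) + fun l : L => θ' l := rfl
        rw [Pi.add_apply, this]
        simp only [ctr, H84.sub_add, H6.classInner_add_left, mul_add]
      map_smul' := fun c θ => funext fun u => by
        have : (fun l : L => (c • θ) l) = c • fun l : L => θ l := rfl
        rw [Pi.smul_apply, this]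
        simp only [ctr, H84.sub_smul, H6.classInner_smul_left, smul_eq_mul, RingHom.id_apply]
        ring }
  have hη : ∀ θ u, η θ u = ctr 2 M (P.subgroupOf L) e' (fun l : L => θ l) ψ ⟨ι' u, t'.mem_ι u⟩ :=
    fun _ _ => rfl
  have hval : ∀ θ, ∀ u ∉ zpowers (zz k x), η θ u = dv 2 M P e θ (ι u) *
      conj (dv 2 M (P.subgroupOf L) e' ψ (ι' u)) := by
    intro θ u hu
    rw [hη, ctr_ι h' hc t' hu, ← hd.dv_eq (u := ι' u) (t.mem_ι u) (Cen_le_LL h t hu)]
    rfl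
  have hz1 : ∀ θ, η θ (zz k x) = η (sh (ι (zz k x)) θ) 1 := by
    intro θ
    have h1 : (⟨ι' 1, t'.mem_ι 1⟩ : P.subgroupOf L) = ⟨1, one_mem _⟩ := Subtype.ext (map_one ι')
    rw [hη, hη, h1, ctr_cen h' _ hz', ctr_cen h' _ Cen_one, sh_one, sh_one, hψz]
    rfl
  refine ⟨η, fun u => conj (dv 2 M (P.subgroupOf L) e' ψ (ι' u)), fun θ hθ => ?_,
    fun θ hθ u => ?_, hval, fun u hu => ⟨?_, ?_⟩, fun θ u => ?_, fun θ => ?_⟩
  · exact H6.isGen_comp j (h'.isGen_ctr hc (H6.isGen_restrict L hθ) (irr_gen ψ))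
  · exact (h'.stab_ctr (fun g s => hθ g s) (irr_class ψ) _ _ (fus_zpow h' t' u)).symm
  · rw [Complex.conj_conj, mul_comm, ← ctr_ι h' hc t' hu, h'.ctr_self_eq_one hc hψ h0]
  · exact (h'.isIntegral_dv (t'.mem_ι u) (irr_gen ψ)).map (starRingEnd ℂ).toIntAlgHom
  · by_cases hu : u ∈ zpowers (zz k x)
    · rcases t.mem_zpowers_zz.mp hu with rfl | rfl
      · rw [one_mul, hz1]
      · rw [hz1, sh_sh t.z_mul_z, t.zz_mul_zz]
    · have key : ∀ {K : Type _} [Group K] (i : D →* K),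
          zpowers (i u * i (zz k x)) = zpowers (i u) := fun i => by
        rw [← map_mul, ← MonoidHom.map_zpowers, ← MonoidHom.map_zpowers, t.zpowers_mul_zz hu]
      rw [hval _ _ hu, hval _ _ (CycT.mul_zz_not_mem hu), map_mul, map_mul,
        dv_mul (key ι) (Tm.comm ι _ _), dv_mul (key ι') (Tm.comm ι' _ _), hψz]
  · rw [hη, hη, ctr, ctr, sub_congr h.hM (h'.blk (Subgroup.zpowers_le.mpr (t'.mem_ι 1)))]
    intro s hs
    simp only [map_one, one_mul]
    exact reg_of_reg θ (by rwa [Subgroup.orderOf_coe, Subgroup.orderOf_coe])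

namespace Eta

variable {η : (G → ℂ) →ₗ[ℂ] (D → ℂ)} {ε : D → ℂ}

theorem red_iff (E : Eta M P e k ι x a η ε) (hu : u ∉ zpowers (zz k x)) {d : ℂ}
    (hd : d ∈ O M) :
    red M (d * ε u) ≠ 0 ↔ red M d ≠ 0 := by
  obtain ⟨h1, h2⟩ := E.unit u hu
  have h3 := mem_O_of_isIntegral M h2
  have h4 := mem_O_of_isIntegral M (h2.map (starRingEnd ℂ).toIntAlgHom)
  have h5 : red M (ε u) ≠ 0 := by
    intro h5
    have := red_mul h3 h4
    erw [h1, h5, zero_mul, red_one] at this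
    exact one_ne_zero this
  rw [red_mul hd h3, mul_ne_zero_iff, and_iff_left h5]

end Eta

end H33.Tame
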