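import Mathlib
import Cfsg.Agent.Lib.Tame.Eta
import Cfsg.Agent.Lib.Tame.Comb
import Cfsg.Agent.Lib.Block.Column

/-! Orthogonality relations for tame blocks. -/

set_option autoImplicit false
set_option linter.unusedSectionVars false
set_option linter.style.haveILetI false
attribute [local irreducible] H33.instFieldF

namespace H33.Tame

open Cfsg H84 H35 H85 Finset
open H86 (Cen Nor emb cj cs trI eS)
open Subgroup (zpowers)
open scoped ComplexConjugate SubFin

variable {G : Type*} [Group G] [Fintype G] {M : Ideal AlgInt} [M.IsMaximal]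
  {B : Set (IrrCharacter G)} {P : Subgroup G} {e : MonoidAlgebra (F M) G}
  {D : Type*} [CommGroup D] [Fintype D] {k : ℕ} {x u u' : D} {a : ℤ} {ι : D →* G} {y g v z : G}

theorem defect_eq (h : MP 2 M B P e) (t : Tm k P ι x a y) : blockDefect 2 B = k + 3 :=
  (Nat.pow_right_injective le_rfl (t.card_P.symm.trans h.card_eq)).symm

theorem gram_off (h : MP 2 M B P e) (t : Tm k P ι x a y) [DecidableEq D]
    {E : IrrCharacter G → D → ℂ} {ε : D → ℂ}
    (hval : ∀ χ ∈ B, ∀ u ∉ zpowers (zz k x), E χ u = dv 2 M P e χ (ι u) * ε u)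
    (hε : ∀ u ∉ zpowers (zz k x), ε u * conj (ε u) = 1) (hα : ∀ χ u, E χ (u ^ a) = E χ u)
    (hu : u ∉ zpowers (zz k x)) (hu' : u' ∉ zpowers (zz k x)) :
    ∑ χ ∈ bset B, E χ u * conj (E χ u') =
      (Nat.card D : ℂ) * ((if u = u' then 1 else 0) + if u = u' ^ a then 1 else 0) := by
  have h1 : ∀ u u', u ∉ zpowers (zz k x) → u' ∉ zpowers (zz k x) →
      ∑ χ ∈ bset B, E χ u * conj (E χ u') = ε u * conj (ε u') *
        ∑ χ ∈ bset B, dv 2 M P e χ (ι u) * conj (dv 2 M P e χ (ι u')) := by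
    intro u u' hu hu'
    rw [mul_sum]
    refine sum_congr rfl fun χ hχ => ?_
    rw [hval χ (mem_bset.mp hχ) u hu, hval χ (mem_bset.mp hχ) u' hu', map_mul]
    ring
  have h2 : ∑ χ ∈ bset B, E χ u' * conj (E χ u') = Nat.card D := by
    rw [h1 u' u' hu' hu', hε u' hu', one_mul, h.sum_dv_self (t.mem_ι u') (loc_ι h t hu').1,
      (loc_ι h t hu').2, t.card]
    push_cast
    rfl
  have h3 : u' ≠ u' ^ a := fun h3 => hu' (t.mem_zpowers_zz.mpr (t.zpow_eq_iff.mp h3.symm))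
  by_cases k1 : u = u'
  · subst k1
    rw [h2, if_pos rfl, if_neg h3, add_zero, mul_one]
  by_cases k2 : u = u' ^ a
  · rw [if_neg k1, if_pos k2, k2, zero_add, mul_one]
    simp only [hα, h2]
  rw [if_neg k1, if_neg k2, h1 u u' hu hu', h.sum_dv_of_not_fus (t.mem_ι u) (t.mem_ι u'), mul_zero,
    add_zero, mul_zero]
  intro hf
  rcases fus_ι h t hf.symm with h4 | h4 <;> contradiction

theorem red_int_ne_zero (hM : IsPModular 2 M) (n : ℤ) : red M (n : ℂ) ≠ 0 ↔ Odd n := by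
  rw [red_intCast, Ne, intCast_F_eq_zero_iff hM, ← Int.not_even_iff_odd, even_iff_two_dvd]
  rfl

theorem exists_dvec (h : MP 2 M B P e) (t : Tm k P ι x a y) : ∃ d : IrrCharacter G → ℤ,
    NF P e ι y → (∀ χ : IrrCharacter G, dv 2 M P e χ y = d χ) ∧ ∑ χ ∈ bset B, d χ * d χ = 4 ∧
      (∀ χ ∈ B, Odd (d χ) ↔ blockHeight 2 B (χ : G → ℂ) = 0) ∧
      ∀ u, ∑ χ ∈ bset B, (d χ : ℂ) * conj (dv 2 M P e χ (ι u)) = 0 := by
  have h4 : y ^ 4 = 1 := by
    rw [show 4 = 2 * 2 from rfl, pow_mul]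
    rcases t.sq with h1 | h1 <;> rw [h1]
    · exact one_pow _
    · rw [sq, t.z_mul_z]
  obtain ⟨c, hc, h1⟩ := t.exists_conj_inv
  choose d hd using fun χ : IrrCharacter G =>
    dv_int h h4 (h1 ▸ h.fus_conj_mem t.mem_y hc) (irr_gen χ)
  refine ⟨d, fun hy => ⟨hd, ?_, fun χ hχ => ?_, fun u => ?_⟩⟩
  · have h2 := h.sum_dv_self t.mem_y (loc_y h t hy).1
    rw [(loc_y h t hy).2] at h2
    simp only [hd, map_intCast] at h2
    exact_mod_cast h2
  · rw [← h.red_dv_ne_zero_iff t.mem_y (loc_y h t hy).1 hχ, hd, red_int_ne_zero h.hM]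
  · simp only [← hd]
    exact h.sum_dv_of_not_fus t.mem_y (t.mem_ι u) fun hf => hy u hf.symm

theorem Vec.odd_iff {Z : Subgroup D} {E : IrrCharacter G → D → ℂ} {R : Finset (D →* ℂˣ)}
    {l : D →* ℂˣ} {v : (D →* ℂˣ) → IrrCharacter G → ℤ} {n : IrrCharacter G → ℤ}
    (V : Vec k x a Z (bset B) E R l v n) (h : MP 2 M B P e) (t : Tm k P ι x a y)
    {χ : IrrCharacter G} (hχ : χ ∈ B) (hE : IsGeneralizedCharacter D (E χ))
    (hr : red M (E χ x) ≠ 0 ↔ red M (dv 2 M P e χ (ι x)) ≠ 0) :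
    Odd (v l χ) ↔ blockHeight 2 B (χ : G → ℂ) = 0 := by
  obtain ⟨s, hs⟩ := V.par χ
  rw [← h.red_dv_ne_zero_iff (t.mem_ι x) (loc_ι h t t.not_mem).1 hχ, ← hr,
    red_gen_eq h.hM hE ⟨_, t.ord⟩, hs, show (v l χ : ℂ) + 2 * s = ((v l χ + 2 * s : ℤ) : ℂ) by
      push_cast; rfl, red_int_ne_zero h.hM]
  exact (Int.odd_add.trans (by simp)).symm

theorem card_ne_two {r j : ℕ} (h : 2 * r + 2 = 2 ^ j) : r ≠ 2 := by
  rintro rfl
  have h1 : 3 ∣ 2 ^ j := ⟨2, h.symm⟩
  have := (Nat.Prime.dvd_of_dvd_pow Nat.prime_three h1)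
  omega

/-- The class function with the given coefficients. -/
noncomputable def cf (B : Set (IrrCharacter G)) (A : IrrCharacter G → ℤ) : G → ℂ :=
  ∑ χ ∈ bset B, (A χ : ℂ) • (χ : G → ℂ)

theorem isClassFunction_cf (A : IrrCharacter G → ℤ) : IsClassFunction G (cf B A) :=
  H6.gen_isClassFunction (H6.isGen_sum _ fun χ _ => H6.isGen_intCast_smul _ (irr_gen χ))

theorem blockPart_cf (A : IrrCharacter G → ℤ) : blockPart B (cf B A) = cf B A := by
  rw [cf, blockPart_sum]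
  exact sum_congr rfl fun χ hχ => by rw [blockPart_smul, blockPart_irr_of_mem (mem_bset.mp hχ)]

theorem inner_cf (A A' : IrrCharacter G → ℤ) :
    classInner (cf B A) (cf B A') = ∑ χ ∈ bset B, (A χ : ℂ) * A' χ := by
  classical
  conv_lhs => rw [← blockPart_cf A, inner_blockPart_left]
  refine sum_congr rfl fun χ hχ => ?_
  rw [cf, cf, inner_sum_bset, inner_sum_bset, if_pos (mem_bset.mp hχ), if_pos (mem_bset.mp hχ),
    map_intCast]

theorem lin_cf {V : Type*} [AddCommGroup V] [Module ℂ V] (L : (G → ℂ) →ₗ[ℂ] V)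
    (A : IrrCharacter G → ℤ) : L (cf B A) = ∑ χ ∈ bset B, (A χ : ℂ) • L χ := by
  simp only [cf, map_sum, map_smul]

theorem dv_cf {p : ℕ} [Fact p.Prime] (A : IrrCharacter G → ℤ) (v : G) :
    dv p M P e (cf B A) v = ∑ χ ∈ bset B, (A χ : ℂ) * dv p M P e χ v :=
  lin_cf (B := B) ⟨⟨fun θ => dv p M P e θ v, fun θ η => dv_add θ η v⟩, fun c θ => dv_smul c θ v⟩ A

theorem reg_cf_apply {p : ℕ} (A : IrrCharacter G → ℤ) (g : G) :
    pRegularPart p (cf B A) g = ∑ χ ∈ bset B, (A χ : ℂ) * pRegularPart p (χ : G → ℂ) g := by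
  have := congrFun (lin_cf (B := B) (regL p G) A) g
  simpa only [regL_apply, Finset.sum_apply, Pi.smul_apply, smul_eq_mul] using this

theorem reg_cf_mem {p : ℕ} (A : IrrCharacter G → ℤ) : pRegularPart p (cf B A) ∈ regSpan p B := by
  rw [← blockPart_cf]; exact reg_blockPart_mem B _

theorem sh_cf {A : IrrCharacter G → ℤ} (hA : ∀ χ ∈ B, A χ ≠ 0 → sh z χ = χ) :
    sh z (cf B A) = cf B A := by
  rw [cf, sh_sum]
  refine sum_congr rfl fun χ hχ => ?_
  by_cases h0 : A χ = 0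
  · simp [h0]
  · rw [hA χ (mem_bset.mp hχ) h0]

theorem cf_single [DecidableEq (IrrCharacter G)] {χ : IrrCharacter G} (hχ : χ ∈ B) :
    cf B (fun ψ => if ψ = χ then 1 else 0) = χ := by
  rw [cf, sum_eq_single_of_mem χ (mem_bset.mpr hχ)] <;> simp +contextual

/-- The decomposition of the inner product when `z` is central. -/
theorem inner_formula (h : MP 2 M B P e) (t : Tm k P ι x a y)
    (hz : Cen (zpowers (ι (zz k x))) = ⊤) [Decidable (NF P e ι y)]
    [Decidable (NF P e ι (ι x * y))] {f f' : G → ℂ} (hf : IsClassFunction G f)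
    (hf' : IsClassFunction G f') (b₁ : blockPart B f = f) (b₂ : blockPart B f' = f')
    (s₁ : sh (ι (zz k x)) f = f) (s₂ : sh (ι (zz k x)) f' = f')
    (h0 : ∀ u ∉ zpowers (zz k x), dv 2 M P e f (ι u) = 0) :
    qf 2 B (pRegularPart 2 f) (pRegularPart 2 f') = 2 ^ k * (4 * classInner f f' -
      (if NF P e ι y then dv 2 M P e f y * conj (dv 2 M P e f' y) else 0) -
      if NF P e ι (ι x * y) then dv 2 M P e f (ι x * y) * conj (dv 2 M P e f' (ι x * y)) else 0) := by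
  obtain ⟨T, hT, -, Y, hY, hs⟩ := exists_reps h t
  have h1 := h.inner_eq_sum' hY hf hf'
  rw [hs, inner_sub_cen h (one_mem P) Cen_one, inner_sub_cen h (t.mem_ι _) hz, sh_one, sh_one, s₁,
    s₂, b₁, b₂, sum_eq_zero fun u hu => by
      rw [h.sub_eq (t.mem_ι u) (loc_ι h t (hT u hu)).1 f, h0 u (hT u hu), zero_smul,
        H6.classInner_zero_left]] at h1
  have key : ∀ y, Tm k P ι x a y → [Decidable (NF P e ι y)] → (if NF P e ι y then
      dv 2 M P e f y * conj (dv 2 M P e f' y) else 0) = 4 * if NF P e ι y then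
      classInner (sub 2 y _ (loc 2 M P e (zpowers y)) f) (sub 2 y _ (loc 2 M P e (zpowers y)) f')
      else 0 := by
    intro y t _
    split_ifs with hy
    · rw [← inner_sub_rank_one h t.mem_y (loc_y h t hy).1, (loc_y h t hy).2]
      norm_num
    · rw [mul_zero]
  rw [key y t, key _ (t.shift x), h1, qf_apply, defect_eq h t]
  push_cast
  ring

theorem qf_reg_ne_zero {p : ℕ} [Fact p.Prime] (h : MP p M B P e) {χ ψ : IrrCharacter G}
    (hχ : χ ∈ B) (hψ : ψ ∈ B) (h0 : blockHeight p B (ψ : G → ℂ) = 0) :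
    qf p B (pRegularPart p (χ : G → ℂ)) (pRegularPart p (ψ : G → ℂ)) ≠ 0 := by
  have h1 := h.ctr_ne_zero_of_major hχ hψ h0 ⟨1, one_mem P⟩ (by
    change P ≤ Cen (zpowers (1 : G))
    rw [Cen_one]; exact le_top)
  rw [ctr_cen h _ Cen_one, sh_one, sh_one, blockPart_irr_of_mem hχ, blockPart_irr_of_mem hψ] at h1
  rw [qf_apply]
  exact mul_ne_zero (pow_ne_zero _ (Nat.cast_ne_zero.mpr (Fact.out : p.Prime).ne_zero))
    (right_ne_zero_of_mul h1)

theorem two_dvd_orderOf_mul (hc : z * g = g * z) (h2 : z * z = 1) (h1 : z ≠ 1)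
    (hg : ¬ 2 ∣ orderOf g) : 2 ∣ orderOf (z * g) := by
  by_contra h3
  have h4 : Odd (orderOf (z * g) * orderOf g) :=
    (Nat.odd_iff.mpr (by omega)).mul (Nat.odd_iff.mpr (by omega))
  have h5 : (z * g) ^ (orderOf (z * g) * orderOf g) = 1 := by
    rw [pow_mul, pow_orderOf_eq_one, one_pow]
  rw [Commute.mul_pow hc, mul_comm (orderOf (z * g)), pow_mul g, pow_orderOf_eq_one, one_pow,
    mul_one, mul_comm] at h5
  obtain ⟨j, hj⟩ := h4
  rw [hj, pow_succ, pow_mul, sq, h2, one_pow, one_mul] at h5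
  exact h1 h5

theorem sum_qf_plus (hM : IsPModular 2 M) (hB : IsPBlock M B) (hc : Cen (zpowers z) = ⊤)
    (h2 : z * z = 1) (h1 : z ≠ 1) [DecidablePred fun χ : IrrCharacter G => sh z χ = χ] :
    2 * ∑ χ ∈ (bset B).filter (fun χ : IrrCharacter G => sh z χ = χ),
      qf 2 B (pRegularPart 2 (χ : G → ℂ)) (pRegularPart 2 (χ : G → ℂ)) =
      2 ^ blockDefect 2 B * blockRank 2 B := by
  have h3 : ∑ χ ∈ bset B, qf 2 B (pRegularPart 2 (sh z χ)) (pRegularPart 2 (χ : G → ℂ)) = 0 := by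
    simp only [qf_apply, classInner, ← mul_sum]
    rw [sum_comm, sum_eq_zero, mul_zero, mul_zero]
    intro g _
    by_cases hg : 2 ∣ orderOf g
    · simp [reg_of_sing _ hg]
    · simp only [reg_of_reg _ hg, sh]
      exact col_eq_zero_of_reg hM hB (two_dvd_orderOf_mul (comm_of_cen hc g) h2 h1 hg) hg
  have h4 := sum_qf_reg hM hB
  rw [Nat.cast_ofNat] at h4
  rw [← h4, ← add_zero (∑ χ ∈ bset B, _), ← h3, ← sum_add_distrib, sum_filter, mul_sum]
  refine sum_congr rfl fun χ _ => ?_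
  split_ifs with h5
  · rw [h5, two_mul]
  · rw [(sh_irr hc h2 χ).resolve_left h5, ← neg_one_smul ℂ, reg_smul, map_smul]
    simp

end H33.Tame
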