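import Mathlib
import Cfsg.Agent.Lib.Tame.Orth

/-! Tame blocks of groups in which the central involution of the defect group is central. -/

set_option autoImplicit false
set_option linter.unusedSectionVars false
set_option linter.style.haveILetI false
attribute [local irreducible] H33.instFieldF

namespace H33.Tame

open Cfsg H84 H35 H85 Finset
open H86 (Cen Nor emb cj cs trI eS quotSet)
open Subgroup (zpowers)
open scoped ComplexConjugate SubFin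

universe u

/-- No block with one Brauer character and five ordinary characters has defect four. -/
def NoExo (M : Ideal AlgInt) : Prop :=
  ∀ (K : Type u) [Group K] [Finite K] (b : Set (IrrCharacter K)), IsPBlock M b →
    blockRank 2 b = 1 → Nat.card b = 5 → blockDefect 2 b ≠ 4

variable {G : Type u} [Group G] [Fintype G] {M : Ideal AlgInt} [M.IsMaximal]
  {B : Set (IrrCharacter G)} {P : Subgroup G} {e : MonoidAlgebra (F M) G}
  {D : Type*} [CommGroup D] [Fintype D] {k : ℕ} {x : D} {a : ℤ} {ι : D →* G} {y : G}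

/-- The structure of the lattice of Brauer characters. -/
structure CD (M : Ideal AlgInt) [M.IsMaximal] (B : Set (IrrCharacter G)) (k : ℕ)
    (κ : (G → ℂ) → ℂ) (σ τ₁ τ₂ : G → ℂ) (i₁ i₂ : ℕ) : Prop where
  m₀ : σ ∈ regSpan 2 B
  m₁ : τ₁ ∈ regSpan 2 B
  m₂ : τ₂ ∈ regSpan 2 B
  q₀₀ : qf 2 B σ σ = 1
  q₁₁ : qf 2 B τ₁ τ₁ = 2 ^ k * i₁
  q₂₂ : qf 2 B τ₂ τ₂ = 2 ^ k * i₂
  q₀₁ : qf 2 B σ τ₁ = 0
  q₀₂ : qf 2 B σ τ₂ = 0
  q₁₂ : qf 2 B τ₁ τ₂ = 0
  le₁ : i₁ ≤ 1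
  le₂ : i₂ ≤ 1
  dec : ∀ f ∈ lat 2 B, ∃ s t₁ t₂ r : ℤ, f = (s : ℂ) • σ + (t₁ : ℂ) • τ₁ + (t₂ : ℂ) • τ₂ ∧
    Even (s - t₁) ∧ Even (s - t₂) ∧ κ f + 2 ^ (k + 1) * r = s
  mem : σ + τ₁ + τ₂ ∈ lat 2 B
  odd : red M (ndeg 2 B (σ + τ₁ + τ₂)) ≠ 0
  rank : blockRank 2 B = 1 + i₁ + i₂

theorem qf_comb {σ τ₁ τ₂ : G → ℂ} {c₁ c₂ : ℂ} (q₀₀ : qf 2 B σ σ = 1) (q₁₁ : qf 2 B τ₁ τ₁ = c₁)
    (q₂₂ : qf 2 B τ₂ τ₂ = c₂) (q₀₁ : qf 2 B σ τ₁ = 0) (q₀₂ : qf 2 B σ τ₂ = 0)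
    (q₁₂ : qf 2 B τ₁ τ₂ = 0) (s t₁ t₂ s' t₁' t₂' : ℤ) :
    qf 2 B ((s : ℂ) • σ + (t₁ : ℂ) • τ₁ + (t₂ : ℂ) • τ₂)
      ((s' : ℂ) • σ + (t₁' : ℂ) • τ₁ + (t₂' : ℂ) • τ₂) =
      s * s' + c₁ * (t₁ * t₁') + c₂ * (t₂ * t₂') := by
  have q₁₀ : qf 2 B τ₁ σ = 0 := by rw [← conj_qf, q₀₁, map_zero]
  have q₂₀ : qf 2 B τ₂ σ = 0 := by rw [← conj_qf, q₀₂, map_zero]
  have q₂₁ : qf 2 B τ₂ τ₁ = 0 := by rw [← conj_qf, q₁₂, map_zero]
  simp only [map_add, map_smul, map_smulₛₗ, LinearMap.add_apply, LinearMap.smul_apply, q₀₀, q₁₁,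
    q₂₂, q₀₁, q₀₂, q₁₂, q₁₀, q₂₀, q₂₁, map_intCast, smul_eq_mul]
  ring

theorem dsplit {wa wb we wf da db de df : ℤ} (ha : wa = 1 ∨ wa = -1) (hb : wb = 1 ∨ wb = -1)
    (he : we = 1 ∨ we = -1) (hf : wf = 1 ∨ wf = -1) (ka : da = 1 ∨ da = -1)
    (kb : db = 1 ∨ db = -1) (ke : de = 1 ∨ de = -1) (kf : df = 1 ∨ df = -1)
    (h1 : wa * da + wb * db = 0) (h2 : wa * da + wb * db + we * de + wf * df = 0) :
    ∃ j₁ j₂ : ℕ, j₁ + j₂ = 1 ∧
      (wa * da - wb * db + we * de - wf * df) * (wa * da - wb * db + we * de - wf * df) = 16 * j₁ ∧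
      (wa * da - wb * db - we * de + wf * df) * (wa * da - wb * db - we * de + wf * df) = 16 * j₂ ∧
      (wa * da - wb * db + we * de - wf * df) * (wa * da - wb * db - we * de + wf * df) = 0 := by
  rcases ha with rfl | rfl <;> rcases hb with rfl | rfl <;> rcases he with rfl | rfl <;>
    rcases hf with rfl | rfl <;> rcases ka with rfl | rfl <;> rcases kb with rfl | rfl <;>
    rcases ke with rfl | rfl <;> rcases kf with rfl | rfl <;>
    first | omega | exact ⟨1, 0, by decide⟩ | exact ⟨0, 1, by decide⟩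

theorem exists_cd (H : NoExo.{u} M) (h : MP 2 M B P e) (t : Tm k P ι x a y)
    (hz : Cen (zpowers (ι (zz k x))) = ⊤) {η : (G → ℂ) →ₗ[ℂ] (D → ℂ)} {ε : D → ℂ}
    (E : Eta M P e k ι x a η ε) [Decidable (NF P e ι y)] [Decidable (NF P e ι (ι x * y))] :
    ∃ σ τ₁ τ₂ i₁ i₂, CD M B k (fun f => η f 1) σ τ₁ τ₂ i₁ i₂ ∧
      i₁ + i₂ + (if NF P e ι y then 1 else 0) + (if NF P e ι (ι x * y) then 1 else 0) = 2 := by
  classical
  obtain ⟨R, l, v, n, V⟩ := exists_vec t.toCycT _ le_rfl (bset B) (fun χ => η χ)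
    (fun χ => E.gen _ (irr_gen χ)) (fun χ => E.stab _ (irr_class χ)) fun u u' hu hu' =>
      gram_off h t (fun χ _ => E.val χ) (fun u hu => (E.unit u hu).1)
        (fun χ => E.stab _ (irr_class χ)) hu hu'
  have hcard := V.card
  rw [t.index_zz] at hcard
  have hodd : ∀ χ ∈ B, Odd (v l χ) ↔ blockHeight 2 B (χ : G → ℂ) = 0 := fun χ hχ =>
    V.odd_iff h t hχ (E.gen _ (irr_gen χ)) (by
      rw [E.val _ _ t.not_mem]
      exact E.red_iff t.not_mem (mem_O_of_isIntegral M (h.isIntegral_dv (t.mem_ι x) (irr_gen χ))))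
  obtain ⟨o, ho, ho0⟩ := H33.exists_height_zero (p := 2) h.hB
  have hw : ∀ χ ∈ B, v l χ ≠ 0 ↔ blockHeight 2 B (χ : G → ℂ) = 0 := by
    obtain ⟨a, b, e, f, F4⟩ := exists_four V.four (mem_bset.mpr ho) ((hodd o ho).mpr ho0)
    intro χ hχ
    rw [← hodd χ hχ]
    refine ⟨fun h0 => ?_, fun ⟨j, hj⟩ => by omega⟩
    have := F4.wa; have := F4.wb; have := F4.we; have := F4.wf
    rcases (F4.ne_zero_iff (mem_bset.mpr hχ)).mp h0 with rfl | rfl | rfl | rfl <;>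
      rw [Int.odd_iff] <;> omega
  obtain ⟨d₁, hd₁⟩ := exists_dvec h t
  obtain ⟨d₂, hd₂⟩ := exists_dvec h (t.shift x)
  have hε : ∀ u ∉ zpowers (zz k x), ε u ≠ 0 := fun u hu => left_ne_zero_of_mul_eq_one (E.unit u hu).1
  have horth : ∀ W : IrrCharacter G → ℂ,
      (∀ u ∉ zpowers (zz k x), ∑ χ ∈ bset B, W χ * conj (dv 2 M P e χ (ι u)) = 0) →
      ∑ χ ∈ bset B, v l χ * W χ = 0 ∧ ∀ r ∈ R, ∑ χ ∈ bset B, v r χ * W χ = 0 := by
    intro W hW
    refine V.orth W fun u hu => ?_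
    simp only [E.val _ u hu, map_mul, ← mul_assoc, ← sum_mul, hW u hu, zero_mul]
  have hdd : ∀ (y : G) (d : IrrCharacter G → ℤ), (NF P e ι y →
      (∀ χ : IrrCharacter G, dv 2 M P e χ y = d χ) ∧ ∑ χ ∈ bset B, d χ * d χ = 4 ∧
      (∀ χ ∈ B, Odd (d χ) ↔ blockHeight 2 B (χ : G → ℂ) = 0) ∧
      ∀ u, ∑ χ ∈ bset B, (d χ : ℂ) * conj (dv 2 M P e χ (ι u)) = 0) → NF P e ι y →
      ∑ i ∈ bset B, d i * d i = 4 ∧ (∀ i ∈ bset B, v l i ≠ 0 → Odd (d i)) ∧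
      ∑ i ∈ bset B, v l i * d i = 0 ∧ ∀ r ∈ R, ∑ i ∈ bset B, v r i * d i = 0 := by
    intro y d hd hy
    obtain ⟨-, k2, k3, k4⟩ := hd hy
    obtain ⟨k5, k6⟩ := horth (fun χ => d χ) fun u _ => k4 u
    exact ⟨k2, fun i hi h0 => (k3 i (mem_bset.mp hi)).mpr ((hw i (mem_bset.mp hi)).mp h0),
      by exact_mod_cast k5, fun r hr => by exact_mod_cast k6 r hr⟩
  have hplus : ∀ χ : IrrCharacter G, sh (ι (zz k x)) χ = χ →
      ∀ u, ∀ s ∈ zpowers (zz k x), η χ (u * s) = η χ u := by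
    intro χ hχ u s hs
    rcases t.mem_zpowers_zz.mp hs with rfl | rfl
    · rw [mul_one]
    · rw [E.shift, hχ]
  have hminus : ∀ χ : IrrCharacter G, (v l χ ≠ 0 ∨ ∃ r ∈ R, v r χ ≠ 0) →
      sh (ι (zz k x)) χ = χ := by
    intro χ h1
    refine (sh_irr hz t.z_mul_z χ).resolve_right fun h2 => ?_
    obtain ⟨k1, k2⟩ := V.anti χ ⟨_, Subgroup.mem_zpowers _, fun u => by
      simp only [E.shift, h2, map_neg, Pi.neg_apply]⟩
    rcases h1 with h1 | ⟨r, hr, h1⟩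
    exacts [h1 k1, h1 (k2 r hr)]
  have hform : ∀ A A' : IrrCharacter G → ℤ, (∀ χ ∈ B, A χ ≠ 0 → sh (ι (zz k x)) χ = χ) →
      (∀ χ ∈ B, A' χ ≠ 0 → sh (ι (zz k x)) χ = χ) → ∑ χ ∈ bset B, v l χ * A χ = 0 →
      (∀ r ∈ R, ∑ χ ∈ bset B, v r χ * A χ = 0) →
      qf 2 B (pRegularPart 2 (cf B A)) (pRegularPart 2 (cf B A')) =
        2 ^ k * ((4 * ∑ χ ∈ bset B, A χ * A' χ -
        (if NF P e ι y then (∑ χ ∈ bset B, A χ * d₁ χ) * ∑ χ ∈ bset B, A' χ * d₁ χ else 0) -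
        (if NF P e ι (ι x * y) then (∑ χ ∈ bset B, A χ * d₂ χ) * ∑ χ ∈ bset B, A' χ * d₂ χ
          else 0) : ℤ) : ℂ) := by
    intro A A' hA hA' h1 h2
    rw [inner_formula h t hz (isClassFunction_cf A) (isClassFunction_cf A') (blockPart_cf A)
      (blockPart_cf A') (sh_cf hA) (sh_cf hA'), inner_cf]
    · push_cast
      congr 2
      · congr 1
        split_ifs with hy
        · simp only [dv_cf, (hd₁ hy).1, map_sum, map_mul, map_intCast]
        · rfl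
      · split_ifs with hy
        · simp only [dv_cf, (hd₂ hy).1, map_sum, map_mul, map_intCast]
        · rfl
    intro u hu
    refine (mul_eq_zero.mp ?_).resolve_right (hε u hu)
    have h3 : ∀ χ ∈ bset B, (A χ : ℂ) * η χ u = ((v l χ * A χ : ℤ) : ℂ) * l u +
        ∑ r ∈ R, ((v r χ * A χ : ℤ) : ℂ) * ((r u : ℂ) + r (u ^ a)) := by
      intro χ hχ
      by_cases h0 : A χ = 0
      · simp [h0]
      · rw [V.exp χ (hplus χ (hA χ (mem_bset.mp hχ) h0)) u hu, mul_add, mul_sum]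
        push_cast
        congr 1
        · ring
        · exact sum_congr rfl fun r _ => by ring
    rw [← E.val _ u hu, lin_cf, Finset.sum_apply]
    simp only [Pi.smul_apply, smul_eq_mul]
    rw [sum_congr rfl h3, sum_add_distrib, sum_comm, ← sum_mul, ← Int.cast_sum, h1,
      sum_eq_zero fun r hr => by rw [← sum_mul, ← Int.cast_sum, h2 r hr, Int.cast_zero, zero_mul]]
    simp
  have hzero : ∀ χ ∈ B, sh (ι (zz k x)) χ = χ → v l χ = 0 → (∀ r ∈ R, v r χ = 0) →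
      (NF P e ι y → d₁ χ = 0) → (NF P e ι (ι x * y) → d₂ χ = 0) → False := by
    intro χ hχ h1 h2 h3 h4 h5
    have ho' := (hw o ho).mpr ho0
    have hne : χ ≠ o := fun h6 => ho' (h6 ▸ h2)
    have h6 := hform (fun ψ => if ψ = χ then 1 else 0) (fun ψ => if ψ = o then 1 else 0)
      (fun ψ _ h0 => by rwa [of_not_not (mt (if_neg · ) h0)])
      (fun ψ _ h0 => by rw [of_not_not (mt (if_neg · ) h0)]; exact hminus o (Or.inl ho'))
      (by simp [h2]) (fun r hr => by simp [h3 r hr])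
    rw [cf_single hχ, cf_single ho] at h6
    refine qf_reg_ne_zero h hχ ho ho0 (h6.trans ?_)
    simp only [ite_mul, one_mul, zero_mul, sum_ite_eq', mem_bset, hχ, if_true, if_neg hne]
    split_ifs with k1 k2 k2 <;> simp [*]
  have hreg : ∀ g, ∑ χ ∈ bset B, v l χ * pRegularPart 2 (χ : G → ℂ) g = 0 ∧
      ∀ r ∈ R, ∑ χ ∈ bset B, v r χ * pRegularPart 2 (χ : G → ℂ) g = 0 := by
    intro g
    refine horth _ fun u hu => ?_
    by_cases hg : 2 ∣ orderOf g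
    · simp [reg_of_sing _ hg]
    · simp only [reg_of_reg _ hg]
      exact h.sum_reg_conj_dv (t.mem_ι u) (fun h1 => hu (by
        rw [t.inj (h1.trans (map_one ι).symm)]; exact one_mem _)) hg
  rcases shape (card_ne_two hcard) V.three V.two V.two' V.four (mem_bset.mpr ho)
    ((hodd o ho).mpr ho0) (hdd _ _ hd₁) (hdd _ _ hd₂) with
    ⟨a, b, e', f, c, S, s₁, s₂⟩ | ⟨n₁, n₂, π, o', X⟩
  swap
  · exfalso
    haveI := normal_of_cen hz
    have hZ := isPGroup_z t.z_mul_z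
    have hc := pQuot_cen hz
    have hπ : ∀ χ ∈ B, sh (ι (zz k x)) χ = χ ↔ π χ ≠ 0 := by
      intro χ hχ
      rw [Ne, X.zero χ (mem_bset.mpr hχ)]
      refine ⟨fun h1 h2 => hzero χ hχ h1 h2.1 h2.2 (absurd · n₁) (absurd · n₂), fun h1 => ?_⟩
      refine hminus χ ?_
      by_contra h2
      push Not at h2
      exact h1 h2
    refine H _ (quotSet (zpowers (ι (zz k x))) B) (H86.isPBlock_quotSet h.hM h.hB hZ hc) ?_ ?_ ?_
    · rw [blockRank_quotSet h.hM h.hB hZ hc]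
      refine blockRank_eq_one_of (mem_bset.mp X.mo) fun χ hχ => ?_
      refine lat_ind h.hM h.hB hz t.z_mul_z
        (Q := fun f => ∃ c : ℂ, f = c • pRegularPart 2 (o' : G → ℂ)) ⟨0, by simp⟩ ?_ ?_
        (reg_mem_lat hχ)
      · rintro _ _ ⟨c, rfl⟩ ⟨c', rfl⟩
        exact ⟨c + c', (add_smul _ _ _).symm⟩
      · intro j ψ hψ h1
        refine ⟨j * π ψ, funext fun g => ?_⟩
        rw [Pi.smul_apply, Pi.smul_apply, X.rel _ (hreg g).1 (hreg g).2 ψ (mem_bset.mpr hψ)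
          ((hπ ψ hψ).mp h1), smul_eq_mul, smul_eq_mul, mul_assoc]
    · rw [← X.supp, ← card_bset, ← card_image_of_injective _ infl_injective]
      congr 1
      ext χ
      simp only [mem_image, mem_filter, mem_bset, H86.mem_quotSet]
      constructor
      · rintro ⟨ψ, hψ, rfl⟩
        exact ⟨hψ, (hπ _ hψ).mp (sh_infl ψ)⟩
      · rintro ⟨h1, h2⟩
        obtain ⟨ψ, rfl⟩ := exists_infl_of_sh t.z_mul_z ((hπ χ h1).mpr h2)
        exact ⟨ψ, h1, rfl⟩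
    · have h1 := pow_defect_quotSet h.hM h.hB hZ hc
      rw [X.card] at hcard
      have h2 : k + 1 = 3 := Nat.pow_right_injective le_rfl hcard.symm
      rw [defect_eq h t, Nat.card_zpowers, orderOf_injective ι t.inj, t.orderOf_zz,
        ← pow_succ'] at h1
      have := Nat.pow_right_injective le_rfl h1
      omega
  have F4 := S.four
  have ma := mem_bset.mp F4.ma; have mb := mem_bset.mp F4.mb
  have me := mem_bset.mp F4.me; have mf := mem_bset.mp F4.mf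
  have sq1 : ∀ x : ℤ, x = 1 ∨ x = -1 → x * x = 1 := by rintro x (rfl | rfl) <;> simp
  have wa := sq1 _ F4.wa; have wb := sq1 _ F4.wb; have we := sq1 _ F4.we; have wf := sq1 _ F4.wf
  have wc := fun r hr => sq1 _ (S.row r hr).vc
  have hab := F4.ab; have hae := F4.ae; have haf := F4.af; have hbe := F4.be; have hbf := F4.bf
  have hef := F4.ef
  have wc0 : ∀ r ∈ R, v l (c r) = 0 := fun r hr =>
    F4.zero _ (S.row r hr).mc (S.row r hr).ca (S.row r hr).cb (S.row r hr).ce (S.row r hr).cf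
  have vc0 : ∀ r ∈ R, ∀ r' ∈ R, r' ≠ r → v r (c r') = 0 := fun r hr r' hr' hne =>
    (S.row r hr).zero _ (S.row r' hr').mc (S.row r' hr').ca (S.row r' hr').cb (S.row r' hr').ce
      (S.row r' hr').cf fun h1 => hne (S.inj _ hr' _ hr h1)
  have hcl : ∀ χ ∈ B, sh (ι (zz k x)) χ = χ →
      χ = a ∨ χ = b ∨ χ = e' ∨ χ = f ∨ ∃ r ∈ R, χ = c r := by
    intro χ hχ h1
    by_contra h2
    push Not at h2
    obtain ⟨k1, k2, k3, k4, k5⟩ := h2
    have hχ' := mem_bset.mpr hχ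
    exact hzero χ hχ h1 (F4.zero χ hχ' k1 k2 k3 k4)
      (fun r hr => (S.row r hr).zero χ hχ' k1 k2 k3 k4 (k5 r hr))
      (fun hy => (F4.of_odd (hdd _ _ hd₁ hy).1 (hdd _ _ hd₁ hy).2.1).zero χ hχ' k1 k2 k3 k4)
      (fun hy => (F4.of_odd (hdd _ _ hd₂ hy).1 (hdd _ _ hd₂ hy).2.1).zero χ hχ' k1 k2 k3 k4)
  -- the test vectors
  let A : ℤ → ℤ → ℤ → ℤ → ℤ → IrrCharacter G → ℤ := fun p q r s u χ =>
    (if χ = a then p * v l a else 0) + (if χ = b then q * v l b else 0) +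
    (if χ = e' then r * v l e' else 0) + (if χ = f then s * v l f else 0) +
    ∑ ρ ∈ R, if χ = c ρ then u * v ρ (c ρ) else 0
  have hA : ∀ {T : Type} [CommRing T] (p q r s u : ℤ) (g : IrrCharacter G → T),
      ∑ χ ∈ bset B, (A p q r s u χ : T) * g χ = p * (v l a * g a) + q * (v l b * g b) +
        r * (v l e' * g e') + s * (v l f * g f) + u * ∑ ρ ∈ R, v ρ (c ρ) * g (c ρ) := by
    intro T _ p q r s u g
    simp only [A, Int.cast_add, Int.cast_sum, Int.cast_ite, Int.cast_zero, Int.cast_mul, add_mul,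
      sum_add_distrib, ite_mul, zero_mul, sum_ite_eq', F4.ma, F4.mb, F4.me, F4.mf, if_true, sum_mul]
    rw [sum_comm, mul_sum]
    simp only [mul_assoc]
    congr 1
    exact sum_congr rfl fun ρ hρ => by rw [sum_ite_eq', if_pos (S.row ρ hρ).mc]
  have hAZ : ∀ (p q r s u : ℤ) (g : IrrCharacter G → ℤ),
      ∑ χ ∈ bset B, A p q r s u χ * g χ = p * (v l a * g a) + q * (v l b * g b) +
        r * (v l e' * g e') + s * (v l f * g f) + u * ∑ ρ ∈ R, v ρ (c ρ) * g (c ρ) :=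
    fun p q r s u g => by simpa only [Int.cast_id] using hA p q r s u g
  have hAs : ∀ p q r s u, ∀ χ ∈ B, A p q r s u χ ≠ 0 → sh (ι (zz k x)) χ = χ := by
    intro p q r s u χ hχ h0
    refine hminus χ ?_
    by_contra h1
    push Not at h1
    have h2 := mt (F4.ne_zero_iff (mem_bset.mpr hχ)).mpr (not_not.mpr h1.1)
    push Not at h2
    refine h0 ?_
    simp only [A, if_neg h2.1, if_neg h2.2.1, if_neg h2.2.2.1, if_neg h2.2.2.2, zero_add]
    refine sum_eq_zero fun ρ hρ => ?_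
    split_ifs with h3
    · rw [← h3, h1.2 ρ hρ, mul_zero]
    · rfl
  have hAw : ∀ p q r s u, ∑ χ ∈ bset B, v l χ * A p q r s u χ = p + q + r + s := by
    intro p q r s u
    simp only [mul_comm (v l _) (A p q r s u _)]
    rw [hAZ, wa, wb, we, wf, sum_eq_zero fun ρ hρ => by rw [wc0 ρ hρ, mul_zero]]
    ring
  have hAv : ∀ p q r s u, ∀ ρ ∈ R, ∑ χ ∈ bset B, v ρ χ * A p q r s u χ = p + q + u := by
    intro p q r s u ρ hρ
    simp only [mul_comm (v ρ _) (A p q r s u _)]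
    rw [hAZ, S.va ρ hρ, S.vb ρ hρ, S.ve ρ hρ, S.vf ρ hρ, wa, wb, sum_eq_single_of_mem ρ hρ
      fun ρ' hρ' hne => by rw [vc0 ρ hρ ρ' hρ' hne, mul_zero], wc ρ hρ]
    ring
  have hAA : ∀ p q r s u p' q' r' s', ∑ χ ∈ bset B, A p q r s u χ * A p' q' r' s' 0 χ =
      p * p' + q * q' + r * r' + s * s' := by
    intro p q r s u p' q' r' s'
    rw [hAZ, sum_eq_zero fun ρ hρ => by
      simp [A, (S.row ρ hρ).ca, (S.row ρ hρ).cb, (S.row ρ hρ).ce, (S.row ρ hρ).cf]]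
    simp only [A, if_true, if_neg hab, if_neg hae, if_neg haf, if_neg hbe, if_neg hbf, if_neg hef,
      if_neg hab.symm, if_neg hae.symm, if_neg haf.symm, if_neg hbe.symm, if_neg hbf.symm,
      if_neg hef.symm, zero_mul, ite_self, sum_const_zero, add_zero, zero_add]
    linear_combination p * p' * wa + q * q' * wb + r * r' * we + s * s' * wf
  have hAd : ∀ (y : G) (d : IrrCharacter G → ℤ), (NF P e ι y →
      ∑ i ∈ bset B, d i * d i = 4 ∧ (∀ i ∈ bset B, v l i ≠ 0 → Odd (d i)) ∧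
      ∑ i ∈ bset B, v l i * d i = 0 ∧ ∀ r ∈ R, ∑ i ∈ bset B, v r i * d i = 0) →
      (NF P e ι y → v l a * d a + v l b * d b = 0) → ∀ [Decidable (NF P e ι y)],
      ∃ j₁ j₂ : ℕ, j₁ + j₂ = (if NF P e ι y then 1 else 0) ∧
      (∀ p q r s u, (if NF P e ι y then (∑ χ ∈ bset B, A 1 1 (-1) (-1) (-2) χ * d χ) *
        ∑ χ ∈ bset B, A p q r s u χ * d χ else 0) = 0) ∧
      (if NF P e ι y then (∑ χ ∈ bset B, A 1 (-1) 1 (-1) 0 χ * d χ) *
        ∑ χ ∈ bset B, A 1 (-1) 1 (-1) 0 χ * d χ else 0) = 16 * j₁ ∧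
      (if NF P e ι y then (∑ χ ∈ bset B, A 1 (-1) (-1) 1 0 χ * d χ) *
        ∑ χ ∈ bset B, A 1 (-1) (-1) 1 0 χ * d χ else 0) = 16 * j₂ ∧
      (if NF P e ι y then (∑ χ ∈ bset B, A 1 (-1) 1 (-1) 0 χ * d χ) *
        ∑ χ ∈ bset B, A 1 (-1) (-1) 1 0 χ * d χ else 0) = 0 := by
    intro y d hd hs _
    by_cases hy : NF P e ι y
    swap
    · exact ⟨0, 0, by simp [hy]⟩
    obtain ⟨k1, k2, k3, -⟩ := hd hy
    have q := F4.of_odd k1 k2
    have k4 := F4.sum_mul (A := ℤ) d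
    simp only [Int.cast_id] at k4
    rw [k4] at k3
    obtain ⟨j₁, j₂, k5, k6, k7, k8⟩ :=
      dsplit F4.wa F4.wb F4.we F4.wf q.wa q.wb q.we q.wf (hs hy) k3
    have k9 : ∑ ρ ∈ R, v ρ (c ρ) * d (c ρ) = 0 := sum_eq_zero fun ρ hρ => by
      rw [q.zero _ (S.row ρ hρ).mc (S.row ρ hρ).ca (S.row ρ hρ).cb (S.row ρ hρ).ce (S.row ρ hρ).cf,
        mul_zero]
    simp only [if_pos hy, hAZ, k9]
    have k10 := hs hy
    refine ⟨j₁, j₂, k5, fun p q r s u => mul_eq_zero_of_left (by omega) _, ?_, ?_, ?_⟩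
    · linear_combination k6
    · linear_combination k7
    · linear_combination k8
  obtain ⟨j₁, j₂, hj, x₀, x₁, x₂, x₃⟩ := hAd y d₁ (hdd _ _ hd₁) s₁
  obtain ⟨j₁', j₂', hj', y₀, y₁, y₂, y₃⟩ := hAd _ d₂ (hdd _ _ hd₂) s₂
  -- the Brauer characters
  let α : G → ℂ := (v l a : ℂ) • pRegularPart 2 (a : G → ℂ)
  let β : G → ℂ := (v l b : ℂ) • pRegularPart 2 (b : G → ℂ)
  let γ : G → ℂ := (v l e' : ℂ) • pRegularPart 2 (e' : G → ℂ)
  let δ : G → ℂ := (v l f : ℂ) • pRegularPart 2 (f : G → ℂ)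
  have r₀ : δ = -α - β - γ := funext fun g => by
    have := (hreg g).1
    rw [F4.sum_mul] at this
    simp only [α, β, γ, δ, Pi.sub_apply, Pi.neg_apply, Pi.smul_apply, smul_eq_mul]
    linear_combination this
  have r₁ : ∀ ρ ∈ R, (v ρ (c ρ) : ℂ) • pRegularPart 2 (c ρ : G → ℂ) = -α - β :=
    fun ρ hρ => funext fun g => by
      have := (hreg g).2 ρ hρ
      rw [(S.row ρ hρ).sum_mul F4, S.va ρ hρ, S.vb ρ hρ, S.ve ρ hρ, S.vf ρ hρ] at this
      simp only [α, β, Pi.sub_apply, Pi.neg_apply, Pi.smul_apply, smul_eq_mul]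
      push_cast at this
      linear_combination this
  have hRc : (R.card : ℂ) = 2 ^ k - 1 := by
    have : ((2 * R.card + 2 : ℕ) : ℂ) = (2 ^ (k + 1) : ℕ) := by rw [hcard]
    push_cast at this
    linear_combination this / 2
  have hcf : ∀ p q r s u : ℤ, pRegularPart 2 (cf B (A p q r s u)) = (p : ℂ) • α + (q : ℂ) • β +
      (r : ℂ) • γ + (s : ℂ) • δ + ((u : ℂ) * (2 ^ k - 1)) • (-α - β) := by
    intro p q r s u
    funext g
    rw [reg_cf_apply, hA, sum_congr rfl fun ρ hρ => show (v ρ (c ρ) : ℂ) *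
      pRegularPart 2 (c ρ : G → ℂ) g = (-α - β) g from congrFun (r₁ ρ hρ) g, sum_const,
      nsmul_eq_mul, hRc]
    simp only [α, β, γ, δ, Pi.add_apply, Pi.smul_apply, smul_eq_mul]
    ring
  let σ : G → ℂ := (-1 / 2 : ℂ) • (α + β)
  let τ₁ : G → ℂ := (-1 / 2 : ℂ) • (α + γ)
  let τ₂ : G → ℂ := (1 / 2 : ℂ) • (β + γ)
  have e₀ : pRegularPart 2 (cf B (A 1 1 (-1) (-1) (-2))) = (-2 ^ (k + 2) : ℂ) • σ := by
    rw [hcf, r₀]; simp only [σ]; push_cast; module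
  have e₀' : pRegularPart 2 (cf B (A 1 1 0 0 0)) = (-2 : ℂ) • σ := by
    rw [hcf]; simp only [σ]; push_cast; module
  have e₁ : pRegularPart 2 (cf B (A 1 (-1) 1 (-1) 0)) = (-4 : ℂ) • τ₁ := by
    rw [hcf, r₀]; simp only [τ₁]; push_cast; module
  have e₂ : pRegularPart 2 (cf B (A 1 (-1) (-1) 1 0)) = (-4 : ℂ) • τ₂ := by
    rw [hcf, r₀]; simp only [τ₂]; push_cast; module
  have hq : ∀ (c c' : ℂ) (f f' : G → ℂ), qf 2 B (c • f) (c' • f') = c * conj c' * qf 2 B f f' := by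
    intro c c' f f'
    simp only [map_smul, map_smulₛₗ, LinearMap.smul_apply, smul_eq_mul]
    ring
  have h2k : (2 : ℂ) ^ k ≠ 0 := pow_ne_zero _ two_ne_zero
  have f₀ := fun p q r s => hform _ _ (hAs 1 1 (-1) (-1) (-2)) (hAs p q r s 0) (hAw _ _ _ _ _)
    (hAv _ _ _ _ _)
  have f₁ := fun p q r s => hform _ _ (hAs 1 (-1) 1 (-1) 0) (hAs p q r s 0) (hAw _ _ _ _ _)
    (hAv _ _ _ _ _)
  have f₂ := hform _ _ (hAs 1 (-1) (-1) 1 0) (hAs 1 (-1) (-1) 1 0) (hAw _ _ _ _ _)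
    (hAv _ _ _ _ _)
  have q₀₀ : qf 2 B σ σ = 1 := by
    have := f₀ 1 1 0 0
    rw [e₀, e₀', hq, hAA, x₀, y₀] at this
    simp only [map_neg, map_ofNat] at this
    push_cast at this
    exact mul_left_cancel₀ h2k (by linear_combination this / 8)
  have q₀₁ : qf 2 B σ τ₁ = 0 := by
    have := f₀ 1 (-1) 1 (-1)
    rw [e₀, e₁, hq, hAA, x₀, y₀] at this
    simp only [map_neg, map_ofNat] at this
    push_cast at this
    exact mul_left_cancel₀ h2k (by linear_combination this / 16)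
  have q₀₂ : qf 2 B σ τ₂ = 0 := by
    have := f₀ 1 (-1) (-1) 1
    rw [e₀, e₂, hq, hAA, x₀, y₀] at this
    simp only [map_neg, map_ofNat] at this
    push_cast at this
    exact mul_left_cancel₀ h2k (by linear_combination this / 16)
  have q₁₂ : qf 2 B τ₁ τ₂ = 0 := by
    have := f₁ 1 (-1) (-1) 1
    rw [e₁, e₂, hq, hAA, x₃, y₃] at this
    simp only [map_neg, map_ofNat] at this
    push_cast at this
    linear_combination this / 16
  have q₁₁ : qf 2 B τ₁ τ₁ = 2 ^ k * (1 - j₁ - j₁') := by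
    have := f₁ 1 (-1) 1 (-1)
    rw [e₁, hq, hAA, x₁, y₁] at this
    simp only [map_neg, map_ofNat] at this
    push_cast at this
    linear_combination this / 16
  have q₂₂ : qf 2 B τ₂ τ₂ = 2 ^ k * (1 - j₂ - j₂') := by
    have := f₂
    rw [e₂, hq, hAA, x₂, y₂] at this
    simp only [map_neg, map_ofNat] at this
    push_cast at this
    linear_combination this / 16
  have hle : ∀ (τ : G → ℂ) (j j' : ℕ), qf 2 B τ τ = 2 ^ k * (1 - j - j') →
      ∃ i : ℕ, i + j + j' = 1 ∧ qf 2 B τ τ = 2 ^ k * i := by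
    intro τ j j' h1
    have h2 := qf_self_re_nonneg (p := 2) (b := B) τ
    have h3 : (2 : ℂ) ^ k * (1 - j - j') = ((2 ^ k * (1 - j - j') : ℝ) : ℂ) := by push_cast; rfl
    rw [h1, h3, Complex.ofReal_re, mul_nonneg_iff_of_pos_left (by positivity)] at h2
    have h4 : j + j' ≤ 1 := by
      have : ((j + j' : ℕ) : ℝ) ≤ (1 : ℕ) := by push_cast; linarith
      exact_mod_cast this
    refine ⟨1 - (j + j'), by omega, ?_⟩
    rw [h1, Nat.cast_sub h4]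
    push_cast
    ring
  obtain ⟨i₁, hi₁, q₁₁⟩ := hle _ _ _ q₁₁
  obtain ⟨i₂, hi₂, q₂₂⟩ := hle _ _ _ q₂₂
  have mα : α ∈ regSpan 2 B := Submodule.smul_mem _ _ (reg_mem_regSpan ma)
  have mβ : β ∈ regSpan 2 B := Submodule.smul_mem _ _ (reg_mem_regSpan mb)
  have mγ : γ ∈ regSpan 2 B := Submodule.smul_mem _ _ (reg_mem_regSpan me)
  have hone : ∀ χ : IrrCharacter G, sh (ι (zz k x)) χ = χ → η (pRegularPart 2 (χ : G → ℂ)) 1 =
      2 ^ (k + 1) * n χ + v l χ + 2 * ∑ r ∈ R, (v r χ : ℂ) := fun χ hχ => by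
    rw [E.reg, V.exp_one χ (hplus χ hχ), t.index_zz]
    push_cast
    rfl
  have hs : ∀ (w : ℤ) (φ ψ : G → ℂ), w * w = 1 → (w : ℂ) • φ = ψ → φ = (w : ℂ) • ψ := by
    rintro w φ _ h1 rfl
    rw [smul_smul, ← Int.cast_mul, h1, Int.cast_one, one_smul]
  have pa : sh (ι (zz k x)) a = a := hminus _ (Or.inl ((F4.ne_zero_iff F4.ma).mpr (by simp)))
  have pb : sh (ι (zz k x)) b = b := hminus _ (Or.inl ((F4.ne_zero_iff F4.mb).mpr (by simp)))
  have pe : sh (ι (zz k x)) e' = e' := hminus _ (Or.inl ((F4.ne_zero_iff F4.me).mpr (by simp)))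
  have pf : sh (ι (zz k x)) f = f := hminus _ (Or.inl ((F4.ne_zero_iff F4.mf).mpr (by simp)))
  have pc : ∀ ρ ∈ R, sh (ι (zz k x)) (c ρ) = c ρ := fun ρ hρ =>
    hminus _ (Or.inr ⟨ρ, hρ, left_ne_zero_of_mul_eq_one (wc ρ hρ)⟩)
  have da : pRegularPart 2 (a : G → ℂ) = ((-v l a : ℤ) : ℂ) • σ + ((-v l a : ℤ) : ℂ) • τ₁ +
      ((-v l a : ℤ) : ℂ) • τ₂ := by
    rw [hs _ _ α wa rfl]; simp only [σ, τ₁, τ₂]; push_cast; module
  have db : pRegularPart 2 (b : G → ℂ) = ((-v l b : ℤ) : ℂ) • σ + ((v l b : ℤ) : ℂ) • τ₁ +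
      ((v l b : ℤ) : ℂ) • τ₂ := by
    rw [hs _ _ β wb rfl]; simp only [σ, τ₁, τ₂]; push_cast; module
  have de : pRegularPart 2 (e' : G → ℂ) = ((v l e' : ℤ) : ℂ) • σ + ((-v l e' : ℤ) : ℂ) • τ₁ +
      ((v l e' : ℤ) : ℂ) • τ₂ := by
    rw [hs _ _ γ we rfl]; simp only [σ, τ₁, τ₂]; push_cast; module
  have df : pRegularPart 2 (f : G → ℂ) = ((v l f : ℤ) : ℂ) • σ + ((v l f : ℤ) : ℂ) • τ₁ +
      ((-v l f : ℤ) : ℂ) • τ₂ := by
    rw [hs _ _ δ wf rfl, r₀]; simp only [σ, τ₁, τ₂]; push_cast; module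
  have dc : ∀ ρ ∈ R, pRegularPart 2 (c ρ : G → ℂ) = ((2 * v ρ (c ρ) : ℤ) : ℂ) • σ +
      ((0 : ℤ) : ℂ) • τ₁ + ((0 : ℤ) : ℂ) • τ₂ := fun ρ hρ => by
    rw [hs _ _ _ (wc ρ hρ) (r₁ ρ hρ)]; simp only [σ]; push_cast; module
  have hsum : σ + τ₁ + τ₂ = ((-v l a : ℤ) : ℂ) • pRegularPart 2 (a : G → ℂ) := by
    simp only [σ, τ₁, τ₂, α]; push_cast; module
  refine ⟨σ, τ₁, τ₂, i₁, i₂, ⟨Submodule.smul_mem _ _ (add_mem mα mβ),
    Submodule.smul_mem _ _ (add_mem mα mγ), Submodule.smul_mem _ _ (add_mem mβ mγ), q₀₀, q₁₁, q₂₂,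
    q₀₁, q₀₂, q₁₂, by omega, by omega, fun φ hφ => ?_,
    hsum ▸ intCast_smul_mem_lat _ (reg_mem_lat ma), ?_, ?_⟩, by omega⟩
  · refine lat_ind h.hM h.hB hz t.z_mul_z (Q := fun φ => ∃ s t₁ t₂ r : ℤ,
      φ = (s : ℂ) • σ + (t₁ : ℂ) • τ₁ + (t₂ : ℂ) • τ₂ ∧ Even (s - t₁) ∧ Even (s - t₂) ∧
        η φ 1 + 2 ^ (k + 1) * r = s) ⟨0, 0, 0, 0, by simp⟩ ?_ ?_ hφ
    · rintro φ φ' ⟨s, t₁, t₂, r, k1, k2, k3, k4⟩ ⟨s', t₁', t₂', r', k5, k6, k7, k8⟩
      refine ⟨s + s', t₁ + t₁', t₂ + t₂', r + r', by rw [k1, k5]; push_cast; module,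
        by rw [add_sub_add_comm]; exact k2.add k6, by rw [add_sub_add_comm]; exact k3.add k7, ?_⟩
      rw [map_add, Pi.add_apply]
      push_cast
      linear_combination k4 + k8
    · intro j χ hχ h1
      suffices h2 : ∃ s t₁ t₂ r : ℤ, pRegularPart 2 (χ : G → ℂ) =
          (s : ℂ) • σ + (t₁ : ℂ) • τ₁ + (t₂ : ℂ) • τ₂ ∧ Even (s - t₁) ∧ Even (s - t₂) ∧
          η (pRegularPart 2 (χ : G → ℂ)) 1 + 2 ^ (k + 1) * r = s by
        obtain ⟨s, t₁, t₂, r, k1, k2, k3, k4⟩ := h2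
        refine ⟨j * s, j * t₁, j * t₂, j * r, by rw [k1]; push_cast; module,
          by rw [← mul_sub]; exact k2.mul_left j, by rw [← mul_sub]; exact k3.mul_left j, ?_⟩
        rw [map_smul, Pi.smul_apply, smul_eq_mul]
        push_cast
        linear_combination j * k4
      rw [hone χ h1]
      rcases hcl χ hχ h1 with rfl | rfl | rfl | rfl | ⟨ρ, hρ, rfl⟩
      · refine ⟨_, _, _, -n χ - v l χ, da, by simp, by simp, ?_⟩
        rw [sum_congr rfl fun r hr => by rw [S.va r hr], sum_const, nsmul_eq_mul, hRc]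
        push_cast
        ring
      · refine ⟨_, _, _, -n χ - v l χ, db, ⟨-v l χ, by ring⟩, ⟨-v l χ, by ring⟩, ?_⟩
        rw [sum_congr rfl fun r hr => by rw [S.vb r hr], sum_const, nsmul_eq_mul, hRc]
        push_cast
        ring
      · refine ⟨_, _, _, -n χ, de, ⟨v l χ, by ring⟩, by simp, ?_⟩
        rw [sum_eq_zero fun r hr => by rw [S.ve r hr, Int.cast_zero]]
        push_cast
        ring
      · refine ⟨_, _, _, -n χ, df, by simp, ⟨v l χ, by ring⟩, ?_⟩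
        rw [sum_eq_zero fun r hr => by rw [S.vf r hr, Int.cast_zero]]
        push_cast
        ring
      · refine ⟨_, _, _, -n (c ρ), dc ρ hρ, by simp, by simp, ?_⟩
        rw [sum_eq_single_of_mem ρ hρ fun r hr hne => by
          rw [vc0 r hr ρ hρ hne.symm, Int.cast_zero], wc0 ρ hρ]
        push_cast
        ring
  · rw [hsum, map_smul, smul_eq_mul, red_mul (intCast_mem _ _) (ndeg_mem_O (reg_mem_lat ma)),
      ndeg_reg]
    have h1 := (hw a ma).mp ((F4.ne_zero_iff F4.ma).mpr (by simp))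
    exact mul_ne_zero ((red_int_ne_zero h.hM _).mpr ((hodd a ma).mpr h1).neg)
      ((red_ndeg_irr_ne_zero_iff h.hM ma).mpr h1)
  · have h1 := sum_qf_plus h.hM h.hB hz t.z_mul_z t.z_ne_one
    have h2 : (bset B).filter (fun χ : IrrCharacter G => sh (ι (zz k x)) χ = χ) =
        insert a (insert b (insert e' (insert f (R.image c)))) := by
      ext χ
      simp only [mem_filter, mem_bset, mem_insert, mem_image]
      constructor
      · rintro ⟨k1, k2⟩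
        simpa only [eq_comm] using hcl χ k1 k2
      · rintro (rfl | rfl | rfl | rfl | ⟨ρ, hρ, rfl⟩)
        exacts [⟨ma, pa⟩, ⟨mb, pb⟩, ⟨me, pe⟩, ⟨mf, pf⟩, ⟨mem_bset.mp (S.row ρ hρ).mc, pc ρ hρ⟩]
    have h3 : ∀ χ, (∀ ρ ∈ R, c ρ ≠ χ) → χ ∉ R.image c := fun χ h3 h4 => by
      obtain ⟨ρ, hρ, h5⟩ := mem_image.mp h4
      exact h3 ρ hρ h5
    have n₁ := h3 a fun ρ hρ => (S.row ρ hρ).ca
    have n₂ := h3 b fun ρ hρ => (S.row ρ hρ).cb
    have n₃ := h3 e' fun ρ hρ => (S.row ρ hρ).ce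
    have n₄ := h3 f fun ρ hρ => (S.row ρ hρ).cf
    have hqc := qf_comb q₀₀ q₁₁ q₂₂ q₀₁ q₀₂ q₁₂
    rw [h2, sum_insert (by simp only [mem_insert, not_or]; exact ⟨hab, hae, haf, n₁⟩),
      sum_insert (by simp only [mem_insert, not_or]; exact ⟨hbe, hbf, n₂⟩),
      sum_insert (by simp only [mem_insert, not_or]; exact ⟨hef, n₃⟩), sum_insert n₄,
      sum_image S.inj, sum_congr rfl fun ρ hρ => show qf 2 B (pRegularPart 2 (c ρ : G → ℂ))
        (pRegularPart 2 (c ρ : G → ℂ)) = 4 by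
        have : (v ρ (c ρ) : ℂ) * v ρ (c ρ) = 1 := by exact_mod_cast wc ρ hρ
        rw [dc ρ hρ, hqc]
        push_cast
        linear_combination 4 * this, sum_const, nsmul_eq_mul, hRc, da, db, de, df, hqc, hqc, hqc,
      hqc, defect_eq h t] at h1
    have ca : (v l a : ℂ) * v l a = 1 := by exact_mod_cast wa
    have cb : (v l b : ℂ) * v l b = 1 := by exact_mod_cast wb
    have ce : (v l e' : ℂ) * v l e' = 1 := by exact_mod_cast we
    have cf' : (v l f : ℂ) * v l f = 1 := by exact_mod_cast wf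
    push_cast at h1
    have h4 : (blockRank 2 B : ℂ) = (1 + i₁ + i₂ : ℕ) := by
      push_cast
      refine mul_left_cancel₀ h2k ?_
      linear_combination (-1 / 8 : ℂ) * h1 +
        (1 / 4 : ℂ) * (1 + 2 ^ k * i₁ + 2 ^ k * i₂) * (ca + cb + ce + cf')
    exact_mod_cast h4

end H33.Tame
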