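import Mathlib
import Cfsg.Agent.Lib.Tame.Cent

/-! The numbers of characters in blocks with tame defect groups. -/

set_option autoImplicit false
set_option linter.unusedSectionVars false
set_option linter.style.haveILetI false
attribute [local irreducible] H33.instFieldF

namespace H33.Tame

open Cfsg H84 H35 H85 Finset
open H86 (Cen Nor emb cj cs trI eS)
open Subgroup (zpowers)
open scoped ComplexConjugate SubFin

universe u

variable {G : Type u} [Group G] [Fintype G] {M : Ideal AlgInt} [M.IsMaximal]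
  {B : Set (IrrCharacter G)} {P : Subgroup G} {e : MonoidAlgebra (F M) G}
  {D : Type*} [CommGroup D] [Fintype D] {k : ℕ} {x : D} {a : ℤ} {ι : D →* G} {y z : G}

theorem isGen_sh (hc : Cen (zpowers z) = ⊤) (h2 : z * z = 1) {θ : G → ℂ}
    (hθ : IsGeneralizedCharacter G θ) : IsGeneralizedCharacter G (sh z θ) := by
  obtain ⟨n, rfl⟩ := H6.gen_eq_sum_irr hθ
  rw [sh_sum]
  refine H6.isGen_sum _ fun χ _ => H6.isGen_intCast_smul _ ?_
  rcases sh_irr hc h2 χ with h | h <;> rw [h]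
  exacts [irr_gen χ, H6.isGen_neg (irr_gen χ)]

theorem dv_blockPart {p : ℕ} [Fact p.Prime] (h : MP p M B P e) {v : G} (hv : v ∈ P) {θ : G → ℂ}
    (hθ : IsClassFunction G θ) : dv p M P e (blockPart B θ) v = dv p M P e θ v := by
  rw [dv, dv, sub_blockPart h.hM (h.isPElt hv) (isCen_zpowers v) (h.induced_z hv) hθ]

theorem sum_qf_dv {p : ℕ} [Fact p.Prime] (h : MP p M B P e) {u v : G} (hu : u ∈ P) (hv : v ∈ P)
    (huv : ¬ Fus p P e u v) {φ : Cen (zpowers u) → ℂ} (hφ : φ ∈ regSpan p (loc p M P e (zpowers u))) :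
    ∑ χ ∈ bset B, qf p (loc p M P e (zpowers u)) (sub p u _ (loc p M P e (zpowers u)) χ) φ *
      conj (dv p M P e χ v) = 0 := by
  have h1 := h.inner_unsec_eq_zero hv hu (fun hf => huv hf.symm) (brc_mem_regSpan _) hφ
  have h2 := h.blockPart_Phi hv
  rw [Phi] at h2
  rw [← h2, inner_blockPart_left] at h1
  have h3 : ∀ χ : IrrCharacter G,
      qf p (loc p M P e (zpowers u)) (sub p u _ (loc p M P e (zpowers u)) χ) φ *
      conj (dv p M P e χ v) = (p : ℂ) ^ blockDefect p (loc p M P e (zpowers u)) *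
        (p : ℂ) ^ blockDefect p (loc p M P e (zpowers v)) *
        (classInner (unsec p v _ (brc p (loc p M P e (zpowers v)))) χ *
          conj (classInner (unsec p u _ φ) χ)) := by
    intro χ
    rw [h.conj_dv hv (irr_class χ), inner_unsec_of_mem h.hM (isCen_zpowers u)
      (h.blk (Subgroup.zpowers_le.mpr hu)) hφ (irr_class χ), H6.conj_classInner, qf_apply, Phi]
    ring
  simp only [h3, ← mul_sum, h1, mul_zero]

theorem qf_sub_lt {p : ℕ} [Fact p.Prime] (h : MP p M B P e) {u : G} (hu : u ∈ P) (h1 : u ≠ 1)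
    {χ : IrrCharacter G} (hχ : χ ∈ B) :
    (classInner (sub p u _ (loc p M P e (zpowers u)) χ)
      (sub p u _ (loc p M P e (zpowers u)) χ)).re < 1 := by
  letI := Classical.decEq G
  obtain ⟨Y, hY⟩ := h.exists_reps
  obtain ⟨v, hv, hf⟩ := hY.ex u hu
  obtain ⟨w, hw, hf'⟩ := hY.ex 1 (one_mem P)
  obtain rfl : w = 1 := eq_of_fus_cen Cen_one hf'.symm
  have h2 : v ≠ 1 := fun h2 => h1 (eq_of_fus_cen Cen_one (h2 ▸ hf))
  have h3 := congrArg Complex.re (h.inner_eq_sum hY hχ (irr_class χ))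
  have hp : (0 : ℝ) < (p : ℝ) := Nat.cast_pos.mpr (Fact.out : p.Prime).pos
  have h4 : ∀ {K : Type u} [Group K] [Fintype K] (b : Set (IrrCharacter K)) (f : K → ℂ),
      (qf p b f f).re = p ^ blockDefect p b * (classInner f f).re := fun b f => by
    rw [qf_apply, ← Nat.cast_pow, ← Nat.cast_pow, ← Complex.ofReal_natCast, Complex.re_ofReal_mul]
  have h5 : ∀ {K : Type u} [Group K] [Fintype K] (f : K → ℂ), 0 ≤ (classInner f f).re := fun f => by
    have := qf_self_re_nonneg (p := p) (b := ∅) f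
    rwa [h4, mul_nonneg_iff_of_pos_left (by positivity)] at this
  rw [H6.irr_inner_self χ.2, Complex.re_sum, ← add_sum_erase _ _ hw,
    ← add_sum_erase _ _ (mem_erase.mpr ⟨h2, hv⟩), inner_sub_cen h (one_mem P) Cen_one, sh_one,
    blockPart_irr_of_mem hχ, h.inner_sub_fus hf (irr_class χ) (irr_class χ), Complex.one_re] at h3
  have h6 := qf_self_re_pos (p := p) (b := B) (f := pRegularPart p (χ : G → ℂ)) fun h6 =>
    irr_one_ne_zero χ (by rw [← reg_one (p := p) (χ : G → ℂ), h6]; rfl)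
  rw [h4, mul_pos_iff_of_pos_left (by positivity)] at h6
  have h7 := sum_nonneg (s := (Y.erase 1).erase v) fun y _ =>
    h5 (sub p y _ (loc p M P e (zpowers y)) χ)
  linarith

theorem height_eq_of_red (hM : IsPModular 2 M) {Q o : ℤ} {n j : ℕ}
    (h : red M ((Q : ℂ) / ((2 : ℕ) : ℂ) ^ n) ≠ 0) (ho : Odd o) (hQ : Q = 2 ^ j * o) : n = j := by
  have h1 : (Q : ℂ) / ((2 : ℕ) : ℂ) ^ n = ((2 : ℕ) : ℂ) ^ ((j : ℤ) - n) * o := by
    rw [hQ, zpow_sub₀ (by norm_num), zpow_natCast, zpow_natCast]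
    push_cast
    ring
  rw [h1, red_zpow_mul_unit_ne_zero_iff hM _ ((red_int_ne_zero hM o).mpr ho)] at h
  omega

section down

variable {c : Set (IrrCharacter (Cen (zpowers (ι (zz k x)))))}
  {e' : MonoidAlgebra (F M) (Cen (zpowers (ι (zz k x))))}

theorem nf_of_sq (t : Tm k P ι x a y) (hz : Cen (zpowers (ι (zz k x))) = ⊤) (h2 : y ^ 2 = 1) :
    NF P e ι y := by
  intro u hf
  obtain ⟨g, hg⟩ := isConj_iff.mp hf.isConj
  have h3 : u ^ 2 = 1 := t.inj (by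
    rw [← hg, conj_pow, mul_inv_eq_one, mul_eq_left] at h2
    rw [map_pow, h2, map_one])
  rcases t.sq_eq_one_iff.mp h3 with rfl | rfl
  · exact t.ny 1 (by simpa using hg.symm)
  · exact t.ny _ (eq_of_fus_cen hz hf)

theorem nf_iff (t : Tm k P ι x a y) (hd : Down 2 M B P e _ c e') (h2 : y ^ 2 = ι (zz k x)) :
    NF (P.subgroupOf _) e' (ι.codRestrict _ fun u => hd.le (t.mem_ι u)) ⟨y, hd.le t.mem_y⟩ ↔
      NF P e ι y := by
  have hy : Cen (zpowers y) ≤ Cen (zpowers (ι (zz k x))) := H86.Cen_anti (by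
    rw [← h2, Subgroup.zpowers_le]; exact Subgroup.pow_mem _ (Subgroup.mem_zpowers y) 2)
  have h1 : ∀ u, IsConj (ι u) y → u ≠ 1 := by
    rintro u hu rfl
    exact t.ny 1 (by simpa [eq_comm] using hu)
  refine forall_congr' fun u => not_congr ⟨fun hf => ?_, fun hf => ?_⟩
  · exact hd.fus_up (H86.Cen_anti (t.z_le (h1 u ((Subgroup.subtype _).map_isConj hf.isConj)))) hy hf
  · refine hd.fus_down (H86.Cen_anti (t.z_le (h1 u hf.isConj))) hy hf fun g hg => ?_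
    change y = g * ι u * g⁻¹ at hg
    have h3 : ι (zz k x) = g * ι (u ^ 2) * g⁻¹ := by rw [← h2, hg, conj_pow, map_pow]
    have h4 : (u ^ 2) ^ 2 = 1 := t.inj (by
      have := t.z_mul_z
      rw [h3, ← sq, conj_pow, mul_inv_eq_one, mul_eq_left] at this
      rw [map_pow, this, map_one])
    rcases t.sq_eq_one_iff.mp h4 with h5 | h5
    · rw [h5, map_one, mul_one, mul_inv_cancel] at h3
      exact absurd h3 t.z_ne_one
    · rw [h5] at h3
      exact H86.mem_Cen_zpowers.mpr (eq_mul_inv_iff_mul_eq.mp h3)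

end down

theorem card_le_one_of_eight {I : Type*} [DecidableEq I] {s : Finset I} {w t : I → ℤ}
    {a b e f : I} (h : Four s w a b e f) (h8 : ∑ i ∈ s, t i * t i = 8)
    (ho : ∀ i ∈ s, w i ≠ 0 → Odd (t i)) (he : ∀ i ∈ s, w i = 0 → Even (t i)) :
    ((s \ {a, b, e, f}).filter (t · ≠ 0)).card ≤ 1 := by
  have key : ∀ x : ℤ, Odd x → 1 ≤ x * x := fun x ⟨t, ht⟩ => by
    have : x ≠ 0 := by omega
    have := mul_self_pos.mpr this
    omega
  have := key _ (ho a h.ma ((h.ne_zero_iff h.ma).mpr (by simp)))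
  have := key _ (ho b h.mb ((h.ne_zero_iff h.mb).mpr (by simp)))
  have := key _ (ho e h.me ((h.ne_zero_iff h.me).mpr (by simp)))
  have := key _ (ho f h.mf ((h.ne_zero_iff h.mf).mpr (by simp)))
  rw [h.sum_split] at h8
  have h1 : ∑ i ∈ (s \ {a, b, e, f}).filter (t · ≠ 0), t i * t i ≤
      ∑ i ∈ s \ {a, b, e, f}, t i * t i :=
    sum_le_sum_of_subset_of_nonneg (filter_subset _ _) fun i _ _ => mul_self_nonneg _
  have h2 := card_nsmul_le_sum ((s \ {a, b, e, f}).filter (t · ≠ 0)) (fun i => t i * t i) 4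
    fun i hi => by
      simp only [mem_filter, mem_sdiff, mem_insert, mem_singleton, not_or] at hi
      obtain ⟨j, hj⟩ := he i hi.1.1 (h.zero i hi.1.1 hi.1.2.1 hi.1.2.2.1 hi.1.2.2.2.1 hi.1.2.2.2.2)
      have h3 : j ≠ 0 := by have := hi.2; omega
      have := mul_self_pos.mpr h3
      rw [hj]
      nlinarith
  rw [nsmul_eq_mul] at h2
  omega

theorem extra_aux {k i₁ i₂ : ℕ} {t₁ t₂ : ℤ} (h₁ : i₁ ≤ 1) (h₂ : i₂ ≤ 1) (e₁ : Even t₁)
    (e₂ : Even t₂) (hlt : 2 ^ k * i₁ * (t₁ * t₁) + 2 ^ k * i₂ * (t₂ * t₂) < 2 ^ (k + 3))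
    (h0 : (i₁ = 1 ∧ t₁ ≠ 0) ∨ (i₂ = 1 ∧ t₂ ≠ 0)) :
    ∃ o : ℤ, Odd o ∧ 2 ^ k * i₁ * t₁ + 2 ^ k * i₂ * t₂ = 2 ^ (k + 1) * o := by
  obtain ⟨j₁, rfl⟩ := e₁
  obtain ⟨j₂, rfl⟩ := e₂
  have h3 : (i₁ : ℤ) * (j₁ * j₁) + i₂ * (j₂ * j₂) < 2 := by
    have : (2 : ℤ) ^ k * 4 * (i₁ * (j₁ * j₁) + i₂ * (j₂ * j₂)) < 2 ^ k * 4 * 2 := by
      rw [pow_add] at hlt; linarith
    exact lt_of_mul_lt_mul_left this (by positivity)
  refine ⟨i₁ * j₁ + i₂ * j₂, ?_, by ring⟩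
  have k1 := mul_self_nonneg j₁
  have k2 := mul_self_nonneg j₂
  have key : ∀ j : ℤ, j * j < 2 → j = 0 ∨ j = 1 ∨ j = -1 := fun j hj => by
    have : j ≤ 1 := by nlinarith
    have : -1 ≤ j := by nlinarith
    omega
  rw [Int.odd_iff]
  interval_cases i₁ <;> interval_cases i₂ <;> push_cast at h3 ⊢
  · omega
  · rcases key j₂ (by linarith) with rfl | rfl | rfl <;> omega
  · rcases key j₁ (by linarith) with rfl | rfl | rfl <;> omega
  · rcases key j₁ (by linarith) with rfl | rfl | rfl <;>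
      rcases key j₂ (by linarith) with rfl | rfl | rfl <;> omega

theorem one_aux {k i₁ i₂ : ℕ} {s t₁ t₂ : ℤ} (hs : s = 2 ∨ s = -2) (e₁ : Even t₁)
    (e₂ : Even t₂) (hlt : s * s + 2 ^ k * i₁ * (t₁ * t₁) + 2 ^ k * i₂ * (t₂ * t₂) < 2 ^ (k + 3)) :
    ∃ o : ℤ, Odd o ∧ s + 2 ^ k * i₁ * t₁ + 2 ^ k * i₂ * t₂ = 2 ^ 1 * o := by
  obtain ⟨j₁, rfl⟩ := e₁
  obtain ⟨j₂, rfl⟩ := e₂
  refine ⟨s / 2 + 2 ^ k * (i₁ * j₁ + i₂ * j₂), ?_, by rcases hs with rfl | rfl <;> ring⟩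
  have h1 : Odd (s / 2) := by rcases hs with rfl | rfl <;> decide
  refine h1.add_even ?_
  rcases k with _ | k
  · have h2 : s * s = 4 := by rcases hs with rfl | rfl <;> rfl
    have k1 : 0 ≤ (i₁ : ℤ) * (j₁ * j₁) := mul_nonneg (Int.natCast_nonneg _) (mul_self_nonneg _)
    have k2 : 0 ≤ (i₂ : ℤ) * (j₂ * j₂) := mul_nonneg (Int.natCast_nonneg _) (mul_self_nonneg _)
    rw [pow_zero, zero_add, show (2 : ℤ) ^ 3 = 8 by norm_num] at hlt
    have h3 : (i₁ : ℤ) * (j₁ * j₁) = 0 := by linarith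
    have h4 : (i₂ : ℤ) * (j₂ * j₂) = 0 := by linarith
    have key : ∀ (i j : ℤ), i * (j * j) = 0 → i * j = 0 := fun i j h => by
      rcases mul_eq_zero.mp h with h | h
      · rw [h, zero_mul]
      · rw [mul_self_eq_zero.mp h, mul_zero]
    rw [key _ _ h3, key _ _ h4]
    simp
  · exact ⟨2 ^ k * (i₁ * j₁ + i₂ * j₂), by ring⟩

/-- The columns of generalized decomposition numbers at the elements of the cyclic subgroup. -/
structure Sys (M : Ideal AlgInt) [M.IsMaximal] (B : Set (IrrCharacter G)) (P : Subgroup G)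
    (e : MonoidAlgebra (F M) G) (k : ℕ) (ι : D →* G) (x : D) (a : ℤ) [DecidableEq D]
    (E : IrrCharacter G → D → ℂ) (s t₁ t₂ : IrrCharacter G → ℤ) (i₁ i₂ : ℕ) : Prop where
  gen : ∀ χ, IsGeneralizedCharacter D (E χ)
  stab : ∀ χ u, E χ (u ^ a) = E χ u
  gram : ∀ u u', u ≠ 1 → u' ≠ 1 → ∑ χ ∈ bset B, E χ u * conj (E χ u') =
    (Nat.card D : ℂ) * ((if u = u' then 1 else 0) + if u = u' ^ a then 1 else 0)
  red : ∀ χ, red M (E χ x) ≠ 0 ↔ red M (dv 2 M P e χ (ι x)) ≠ 0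
  val : ∀ χ, E χ (zz k x) = s χ
  orth : ∀ v ∈ P, NF P e ι v → ∀ d : IrrCharacter G → ℤ,
    (∀ χ : IrrCharacter G, dv 2 M P e χ v = d χ) →
    (∀ u, ∑ χ ∈ bset B, (d χ : ℂ) * conj (dv 2 M P e χ (ι u)) = 0) →
    ∀ u, u ≠ 1 → ∑ χ ∈ bset B, (d χ : ℂ) * conj (E χ u) = 0
  orth₁ : i₁ = 1 → ∑ χ ∈ bset B, t₁ χ * t₁ χ = 8 ∧
    ∀ u, u ≠ 1 → ∑ χ ∈ bset B, (t₁ χ : ℂ) * conj (E χ u) = 0
  orth₂ : i₂ = 1 → ∑ χ ∈ bset B, t₂ χ * t₂ χ = 8 ∧
    ∀ u, u ≠ 1 → ∑ χ ∈ bset B, (t₂ χ : ℂ) * conj (E χ u) = 0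
  ev₁ : ∀ χ, Even (s χ - t₁ χ)
  ev₂ : ∀ χ, Even (s χ - t₂ χ)
  ne : ∀ χ ∈ B, s χ = 0 → (i₁ = 1 ∧ t₁ χ ≠ 0) ∨ (i₂ = 1 ∧ t₂ χ ≠ 0)
  lt : ∀ χ ∈ B, s χ * s χ + 2 ^ k * i₁ * (t₁ χ * t₁ χ) + 2 ^ k * i₂ * (t₂ χ * t₂ χ) < 2 ^ (k + 3)
  ht : ∀ χ ∈ B, ∀ (j : ℕ) (o : ℤ), Odd o → s χ + 2 ^ k * i₁ * t₁ χ + 2 ^ k * i₂ * t₂ χ = 2 ^ j * o →
    blockHeight 2 B (χ : G → ℂ) = j
  rank : blockRank 2 (loc 2 M P e (zpowers (ι (zz k x)))) = 1 + i₁ + i₂
  le₁ : i₁ ≤ 1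
  le₂ : i₂ ≤ 1

theorem exists_sys (H : NoExo.{u} M) (h : MP 2 M B P e) (t : Tm k P ι x a y) [DecidableEq D]
    [Decidable (NF P e ι y)] [Decidable (NF P e ι (ι x * y))] :
    ∃ E s t₁ t₂ i₁ i₂ c₁ c₂, Sys M B P e k ι x a E s t₁ t₂ i₁ i₂ ∧ i₁ + i₂ + c₁ + c₂ = 2 ∧
      (y ^ 2 = 1 → c₁ = 1) ∧ (y ^ 2 = ι (zz k x) → c₁ = if NF P e ι y then 1 else 0) ∧
      ((ι x * y) ^ 2 = 1 → c₂ = 1) ∧
      ((ι x * y) ^ 2 = ι (zz k x) → c₂ = if NF P e ι (ι x * y) then 1 else 0) := by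
  have hzP := t.mem_ι (zz k x)
  obtain ⟨e', he', h'⟩ := h.down (Subgroup.zpowers_le.mpr hzP) t.le_Cen_z
  have hd : Down 2 M B P e _ _ e' := ⟨h, t.le_Cen_z, h', he'⟩
  have t' := t.subgroupOf t.le_Cen_z
  set ι' := ι.codRestrict _ fun u => t.le_Cen_z (t.mem_ι u) with hι'
  have hz' : Cen (zpowers (ι' (zz k x))) = ⊤ := by
    rw [eq_top_iff]
    intro g _
    rw [H86.mem_Cen_zpowers]
    exact Subtype.ext (H86.mem_Cen_zpowers.mp g.2)
  obtain ⟨η, ε, E'⟩ := exists_eta h' t' hz'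
  obtain ⟨σ, τ₁, τ₂, i₁, i₂, C, hi⟩ := @exists_cd _ _ _ _ _ _ _ _ _ _ _ _ _ _ _ _ H h' t' hz' _ _ E'
    (Classical.dec _) (Classical.dec _)
  letI := Classical.decPred (· ∈ zpowers (zz k x))
  letI := Classical.decPred (· ∈ H85.annih (zpowers (zz k x)))
  set c := loc 2 M P e (zpowers (ι (zz k x))) with hc
  have hres : ∀ χ : IrrCharacter G, IsGeneralizedCharacter _
      fun g : Cen (zpowers (ι (zz k x))) => (χ : G → ℂ) g := fun χ => H6.isGen_restrict _ (irr_gen χ)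
  have hcl := fun χ => H6.gen_isClassFunction (hres χ)
  have hsub : ∀ χ : IrrCharacter G, sub 2 (ι (zz k x)) _ c χ =
      pRegularPart 2 (blockPart c (sh (ι' (zz k x)) fun g => (χ : G → ℂ) g)) := fun _ => rfl
  choose s t₁ t₂ r hs ev₁ ev₂ hr using fun χ : IrrCharacter G =>
    C.dec _ (reg_blockPart_mem_lat (isGen_sh hz' t'.z_mul_z (hres χ)))
  simp only [← hsub] at hs
  let ρ : D → ℂ := fun u => if u ∈ zpowers (zz k x) then 2 ^ (k + 1) else 0
  have hρ : IsGeneralizedCharacter D ρ := by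
    have : ρ = ∑ l ∈ univ.filter (· ∈ H85.annih (zpowers (zz k x))), fun u => ((l u : ℂˣ) : ℂ) := by
      funext u
      rw [Finset.sum_apply, sum_annih, t.index_zz]
      simp [ρ]
    rw [this]
    exact H6.isGen_sum _ fun l _ => H6.irr_isGen (H6.isIrrCharacter_hom l)
  let E : IrrCharacter G → D → ℂ := fun χ =>
    η (blockPart c fun g => (χ : G → ℂ) g) + (r χ : ℂ) • ρ
  have hval : ∀ χ, ∀ u ∉ zpowers (zz k x), E χ u = dv 2 M P e χ (ι u) * ε u := by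
    intro χ u hu
    have h1 : u ≠ 1 := fun h1 => hu (h1 ▸ one_mem _)
    simp only [E, ρ, Pi.add_apply, Pi.smul_apply, if_neg hu, smul_zero, add_zero]
    rw [E'.val _ u hu, dv_blockPart h' (t'.mem_ι u) (hcl χ),
      ← hd.dv_eq (u := ι' u) (t.mem_ι u) (H86.Cen_anti (t.z_le h1))]
    rfl
  have hzz : ∀ χ, E χ (zz k x) = s χ := by
    intro χ
    have := hr χ
    rw [E'.reg, blockPart_sh hz' t'.z_mul_z (hcl χ), ← E'.shift, one_mul] at this
    simp only [E, ρ, Pi.add_apply, Pi.smul_apply, if_pos (Subgroup.mem_zpowers _), smul_eq_mul]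
    rw [← this, mul_comm]
  have hstab : ∀ χ u, E χ (u ^ a) = E χ u := fun χ u => by
    simp only [E, ρ, Pi.add_apply, Pi.smul_apply, t.zpow_mem_iff,
      E'.stab _ (isClassFunction_blockPart _ _)]
  have hq := qf_comb C.q₀₀ C.q₁₁ C.q₂₂ C.q₀₁ C.q₀₂ C.q₁₂
  have hl : ∀ (χ : IrrCharacter G) (s' t₁' t₂' : ℤ), qf 2 c (sub 2 (ι (zz k x)) _ c χ)
      ((s' : ℂ) • σ + (t₁' : ℂ) • τ₁ + (t₂' : ℂ) • τ₂) =
      s χ * s' + 2 ^ k * i₁ * (t₁ χ * t₁') + 2 ^ k * i₂ * (t₂ χ * t₂') := fun χ _ _ _ => by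
    rw [hs, hq]
  have hmem : ∀ s' t₁' t₂' : ℤ, (s' : ℂ) • σ + (t₁' : ℂ) • τ₁ + (t₂' : ℂ) • τ₂ ∈ regSpan 2 c :=
    fun _ _ _ => add_mem (add_mem (Submodule.smul_mem _ _ C.m₀) (Submodule.smul_mem _ _ C.m₁))
      (Submodule.smul_mem _ _ C.m₂)
  have hdef : blockDefect 2 c = k + 3 := defect_eq h' t'
  have hpe := h.isPElt hzP
  have hind := h.induced_z hzP
  have hsum : ∀ s' t₁' t₂' s'' t₁'' t₂'' : ℤ, ∑ χ ∈ bset B,
      (s' * s χ + 2 ^ k * i₁ * (t₁' * t₁ χ) + 2 ^ k * i₂ * (t₂' * t₂ χ)) *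
      (s χ * s'' + 2 ^ k * i₁ * (t₁ χ * t₁'') + 2 ^ k * i₂ * (t₂ χ * t₂'')) =
      2 ^ (k + 3) * (s' * s'' + 2 ^ k * i₁ * (t₁' * t₁'') + 2 ^ k * i₂ * (t₂' * t₂'')) := by
    intro s' t₁' t₂' s'' t₁'' t₂''
    have := sum_qf_mul_qf h.hM hpe (isCen_zpowers _) hind (hmem s' t₁' t₂')
      ((s'' : ℂ) • σ + (t₁'' : ℂ) • τ₁ + (t₂'' : ℂ) • τ₂)
    simp only [← hc, hs, hq, hdef] at this
    exact_mod_cast this
  have hdv : ∀ v ∈ P, ¬ Fus 2 P e (ι (zz k x)) v → ∀ s' t₁' t₂' : ℤ, ∑ χ ∈ bset B,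
      ((s χ : ℂ) * s' + 2 ^ k * i₁ * (t₁ χ * t₁') + 2 ^ k * i₂ * (t₂ χ * t₂')) *
      conj (dv 2 M P e χ v) = 0 := fun v hv hf s' t₁' t₂' => by
    simpa only [← hc, hl] using sum_qf_dv h hzP hv hf (hmem s' t₁' t₂')
  have hnf : ∀ u ∉ zpowers (zz k x), ¬ Fus 2 P e (ι (zz k x)) (ι u) := fun u hu hf => hu (by
    rcases fus_ι h t hf with h1 | h1
    · exact h1 ▸ Subgroup.mem_zpowers _
    · rw [h1, t.zz_zpow]; exact Subgroup.mem_zpowers _)
  have hcase : ∀ u : D, u ≠ 1 → u = zz k x ∨ u ∉ zpowers (zz k x) := fun u hu => by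
    rw [t.mem_zpowers_zz]; tauto
  have hoff : ∀ W : IrrCharacter G → ℂ, ∀ u ∉ zpowers (zz k x),
      ∑ χ ∈ bset B, W χ * conj (dv 2 M P e χ (ι u)) = 0 →
      ∑ χ ∈ bset B, W χ * conj (E χ u) = 0 := fun W u hu h0 => by
    simp only [hval _ u hu, map_mul, ← mul_assoc, ← sum_mul, h0, zero_mul]
  have hso : ∀ u ∉ zpowers (zz k x), ∑ χ ∈ bset B, (s χ : ℂ) * conj (E χ u) = 0 :=
    fun u hu => hoff _ u hu (by simpa using hdv _ (t.mem_ι u) (hnf u hu) 1 0 0)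
  have h2k : (2 : ℤ) ^ k ≠ 0 := by positivity
  have h2k' : (2 : ℂ) ^ k ≠ 0 := pow_ne_zero _ two_ne_zero
  refine ⟨E, s, t₁, t₂, i₁, i₂, _, _, ⟨fun χ => ?_, hstab, fun u u' hu hu' => ?_, fun χ => ?_, hzz,
    fun v hv hn d h1 h2 u hu => ?_, fun h1 => ⟨?_, fun u hu => ?_⟩, fun h1 => ⟨?_, fun u hu => ?_⟩,
    ev₁, ev₂, fun χ hχ h0 => ?_, fun χ hχ => ?_, fun χ hχ j o ho hj => ?_, C.rank, C.le₁, C.le₂⟩,
    hi, fun h2 => ?_, fun h2 => ?_, fun h2 => ?_, fun h2 => ?_⟩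
  · exact H6.isGen_add (E'.gen _ (isGen_blockPart _ (hres χ))) (H6.isGen_intCast_smul _ hρ)
  · rcases hcase u hu with rfl | hu <;> rcases hcase u' hu' with rfl | hu'
    · have := hsum 1 0 0 1 0 0
      simp only [hzz, map_intCast, t.zz_zpow, if_true, t.card]
      simp only [one_mul, mul_one, zero_mul, mul_zero, add_zero] at this
      rw [← Int.cast_inj (α := ℂ)] at this
      push_cast at this ⊢
      rw [this]
      ring
    · have k1 : zz k x ≠ u' := fun h1 => hu' (h1 ▸ Subgroup.mem_zpowers _)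
      have k2 : zz k x ≠ u' ^ a := fun h1 =>
        hu' ((t.zpow_mem_iff _).mp (h1 ▸ Subgroup.mem_zpowers _))
      simp only [hzz, hso u' hu', if_neg k1, if_neg k2, add_zero, mul_zero]
    · have k1 : u ≠ zz k x := fun h1 => hu (h1 ▸ Subgroup.mem_zpowers _)
      have := congrArg conj (hso u hu)
      simp only [map_sum, map_mul, Complex.conj_conj, map_zero, mul_comm (conj _)] at this
      simp only [hzz, t.zz_zpow, if_neg k1, add_zero, mul_zero, this]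
    · exact gram_off h t (fun χ _ => hval χ) (fun u hu => (E'.unit u hu).1) hstab hu hu'
  · rw [hval _ _ t.not_mem]
    exact E'.red_iff t.not_mem (mem_O_of_isIntegral M (h.isIntegral_dv (t.mem_ι x) (irr_gen χ)))
  · rcases hcase u hu with rfl | hu
    · simpa [hzz, h1, mul_comm] using hdv v hv (hn _) 1 0 0
    · exact hoff _ u hu (h2 u)
  · have := hsum 0 1 0 0 1 0
    simp only [h1, Nat.cast_one, one_mul, mul_one, zero_mul, mul_zero, add_zero, zero_add,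
      mul_mul_mul_comm (2 ^ k : ℤ) _ (2 ^ k), ← mul_sum] at this
    exact mul_left_cancel₀ (mul_ne_zero h2k h2k) (by rw [this]; ring)
  · rcases hcase u hu with rfl | hu
    · have := hsum 0 1 0 1 0 0
      simp only [h1, Nat.cast_one, one_mul, mul_one, zero_mul, mul_zero, add_zero, zero_add,
        mul_assoc, ← mul_sum, mul_eq_zero, h2k, false_or] at this
      simp only [hzz, map_intCast]
      exact_mod_cast this
    · refine hoff _ u hu ?_
      simpa [h1, mul_assoc, ← mul_sum] using hdv _ (t.mem_ι u) (hnf u hu) 0 1 0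
  · have := hsum 0 0 1 0 0 1
    simp only [h1, Nat.cast_one, one_mul, mul_one, zero_mul, mul_zero, add_zero, zero_add,
      mul_mul_mul_comm (2 ^ k : ℤ) _ (2 ^ k), ← mul_sum] at this
    exact mul_left_cancel₀ (mul_ne_zero h2k h2k) (by rw [this]; ring)
  · rcases hcase u hu with rfl | hu
    · have := hsum 0 0 1 1 0 0
      simp only [h1, Nat.cast_one, one_mul, mul_one, zero_mul, mul_zero, add_zero, zero_add,
        mul_assoc, ← mul_sum, mul_eq_zero, h2k, false_or] at this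
      simp only [hzz, map_intCast]
      exact_mod_cast this
    · refine hoff _ u hu ?_
      simpa [h1, mul_assoc, ← mul_sum] using hdv _ (t.mem_ι u) (hnf u hu) 0 0 1
  · by_contra h1
    refine sub_ne_zero_of_major h.hM hpe (isCen_zpowers _) hind (hdef.trans (defect_eq h t).symm)
      hχ ((qf_self_eq_zero (p := 2) (b := c)).mp ?_)
    have k1 : i₁ = 0 ∨ t₁ χ = 0 := by have := C.le₁; by_contra; omega
    have k2 : i₂ = 0 ∨ t₂ χ = 0 := by have := C.le₂; by_contra; omega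
    rw [← hc, hs, hq, h0]
    rcases k1 with k1 | k1 <;> rcases k2 with k2 | k2 <;> simp [k1, k2]
  · have h1 := qf_sub_lt h hzP t.z_ne_one hχ
    have h2 := hl χ (s χ) (t₁ χ) (t₂ χ)
    rw [← hs, qf_apply, hdef] at h2
    have h3 : ((s χ * s χ + 2 ^ k * i₁ * (t₁ χ * t₁ χ) + 2 ^ k * i₂ * (t₂ χ * t₂ χ) : ℤ) : ℝ) =
        2 ^ (k + 3) * (classInner (sub 2 (ι (zz k x)) _ c χ) (sub 2 (ι (zz k x)) _ c χ)).re := by
      rw [← Complex.intCast_re, ← Complex.re_ofReal_mul]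
      push_cast at h2 ⊢
      rw [h2]
    rw [← Int.cast_lt (R := ℝ), h3]
    push_cast
    exact mul_lt_of_lt_one_right (by positivity) h1
  · have h1 := (major_lat h.hM hpe (isCen_zpowers _) hind (hdef.trans (defect_eq h t).symm) hχ
      C.mem).2.mpr C.odd
    have h2 := hl χ 1 1 1
    simp only [Int.cast_one, one_smul, mul_one] at h2
    rw [← hc, h2] at h1
    exact height_eq_of_red h.hM (by exact_mod_cast h1) ho hj
  · exact if_pos (nf_of_sq t' hz' (Subtype.ext h2))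
  · exact @if_congr _ _ _ (_) _ _ _ _ _ (nf_iff t hd h2) rfl rfl
  · exact if_pos (nf_of_sq (t'.shift x) hz' (Subtype.ext h2))
  · exact @if_congr _ _ _ (_) _ _ _ _ _ (nf_iff (t.shift x) hd h2) rfl rfl

theorem card_subtype_eq {I : Type*} {Q : I → Prop} {s : Finset I} (h : ∀ i, Q i ↔ i ∈ s) :
    Nat.card {i // Q i} = s.card := by
  rw [← Nat.card_eq_finsetCard]
  exact Nat.card_congr (Equiv.subtypeEquivRight h)

/-- The numerical invariants of a block with tame defect group. -/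
theorem tame_main (H : NoExo.{u} M) (h : MP 2 M B P e) (t : Tm k P ι x a y)
    [Decidable (NF P e ι y)] [Decidable (NF P e ι (ι x * y))] :
    ∃ g c₁ c₂ : ℕ, Nat.card B = 2 ^ (k + 1) + 3 + g ∧
      blockRank 2 B + (if NF P e ι y then 1 else 0) + (if NF P e ι (ι x * y) then 1 else 0) =
        1 + g + c₁ + c₂ ∧ g + c₁ + c₂ ≤ 2 ∧
      Nat.card {χ : IrrCharacter G // χ ∈ B ∧ blockHeight 2 B (χ : G → ℂ) = 0} = 4 ∧
      (∀ χ ∈ B, blockHeight 2 B (χ : G → ℂ) = 0 ∨ blockHeight 2 B (χ : G → ℂ) = 1 ∨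
        (blockHeight 2 B (χ : G → ℂ) = k + 1 ∧ 0 < g)) ∧
      (1 ≤ k → Nat.card {χ : IrrCharacter G // χ ∈ B ∧ blockHeight 2 B (χ : G → ℂ) = 1} =
        2 ^ (k + 1) - 1) ∧
      (y ^ 2 = 1 → c₁ = 1) ∧ (y ^ 2 = ι (zz k x) → c₁ = if NF P e ι y then 1 else 0) ∧
      ((ι x * y) ^ 2 = 1 → c₂ = 1) ∧
      ((ι x * y) ^ 2 = ι (zz k x) → c₂ = if NF P e ι (ι x * y) then 1 else 0) := by
  letI := Classical.decEq D
  letI := Classical.decEq (D →* ℂˣ)
  letI := Classical.decEq (IrrCharacter G)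
  obtain ⟨E, s, t₁, t₂, i₁, i₂, c₁, c₂, S, hi, hc⟩ := exists_sys H h t
  obtain ⟨R, l, v, n, V⟩ := exists_vec t.toCycT ⊥ bot_le (bset B) E S.gen S.stab S.gram
  have hcard := V.card
  rw [Subgroup.index_bot, t.card] at hcard
  have hodd : ∀ χ ∈ B, Odd (v l χ) ↔ blockHeight 2 B (χ : G → ℂ) = 0 := fun χ hχ =>
    V.odd_iff h t hχ (S.gen χ) (S.red χ)
  obtain ⟨o, ho, ho0⟩ := H33.exists_height_zero (p := 2) h.hB
  have hw : ∀ χ ∈ B, v l χ ≠ 0 ↔ blockHeight 2 B (χ : G → ℂ) = 0 := by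
    obtain ⟨a, b, e, f, F4⟩ := exists_four V.four (mem_bset.mpr ho) ((hodd o ho).mpr ho0)
    intro χ hχ
    rw [← hodd χ hχ]
    refine ⟨fun h0 => ?_, fun ⟨j, hj⟩ => by omega⟩
    have := F4.wa; have := F4.wb; have := F4.we; have := F4.wf
    rcases (F4.ne_zero_iff (mem_bset.mpr hχ)).mp h0 with rfl | rfl | rfl | rfl <;>
      rw [Int.odd_iff] <;> omega
  have hs : ∀ χ, (s χ : ℂ) = v l χ + ∑ r ∈ R, (v r χ : ℂ) * (2 * (r (zz k x) : ℂ)) := fun χ => by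
    rw [← S.val, V.exp χ (fun u s hs => by rw [Subgroup.mem_bot.mp hs, mul_one]) _ t.zz_ne_one,
      V.lz, t.zz_zpow]
    simp only [Units.val_one, mul_one, two_mul]
  have hrz : ∀ r : D →* ℂˣ, ∃ j : ℤ, (j = 1 ∨ j = -1) ∧ (r (zz k x) : ℂ) = j := fun r => by
    have : (r (zz k x) : ℂ) * r (zz k x) = 1 := by
      rw [← Units.val_mul, ← map_mul, t.zz_mul_zz, map_one, Units.val_one]
    rcases mul_self_eq_one_iff.mp this with h1 | h1
    exacts [⟨1, Or.inl rfl, by simpa using h1⟩, ⟨-1, Or.inr rfl, by simpa using h1⟩]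
  choose j hj hrj using hrz
  have hs' : ∀ χ, s χ = v l χ + ∑ r ∈ R, v r χ * (2 * j r) := fun χ => by
    have := hs χ
    simp only [hrj] at this
    exact_mod_cast this
  have hpar : ∀ χ, Even (s χ - v l χ) := fun χ => by
    rw [hs', add_sub_cancel_left]
    exact even_sum _ fun r _ => (even_two_mul _).mul_left _
  have hto : ∀ t : IrrCharacter G → ℤ, (∀ χ, Even (s χ - t χ)) →
      (∀ χ ∈ bset B, v l χ ≠ 0 → Odd (t χ)) ∧ ∀ χ ∈ bset B, v l χ = 0 → Even (t χ) := by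
    intro t ht
    refine ⟨fun χ hχ h0 => ?_, fun χ hχ h0 => ?_⟩
    · have h1 := (hodd χ (mem_bset.mp hχ)).mpr ((hw χ (mem_bset.mp hχ)).mp h0)
      have h2 := ht χ; have h3 := hpar χ
      rw [Int.odd_iff] at h1 ⊢
      rw [Int.even_iff] at h2 h3
      omega
    · have h2 := ht χ; have h3 := hpar χ
      rw [Int.even_iff] at h2 h3 ⊢
      omega
  have horth : ∀ d : IrrCharacter G → ℤ,
      (∀ u, u ≠ 1 → ∑ χ ∈ bset B, (d χ : ℂ) * conj (E χ u) = 0) →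
      ∑ i ∈ bset B, v l i * d i = 0 ∧ ∀ r ∈ R, ∑ i ∈ bset B, v r i * d i = 0 := fun d hd => by
    obtain ⟨k5, k6⟩ := V.orth (fun χ => d χ) hd
    exact ⟨by exact_mod_cast k5, fun r hr => by exact_mod_cast k6 r hr⟩
  have hdd : ∀ y, Tm k P ι x a y → ∃ d : IrrCharacter G → ℤ, NF P e ι y →
      ∑ i ∈ bset B, d i * d i = 4 ∧ (∀ i ∈ bset B, v l i ≠ 0 → Odd (d i)) ∧
      ∑ i ∈ bset B, v l i * d i = 0 ∧ ∀ r ∈ R, ∑ i ∈ bset B, v r i * d i = 0 := by
    intro y t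
    obtain ⟨d, hd⟩ := exists_dvec h t
    refine ⟨d, fun hy => ?_⟩
    obtain ⟨k1, k2, k3, k4⟩ := hd hy
    exact ⟨k2, fun i hi h0 => (k3 i (mem_bset.mp hi)).mpr ((hw i (mem_bset.mp hi)).mp h0),
      horth d (S.orth y t.mem_y hy d k1 k4)⟩
  obtain ⟨d₁, hd₁⟩ := hdd y t
  obtain ⟨d₂, hd₂⟩ := hdd _ (t.shift x)
  have hkl : Nat.card B + 1 = blockRank 2 B + 1 + i₁ + i₂ + 2 ^ (k + 1) +
      (if NF P e ι y then 1 else 0) + if NF P e ι (ι x * y) then 1 else 0 := by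
    obtain ⟨T, hT, hTc, Y, hY, hsum⟩ := exists_reps h t
    obtain ⟨ψ, hψ, -⟩ := exists_equiv_cen h (one_mem P) Cen_one
    have h1 : blockRank 2 (loc 2 M P e (zpowers 1)) = blockRank 2 B := by
      conv_rhs => rw [hψ, blockRank_trI]
    rw [h.card_eq_sum hY, hsum, h1, S.rank, sum_congr rfl fun u hu => (loc_ι h t (hT u hu)).1,
      sum_const, smul_eq_mul, mul_one, ← hTc]
    have k1 : (if NF P e ι y then blockRank 2 (loc 2 M P e (zpowers y)) else 0) =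
        if NF P e ι y then 1 else 0 := by
      split_ifs with hy
      exacts [(loc_y h t hy).1, rfl]
    have k2 : (if NF P e ι (ι x * y) then blockRank 2 (loc 2 M P e (zpowers (ι x * y))) else 0) =
        if NF P e ι (ι x * y) then 1 else 0 := by
      split_ifs with hy
      exacts [(loc_y h (t.shift x) hy).1, rfl]
    rw [k1, k2]
    ring
  rcases shape (card_ne_two hcard) V.three V.two V.two' V.four (mem_bset.mpr ho)
    ((hodd o ho).mpr ho0) hd₁ hd₂ with ⟨a, b, e', f, c, St, -, -⟩ | ⟨n₁, n₂, π, o', X⟩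
  swap
  · exfalso
    have key : ∀ (i : ℕ) (t : IrrCharacter G → ℤ), i ≤ 1 → (∀ χ, Even (s χ - t χ)) →
        (i = 1 → ∑ χ ∈ bset B, t χ * t χ = 8 ∧
          ∀ u, u ≠ 1 → ∑ χ ∈ bset B, (t χ : ℂ) * conj (E χ u) = 0) → i = 0 := by
      intro i t hi ht h8
      by_contra h0
      obtain ⟨k1, k2⟩ := h8 (by omega)
      obtain ⟨m, hm⟩ := (hto t ht).1 o' X.mo X.wo
      have := X.le_norm (horth t k2).1 (horth t k2).2 (by omega)
      omega
    have k1 := key _ _ S.le₁ S.ev₁ S.orth₁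
    have k2 := key _ _ S.le₂ S.ev₂ S.orth₂
    have k3 : Nat.card B = 5 := by
      rw [← X.supp, filter_true_of_mem, card_bset]
      intro χ hχ h0
      obtain ⟨h1, h2⟩ := (X.zero χ hχ).mp h0
      have := S.ne χ (mem_bset.mp hχ) (by
        rw [hs', h1, zero_add]
        exact sum_eq_zero fun r hr => by rw [h2 r hr, zero_mul])
      omega
    rw [X.card] at hcard
    have k4 : k + 2 = 3 := Nat.pow_right_injective le_rfl hcard.symm
    obtain rfl : k = 1 := by omega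
    rw [if_neg n₁, if_neg n₂] at hkl
    exact H G B h.hB (by omega) k3 (defect_eq h t)
  have F4 := St.four
  have hca : ∀ r ∈ R, c r ∉ ({a, b, e', f} : Finset _) := fun r hr => by
    simp [(St.row r hr).ca, (St.row r hr).cb, (St.row r hr).ce, (St.row r hr).cf]
  have h4 : ∀ χ ∈ B, χ ∈ ({a, b, e', f} : Finset _) ↔ blockHeight 2 B (χ : G → ℂ) = 0 :=
    fun χ hχ => by rw [← hw χ hχ, F4.ne_zero_iff (mem_bset.mpr hχ)]; simp
  have h4B : ({a, b, e', f} : Finset _) ⊆ bset B := by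
    simp [insert_subset_iff, F4.ma, F4.mb, F4.me, F4.mf]
  have hc4 : ({a, b, e', f} : Finset _).card = 4 := by
    rw [card_insert_of_notMem (by simp [F4.ab, F4.ae, F4.af]),
      card_insert_of_notMem (by simp [F4.be, F4.bf]), card_pair F4.ef]
  have hl0 : ∀ χ ∈ bset B \ {a, b, e', f}, v l χ = 0 := fun χ hχ => by
    simp only [mem_sdiff, mem_insert, mem_singleton, not_or] at hχ
    exact F4.zero χ hχ.1 hχ.2.1 hχ.2.2.1 hχ.2.2.2.1 hχ.2.2.2.2
  have hv0 : ∀ χ ∈ bset B \ {a, b, e', f}, ∀ r ∈ R, χ ≠ c r → v r χ = 0 := fun χ hχ r hr h1 => by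
    simp only [mem_sdiff, mem_insert, mem_singleton, not_or] at hχ
    exact (St.row r hr).zero χ hχ.1 hχ.2.1 hχ.2.2.1 hχ.2.2.2.1 hχ.2.2.2.2 h1
  have hcB : R.image c ⊆ bset B \ {a, b, e', f} := by
    intro χ hχ
    obtain ⟨r, hr, rfl⟩ := mem_image.mp hχ
    exact mem_sdiff.mpr ⟨(St.row r hr).mc, hca r hr⟩
  have hone : ∀ χ ∈ R.image c, blockHeight 2 B (χ : G → ℂ) = 1 := by
    intro χ hχ
    have h1 := hcB hχ
    obtain ⟨r, hr, rfl⟩ := mem_image.mp hχ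
    have h2 := (mem_sdiff.mp h1).1
    have h3 : s (c r) = 2 ∨ s (c r) = -2 := by
      rw [hs', hl0 _ h1, zero_add, sum_eq_single_of_mem r hr fun r' hr' hne => by
        rw [hv0 _ h1 r' hr' fun h3 => hne (St.inj _ hr _ hr' h3).symm, zero_mul]]
      rcases (St.row r hr).vc with h3 | h3 <;> rcases hj r with h4 | h4 <;> rw [h3, h4] <;> simp
    obtain ⟨o, ho, h5⟩ := one_aux h3 ((hto _ S.ev₁).2 _ h2 (hl0 _ h1))
      ((hto _ S.ev₂).2 _ h2 (hl0 _ h1)) (S.lt _ (mem_bset.mp h2))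
    exact S.ht _ (mem_bset.mp h2) _ o ho h5
  set X := (bset B \ {a, b, e', f}) \ R.image c with hX
  have hx0 : ∀ χ ∈ X, s χ = 0 := fun χ hχ => by
    obtain ⟨h1, h2⟩ := mem_sdiff.mp hχ
    rw [hs', hl0 _ h1, zero_add]
    exact sum_eq_zero fun r hr => by
      rw [hv0 _ h1 r hr fun h3 => h2 (h3 ▸ mem_image_of_mem c hr), zero_mul]
  have hxh : ∀ χ ∈ X, blockHeight 2 B (χ : G → ℂ) = k + 1 := fun χ hχ => by
    have h1 := (mem_sdiff.mp hχ).1
    have h2 := (mem_sdiff.mp h1).1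
    have h3 := S.lt _ (mem_bset.mp h2)
    rw [hx0 χ hχ, zero_mul, zero_add] at h3
    obtain ⟨o, ho, h5⟩ := extra_aux S.le₁ S.le₂ ((hto _ S.ev₁).2 _ h2 (hl0 _ h1))
      ((hto _ S.ev₂).2 _ h2 (hl0 _ h1)) h3 (S.ne _ (mem_bset.mp h2) (hx0 χ hχ))
    exact S.ht _ (mem_bset.mp h2) _ o ho (by rw [hx0 χ hχ, zero_add, h5])
  have hg : X.card ≤ i₁ + i₂ := by
    have key : ∀ (i : ℕ) (t : IrrCharacter G → ℤ), (∀ χ, Even (s χ - t χ)) →
        (i = 1 → ∑ χ ∈ bset B, t χ * t χ = 8 ∧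
          ∀ u, u ≠ 1 → ∑ χ ∈ bset B, (t χ : ℂ) * conj (E χ u) = 0) →
        ((bset B \ {a, b, e', f}).filter fun χ => i = 1 ∧ t χ ≠ 0).card ≤ i := by
      intro i t ht h8
      by_cases h1 : i = 1
      · simp only [h1, true_and]
        exact card_le_one_of_eight F4 (h8 h1).1 (hto t ht).1 (hto t ht).2
      · simp [h1]
    refine (card_le_card fun χ hχ => ?_).trans ((card_union_le _ _).trans
      (add_le_add (key _ _ S.ev₁ S.orth₁) (key _ _ S.ev₂ S.orth₂)))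
    have h1 := (mem_sdiff.mp hχ).1
    simpa only [mem_union, mem_filter, h1, true_and] using
      S.ne _ (mem_bset.mp (mem_sdiff.mp h1).1) (hx0 χ hχ)
  have hcR : (R.image c).card = 2 ^ (k + 1) - 1 := by
    rw [card_image_of_injOn fun r hr r' hr' => St.inj r hr r' hr']
    rw [pow_succ] at hcard
    omega
  have hkB : Nat.card B = 2 ^ (k + 1) + 3 + X.card := by
    have h1 := card_sdiff_add_card_eq_card hcB
    have h2 := card_sdiff_add_card_eq_card h4B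
    have h3 : 0 < 2 ^ (k + 1) := by positivity
    rw [card_bset] at h2
    rw [← hX] at h1
    omega
  have hcases : ∀ χ ∈ B, χ ∈ ({a, b, e', f} : Finset _) ∨ χ ∈ R.image c ∨ χ ∈ X := fun χ hχ => by
    simp only [hX, mem_sdiff, mem_bset, hχ, true_and]
    tauto
  refine ⟨X.card, c₁, c₂, hkB, by omega, by omega, ?_, fun χ hχ => ?_, fun hk => ?_, hc⟩
  · rw [← hc4]
    exact card_subtype_eq fun χ => ⟨fun h1 => (h4 χ h1.1).mpr h1.2, fun h1 =>
      ⟨mem_bset.mp (h4B h1), (h4 χ (mem_bset.mp (h4B h1))).mp h1⟩⟩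
  · rcases hcases χ hχ with h1 | h1 | h1
    exacts [Or.inl ((h4 χ hχ).mp h1), Or.inr (Or.inl (hone χ h1)),
      Or.inr (Or.inr ⟨hxh χ h1, card_pos.mpr ⟨χ, h1⟩⟩)]
  · rw [← hcR]
    refine card_subtype_eq fun χ => ⟨fun ⟨hχ, h1⟩ => ?_, fun h1 =>
      ⟨mem_bset.mp (mem_sdiff.mp (hcB h1)).1, hone χ h1⟩⟩
    rcases hcases χ hχ with h2 | h2 | h2
    · have := (h4 χ hχ).mp h2
      omega
    · exact h2
    · have := hxh χ h2
      omega

end H33.Tame
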