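import Mathlib
import Cfsg.Agent.Lib.Tame.Main
import Cfsg.Agent.Lib.Cyc.Small

/-! Blocks with dihedral, semidihedral and quaternion defect groups. -/

set_option autoImplicit false
set_option linter.unusedSectionVars false
set_option linter.style.haveILetI false
attribute [local irreducible] H33.instFieldF

namespace H33.Tame

open Cfsg H84 H35 H85 Finset
open H86 (Cen)
open Subgroup (zpowers)

universe u

theorem noExo {M : Ideal AlgInt} (hM : IsPModular 2 M) : NoExo.{u} M := by
  intro K _ _ b hb hl hk hd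
  haveI := H33.isMaximal_of hM
  rcases H35C.rank_one_small hM hb hl hk.le with h | ⟨-, h⟩
  · rw [hk, hd] at h
    norm_num at h
  · rw [hd] at h
    norm_num at h

variable {G : Type u} [Group G] [Fintype G] {M : Ideal AlgInt} [M.IsMaximal]
  {B : Set (IrrCharacter G)} {P : Subgroup G} {e : MonoidAlgebra (F M) G}
  {D : Type*} [CommGroup D] [Fintype D] {k : ℕ} {x : D} {a : ℤ} {ι : D →* G} {y : G}

theorem Tm.isConj_z (t : Tm k P ι x a y) (h2 : y ^ 2 = 1) (hy : ¬ NF P e ι y) :
    IsConj (ι (zz k x)) y := by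
  obtain ⟨u, hu⟩ := not_forall_not.mp hy
  obtain ⟨g, hg⟩ := isConj_iff.mp hu.isConj
  have h3 : u ^ 2 = 1 := t.inj (by
    rw [← hg, conj_pow, mul_inv_eq_one, mul_eq_left] at h2
    rw [map_pow, h2, map_one])
  rcases t.sq_eq_one_iff.mp h3 with rfl | rfl
  · exact absurd (by simpa using hg.symm) (t.ny 1)
  · exact hu.isConj

theorem Tm.odd_center (h : MP 2 M B P e) (t : Tm k P ι x a y) (hy : IsConj (ι (zz k x)) y) :
    Odd (Nat.card (Subgroup.center G)) := by
  rw [← Nat.not_even_iff_odd, even_iff_two_dvd]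
  intro h2
  obtain ⟨⟨w, hw⟩, ho⟩ := exists_prime_orderOf_dvd_card' 2 h2
  rw [← Subgroup.orderOf_coe] at ho
  have hc := Subgroup.mem_center_iff.mp hw
  haveI : (zpowers w).Normal := ⟨fun n hn g => by
    rwa [Subgroup.mem_center_iff.mp (Subgroup.zpowers_le.mpr hw hn) g, mul_inv_cancel_right]⟩
  have hP : w ∈ P := H33.normal_le_defect h.hM h.hB h.defect
    (IsPGroup.of_card (n := 1) (by rw [Nat.card_zpowers, ho, pow_one])) (Subgroup.mem_zpowers w)
  have h1 := t.eq_z_of_central hP (hc _) (ho ▸ pow_orderOf_eq_one w) (by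
    rintro rfl
    simp at ho)
  obtain ⟨g, hg⟩ := isConj_iff.mp hy
  exact t.ny _ (by rw [← hg, ← h1, hc, mul_inv_cancel_right])

theorem Tm.not_solvable (t : Tm k P ι x a y) (hy : IsConj (ι (zz k x)) y)
    (h : 1 ≤ k ∨ IsConj (ι (zz k x)) (ι x * y)) : ¬ Group.IsSolvable G := by
  rintro ⟨n, hn⟩
  have key : ∀ n, ι (zz k x) ∈ derivedSeries G n := by
    intro n
    induction n with
    | zero => trivial
    | succ n ih =>
      have hN := derivedSeries_normal G n
      have conj : ∀ g, IsConj (ι (zz k x)) g → g ∈ derivedSeries G n := fun g hg => by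
        obtain ⟨c, rfl⟩ := isConj_iff.mp hg
        exact hN.conj_mem _ ih c
      have h1 := conj y hy
      obtain ⟨u, hu, h2⟩ : ∃ u, u ∉ zpowers (zz k x) ∧ ι u ∈ derivedSeries G n := by
        rcases h with h | h
        · obtain ⟨g, -, hg⟩ := t.exists_conj_sq x
          refine ⟨x ^ 2, fun h2 => ?_, ?_⟩
          · have h3 : (x ^ 2) ^ 2 = 1 := t.sq_eq_one_iff.mpr (t.mem_zpowers_zz.mp h2)
            rw [← pow_mul, ← orderOf_dvd_iff_pow_eq_one, t.ord] at h3
            have := Nat.le_of_dvd (by norm_num) h3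
            have := Nat.pow_le_pow_right (n := 2) two_pos (show 3 ≤ k + 2 by omega)
            omega
          · exact (Subgroup.mul_mem_cancel_right _ h1).mp (hg ▸ hN.conj_mem _ h1 g)
        · exact ⟨x, t.not_mem, (Subgroup.mul_mem_cancel_right _ h1).mp (conj _ h)⟩
      have h3 : u ^ a * u⁻¹ ≠ 1 := fun h3 =>
        hu (t.mem_zpowers_zz.mpr (t.zpow_eq_iff.mp (mul_inv_eq_one.mp h3)))
      refine (Subgroup.zpowers_le.mpr ?_ : zpowers (ι (u ^ a * u⁻¹)) ≤ _)
        (t.z_le h3 (Subgroup.mem_zpowers _))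
      rw [map_mul, ← t.conj, map_inv, ← commutatorElement_def]
      exact Subgroup.commutator_mem_commutator h1 h2
  exact t.z_ne_one (by simpa [hn] using key n)

theorem Tm.sq_neg_one (t : Tm k P ι x (-1) y) : (ι x * y) ^ 2 = y ^ 2 := by
  rw [t.ιy_sq, zpow_neg_one, mul_inv_cancel, map_one, one_mul]

theorem Tm.sq_quasi (t : Tm k P ι x (2 ^ (k + 1) - 1) y) (h2 : y ^ 2 = 1) :
    (ι x * y) ^ 2 = ι (zz k x) := by
  rw [t.ιy_sq, h2, mul_one, ← zpow_one_add, add_sub_cancel, zz, ← zpow_natCast]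
  simp

end H33.Tame
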